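import Mathlib

/-!
# Sums of roots of unity in `ℂ`

Norm bound, equality cases, integrality, and the lemma used for Burnside's vanishing theorem:
an average of roots of unity which is an algebraic integer is either zero or a root of unity
equal to each of the summands.
-/

namespace Cfsg.Agent.CharInt

open scoped ComplexConjugate

variable {ι : Type*} {m : ℕ}

theorem norm_eq_one_of_pow_eq_one {z : ℂ} (hm : m ≠ 0) (h : z ^ m = 1) : ‖z‖ = 1 :=
  Complex.norm_eq_one_of_pow_eq_one h hm

theorem isIntegral_of_pow_eq_one {z : ℂ} (hm : m ≠ 0) (h : z ^ m = 1) : IsIntegral ℤ z :=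
  ⟨Polynomial.X ^ m - 1, by simpa using Polynomial.monic_X_pow_sub_C (1 : ℤ) hm, by simp [h]⟩

theorem conj_eq_inv_of_pow_eq_one {z : ℂ} (hm : m ≠ 0) (h : z ^ m = 1) : conj z = z⁻¹ := by
  rw [Complex.inv_eq_conj (norm_eq_one_of_pow_eq_one hm h)]

theorem norm_sum_le_card_of_norm_eq_one [Fintype ι] (μ : ι → ℂ) (h : ∀ i, ‖μ i‖ = 1) :
    ‖∑ i, μ i‖ ≤ Fintype.card ι :=
  (norm_sum_le _ _).trans (by simp [h])

/-- If numbers of absolute value one have a sum of absolute value equal to their number, they are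
all equal. -/
theorem all_eq_of_norm_sum_eq_card [Fintype ι] (μ : ι → ℂ) (h : ∀ i, ‖μ i‖ = 1)
    (hsum : ‖∑ i, μ i‖ = Fintype.card ι) (i : ι) :
    μ i = (∑ j, μ j) / (Fintype.card ι : ℂ) := by
  have hn : (0 : ℝ) < Fintype.card ι := by
    exact_mod_cast Fintype.card_pos_iff.2 ⟨i⟩
  set s := ∑ j, μ j with hs
  set u : ℂ := s / (Fintype.card ι : ℂ) with hu
  have hu1 : ‖u‖ = 1 := by
    rw [hu, norm_div, hsum, Complex.norm_natCast, div_self hn.ne']
  have key : ∀ j, (conj u * μ j).re ≤ 1 := fun j =>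
    (Complex.re_le_norm _).trans (by simp [hu1, h j])
  have hsum' : ∑ j, (1 - (conj u * μ j).re) = 0 := by
    rw [Finset.sum_sub_distrib, ← Complex.re_sum, ← Finset.mul_sum, ← hs]
    have hsu : s = (Fintype.card ι : ℂ) * u := by
      rw [hu, mul_div_cancel₀]
      exact_mod_cast hn.ne'
    rw [hsu, mul_left_comm, Complex.conj_mul', hu1]
    simp
  have h1 := (Finset.sum_eq_zero_iff_of_nonneg (fun j _ => sub_nonneg.2 (key j))).1 hsum' i
    (Finset.mem_univ i)
  have h2 : ‖conj u * μ i‖ = 1 := by simp [hu1, h i]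
  have h3 : conj u * μ i = 1 := by
    have hre : (conj u * μ i).re = 1 := by linarith
    have him : (conj u * μ i).im = 0 := by
      have := Complex.sq_norm (conj u * μ i)
      rw [h2, Complex.normSq_apply, hre] at this
      nlinarith
    exact Complex.ext (by simp [hre]) (by simp [him])
  calc μ i = u * (conj u * μ i) := by
        rw [← mul_assoc, Complex.mul_conj', hu1]; simp
    _ = u := by rw [h3, mul_one]

/-- If numbers of absolute value one sum to their number, they are all one. -/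
theorem all_one_of_sum_eq_card [Fintype ι] (μ : ι → ℂ) (h : ∀ i, ‖μ i‖ = 1)
    (hsum : ∑ i, μ i = (Fintype.card ι : ℂ)) (i : ι) : μ i = 1 := by
  have hn : (Fintype.card ι : ℂ) ≠ 0 :=
    Nat.cast_ne_zero.2 (Fintype.card_pos_iff.2 ⟨i⟩).ne'
  rw [all_eq_of_norm_sum_eq_card μ h (by rw [hsum, Complex.norm_natCast]) i, hsum, div_self hn]

theorem isIntegral_sum_of_pow_eq_one [Fintype ι] (μ : ι → ℂ) (hm : m ≠ 0)
    (h : ∀ i, μ i ^ m = 1) : IsIntegral ℤ (∑ i, μ i) :=
  IsIntegral.sum _ fun i _ => isIntegral_of_pow_eq_one hm (h i)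

/-- An algebraic integer all of whose conjugates have absolute value at most one is zero or has
absolute value one. -/
theorem norm_eq_one_of_isIntegral_of_roots_le {α : ℂ} (hα : IsIntegral ℤ α) (h0 : α ≠ 0)
    (h : ∀ z : ℂ, Polynomial.aeval z (minpoly ℚ α) = 0 → ‖z‖ ≤ 1) : ‖α‖ = 1 := by
  set p := minpoly ℤ α with hp
  have hmap : minpoly ℚ α = p.map (algebraMap ℤ ℚ) :=
    minpoly.isIntegrallyClosed_eq_field_fractions' ℚ hα
  set q := p.map (algebraMap ℤ ℂ) with hq
  have hq_monic : q.Monic := (minpoly.monic hα).map _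
  have hsplit : q.Splits := IsAlgClosed.splits q
  have hroots : ∀ z ∈ q.roots, ‖z‖ ≤ 1 := by
    intro z hz
    refine h z ?_
    rw [hmap, Polynomial.aeval_map_algebraMap]
    rw [Polynomial.mem_roots hq_monic.ne_zero, Polynomial.IsRoot, hq, Polynomial.eval_map] at hz
    exact hz
  have hαroot : α ∈ q.roots := by
    rw [Polynomial.mem_roots hq_monic.ne_zero, Polynomial.IsRoot, hq, Polynomial.eval_map]
    exact minpoly.aeval ℤ α
  have hc : p.coeff 0 ≠ 0 := fun hc => minpoly.coeff_zero_ne_zero (A := ℚ) hα.tower_top h0 <| by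
    rw [hmap, Polynomial.coeff_map, hc, map_zero]
  have hprod : q.coeff 0 = (-1) ^ q.natDegree * q.roots.prod :=
    hsplit.coeff_zero_eq_prod_roots_of_monic hq_monic
  have hone : (1 : ℝ) ≤ ‖q.coeff 0‖ := by
    rw [hq, Polynomial.coeff_map]
    simp only [algebraMap_int_eq, eq_intCast, Complex.norm_intCast]
    exact_mod_cast Int.one_le_abs hc
  have hnorm : (1 : ℝ) ≤ (q.roots.map (fun z => ‖z‖)).prod := by
    rw [hprod, norm_mul, norm_pow, norm_neg, norm_one, one_pow, one_mul] at hone
    convert hone using 1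
    induction q.roots using Multiset.induction_on with
    | empty => simp
    | cons a s ih => simp [ih]
  obtain ⟨t, ht⟩ := Multiset.exists_cons_of_mem hαroot
  rw [ht, Multiset.map_cons, Multiset.prod_cons] at hnorm
  have ht1 : (t.map (fun z => ‖z‖)).prod ≤ 1 := by
    have hsub : ∀ z ∈ t, ‖z‖ ≤ 1 := fun z hz => hroots z (by rw [ht]; simp [hz])
    clear ht hnorm
    induction t using Multiset.induction_on with
    | empty => simp
    | cons a s ih =>
      simp only [Multiset.map_cons, Multiset.prod_cons]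
      exact mul_le_one₀ (hsub a (by simp))
        (Multiset.prod_nonneg (by simp)) (ih fun z hz => hsub z (by simp [hz]))
  refine le_antisymm (hroots α hαroot) ?_
  calc (1 : ℝ) ≤ ‖α‖ * (t.map (fun z => ‖z‖)).prod := hnorm
    _ ≤ ‖α‖ * 1 := mul_le_mul_of_nonneg_left ht1 (norm_nonneg α)
    _ = ‖α‖ := mul_one _

/-- Burnside's lemma: an average of roots of unity which is an algebraic integer is zero, or all
the roots are equal. -/
theorem average_isIntegral_dichotomy [Fintype ι] (μ : ι → ℂ) (hm : m ≠ 0)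
    (hμ : ∀ i, μ i ^ m = 1) (hint : IsIntegral ℤ ((∑ i, μ i) / (Fintype.card ι : ℂ))) :
    (∑ i, μ i) = 0 ∨ ‖∑ i, μ i‖ = Fintype.card ι := by
  by_cases h0 : (∑ i, μ i) = 0
  · exact Or.inl h0
  have hne : Nonempty ι := by
    by_contra hne
    rw [not_nonempty_iff] at hne
    exact h0 (by simp)
  have hn : (Fintype.card ι : ℂ) ≠ 0 := Nat.cast_ne_zero.2 Fintype.card_ne_zero
  set α := (∑ i, μ i) / (Fintype.card ι : ℂ) with hα
  have hα0 : α ≠ 0 := div_ne_zero h0 hn
  let K : IntermediateField ℚ ℂ := IntermediateField.adjoin ℚ (Set.range μ)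
  have hμK : ∀ i, μ i ∈ K := fun i => IntermediateField.subset_adjoin ℚ _ ⟨i, rfl⟩
  have : Algebra.IsAlgebraic ℚ K := by
    refine IntermediateField.isAlgebraic_adjoin ?_
    rintro x ⟨i, rfl⟩
    exact (isIntegral_of_pow_eq_one hm (hμ i)).tower_top
  let a : K := (∑ i, (⟨μ i, hμK i⟩ : K)) / (Fintype.card ι : K)
  have ha : (a : ℂ) = α := by
    change K.val a = α
    simp [a, hα]
  have hkey : ‖α‖ = 1 := by
    refine norm_eq_one_of_isIntegral_of_roots_le hint hα0 fun z hz => ?_
    have hz' : z ∈ (minpoly ℚ a).rootSet ℂ := by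
      rw [Polynomial.mem_rootSet']
      have hmin : minpoly ℚ a = minpoly ℚ α := by
        rw [← ha]; exact (minpoly.algebraMap_eq K.val.injective a).symm
      exact ⟨(Polynomial.Monic.map _ (minpoly.monic (Algebra.IsAlgebraic.isAlgebraic a).isIntegral)).ne_zero,
        by rw [hmin]; exact hz⟩
    rw [← Algebra.IsAlgebraic.range_eval_eq_rootSet_minpoly (A := ℂ) a] at hz'
    obtain ⟨ψ, rfl⟩ := hz'
    have : ∀ i, ‖ψ ⟨μ i, hμK i⟩‖ = 1 := fun i => norm_eq_one_of_pow_eq_one hm <| by
      rw [← map_pow, ← map_one ψ]; congr 1; exact Subtype.ext (by simpa using hμ i)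
    simp only [a, map_div₀, map_sum, map_natCast, norm_div, Complex.norm_natCast]
    exact div_le_one_of_le₀ (norm_sum_le_card_of_norm_eq_one _ this) (Nat.cast_nonneg _)
  right
  rw [hα, norm_div, Complex.norm_natCast, div_eq_one_iff_eq] at hkey
  · exact hkey
  · exact_mod_cast Fintype.card_ne_zero

end Cfsg.Agent.CharInt
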