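import Mathlib
import Cfsg.Agent.Lib.CharInt.RootsOfUnity

/-!
# Endomorphisms of finite order over `ℂ`, and character values of representations

* `exists_eigenbasis`: diagonalisation by roots of unity;
* `isIntegral_character`, `norm_character_le`, `character_inv`: values of characters;
* `character_eq_finrank_iff`, `norm_character_eq_finrank_iff`: kernel and centre.
-/

set_option linter.unusedSectionVars false

namespace Cfsg.Agent.CharInt

open scoped ComplexConjugate
open Module

variable {V : Type*} [AddCommGroup V] [Module ℂ V] [FiniteDimensional ℂ V]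

theorem isSemisimple_of_pow_eq_one {f : Module.End ℂ V} {m : ℕ} (hm : m ≠ 0) (hf : f ^ m = 1) :
    f.IsSemisimple :=
  Module.End.isSemisimple_of_squarefree_aeval_eq_zero
    (Polynomial.separable_X_pow_sub_C (1 : ℂ) (Nat.cast_ne_zero.2 hm) one_ne_zero).squarefree
    (by simp [hf])

/-- An endomorphism of finite order of a finite-dimensional complex space has a basis of
eigenvectors whose eigenvalues are roots of unity. -/
theorem exists_eigenbasis {f : Module.End ℂ V} {m : ℕ} (hm : m ≠ 0) (hf : f ^ m = 1) :
    ∃ (b : Basis (Fin (finrank ℂ V)) ℂ V) (μ : Fin (finrank ℂ V) → ℂ),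
      (∀ i, μ i ^ m = 1) ∧ ∀ i, f (b i) = μ i • b i := by
  classical
  have htop := (isSemisimple_of_pow_eq_one hm hf).iSup_eigenspace_eq_top
  have hint := (DirectSum.isInternal_submodule_iff_iSupIndep_and_iSup_eq_top _).2
    ⟨f.eigenspaces_iSupIndep, htop⟩
  let b₀ := hint.collectedBasis (fun μ => finBasis ℂ (f.eigenspace μ))
  have : Fintype (Σ μ : ℂ, Fin (finrank ℂ (f.eigenspace μ))) := FiniteDimensional.fintypeBasisIndex b₀
  let e : (Σ μ : ℂ, Fin (finrank ℂ (f.eigenspace μ))) ≃ Fin (finrank ℂ V) :=
    Fintype.equivFinOfCardEq (finrank_eq_card_basis b₀).symm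
  have happ : ∀ a, f (b₀ a) = a.1 • b₀ a := fun a =>
    Module.End.mem_eigenspace_iff.1 (hint.collectedBasis_mem _ a)
  refine ⟨b₀.reindex e, fun i => (e.symm i).1, fun i => ?_, fun i => ?_⟩
  · have h1 : ∀ k : ℕ, (f ^ k) (b₀ (e.symm i)) = (e.symm i).1 ^ k • b₀ (e.symm i) := by
      intro k
      induction k with
      | zero => simp
      | succ k ih => rw [pow_succ', Module.End.mul_apply, ih, map_smul, happ, smul_smul, ← pow_succ]
    have h2 := h1 m
    rw [hf, Module.End.one_apply] at h2
    exact smul_left_injective ℂ (b₀.ne_zero (e.symm i)) (by simpa using h2.symm)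
  · simp only [Basis.reindex_apply]
    exact happ _

section Basis

variable {ι : Type*} [Fintype ι] (b : Basis ι ℂ V) {f : Module.End ℂ V} {μ : ι → ℂ}

theorem pow_apply_eigenvector (h : ∀ i, f (b i) = μ i • b i) (k : ℕ) (i : ι) :
    (f ^ k) (b i) = μ i ^ k • b i := by
  induction k with
  | zero => simp
  | succ k ih => rw [pow_succ', Module.End.mul_apply, ih, map_smul, h, smul_smul, ← pow_succ]

theorem trace_of_eigenbasis (h : ∀ i, f (b i) = μ i • b i) :
    LinearMap.trace ℂ V f = ∑ i, μ i := by
  classical
  rw [LinearMap.trace_eq_matrix_trace ℂ b f, Matrix.trace]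
  exact Finset.sum_congr rfl fun i _ => by simp [LinearMap.toMatrix_apply, h]

theorem det_of_eigenbasis (h : ∀ i, f (b i) = μ i • b i) :
    LinearMap.det f = ∏ i, μ i := by
  classical
  have : LinearMap.toMatrix b b f = Matrix.diagonal μ := by
    ext i j
    simp [LinearMap.toMatrix_apply, h, Matrix.diagonal_apply, Finsupp.single_apply]
    grind
  rw [← LinearMap.det_toMatrix b, this, Matrix.det_diagonal]

theorem eq_smul_one_of_eigenbasis (h : ∀ i, f (b i) = μ i • b i) {c : ℂ} (hc : ∀ i, μ i = c) :
    f = c • 1 :=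
  b.ext fun i => by simp [h, hc]

end Basis

section Representation

variable {G : Type*} [Group G] (ρ : Representation ℂ G V)

theorem rho_pow_natCard [Finite G] (g : G) : ρ g ^ Nat.card G = 1 := by
  rw [← map_pow, pow_card_eq_one', map_one]

theorem exists_eigenbasis_rho [Finite G] (g : G) :
    ∃ (b : Basis (Fin (finrank ℂ V)) ℂ V) (μ : Fin (finrank ℂ V) → ℂ),
      (∀ i, μ i ^ orderOf g = 1) ∧ ∀ i, ρ g (b i) = μ i • b i :=
  exists_eigenbasis (orderOf_pos g).ne' (by rw [← map_pow, pow_orderOf_eq_one, map_one])

/-- The character value at `g` is a sum of `χ(1)` roots of unity of order dividing the order of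
`g`, and the values at powers of `g` are the sums of their powers. -/
theorem exists_roots_character_pow [Finite G] (g : G) :
    ∃ μ : Fin (finrank ℂ V) → ℂ,
      (∀ i, μ i ^ orderOf g = 1) ∧ ∀ k : ℕ, ρ.character (g ^ k) = ∑ i, μ i ^ k := by
  obtain ⟨b, μ, hμ, h⟩ := exists_eigenbasis_rho ρ g
  refine ⟨μ, hμ, fun k => ?_⟩
  rw [Representation.character, map_pow]
  exact trace_of_eigenbasis b (pow_apply_eigenvector b h k)

theorem exists_roots_character [Finite G] (g : G) :
    ∃ μ : Fin (finrank ℂ V) → ℂ,
      (∀ i, μ i ^ orderOf g = 1) ∧ ρ.character g = ∑ i, μ i := by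
  obtain ⟨μ, hμ, h⟩ := exists_roots_character_pow ρ g
  exact ⟨μ, hμ, by simpa using h 1⟩

theorem isIntegral_character [Finite G] (g : G) : IsIntegral ℤ (ρ.character g) := by
  obtain ⟨μ, hμ, h⟩ := exists_roots_character ρ g
  rw [h]
  exact isIntegral_sum_of_pow_eq_one μ (orderOf_pos g).ne' hμ

theorem norm_character_le [Finite G] (g : G) : ‖ρ.character g‖ ≤ finrank ℂ V := by
  obtain ⟨μ, hμ, h⟩ := exists_roots_character ρ g
  rw [h]
  simpa using norm_sum_le_card_of_norm_eq_one μ
    fun i => norm_eq_one_of_pow_eq_one (orderOf_pos g).ne' (hμ i)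

theorem character_inv [Finite G] (g : G) : ρ.character g⁻¹ = conj (ρ.character g) := by
  obtain ⟨b, μ, hμ, h⟩ := exists_eigenbasis_rho ρ g
  have hm := (orderOf_pos g).ne'
  have hinv : ∀ i, ρ g⁻¹ (b i) = conj (μ i) • b i := by
    intro i
    have h0 : μ i ≠ 0 := fun h0 => by simpa [h0, zero_pow hm] using hμ i
    have h1 : ρ g⁻¹ (ρ g (b i)) = b i := by
      rw [← Module.End.mul_apply, ← map_mul, inv_mul_cancel, map_one, Module.End.one_apply]
    rw [h, map_smul] at h1
    rw [conj_eq_inv_of_pow_eq_one hm (hμ i)]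
    exact (inv_smul_smul₀ h0 _).symm.trans (congrArg _ h1)
  rw [Representation.character, Representation.character, trace_of_eigenbasis b h,
    trace_of_eigenbasis b hinv, map_sum]

/-- The character takes the value of the degree exactly on the kernel of the representation. -/
theorem character_eq_finrank_iff [Finite G] (g : G) :
    ρ.character g = (finrank ℂ V : ℂ) ↔ ρ g = 1 := by
  refine ⟨fun hc => ?_, fun h => by rw [Representation.character, h, LinearMap.trace_one]⟩
  obtain ⟨b, μ, hμ, h⟩ := exists_eigenbasis_rho ρ g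
  rw [Representation.character, trace_of_eigenbasis b h] at hc
  have := all_one_of_sum_eq_card μ
    (fun i => norm_eq_one_of_pow_eq_one (orderOf_pos g).ne' (hμ i)) (by simpa using hc)
  simpa using eq_smul_one_of_eigenbasis b h this

/-- The character value has absolute value equal to the degree exactly when the element acts as a
scalar. -/
theorem norm_character_eq_finrank_iff [Finite G] (g : G) :
    ‖ρ.character g‖ = finrank ℂ V ↔ ∃ c : ℂ, ρ g = c • 1 := by
  obtain ⟨b, μ, hμ, h⟩ := exists_eigenbasis_rho ρ g
  have hn := fun i => norm_eq_one_of_pow_eq_one (orderOf_pos g).ne' (hμ i)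
  constructor
  · intro hc
    rw [Representation.character, trace_of_eigenbasis b h] at hc
    exact ⟨_, eq_smul_one_of_eigenbasis b h (all_eq_of_norm_sum_eq_card μ hn (by simpa using hc))⟩
  · rintro ⟨c, hc⟩
    rw [Representation.character, hc, map_smul, LinearMap.trace_one, smul_eq_mul, norm_mul,
      Complex.norm_natCast]
    rcases Nat.eq_zero_or_pos (finrank ℂ V) with h0 | hpos
    · simp [h0]
    · have h1 : μ ⟨0, hpos⟩ = c := by
        have := h ⟨0, hpos⟩
        rw [hc] at this
        exact smul_left_injective ℂ (b.ne_zero _) (by simpa using this.symm)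
      rw [← h1, hn, one_mul]

end Representation

end Cfsg.Agent.CharInt
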