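import Mathlib
import Cfsg.Prelude.Def_Characters
import Cfsg.Agent.Lib.CharInt.Eigen

/-!
# Values of characters in the sense of `Cfsg.IsCharacter`
-/

namespace Cfsg.Agent.CharInt

open scoped ComplexConjugate
open Module

universe u

variable {G : Type u} [Group G] {χ θ : G → ℂ}

theorem isCharacter_of_isIrr (h : Cfsg.IsIrrCharacter G χ) : Cfsg.IsCharacter G χ :=
  let ⟨n, ρ, _, hρ⟩ := h; ⟨n, ρ, hρ⟩

theorem char_conj_apply (h : Cfsg.IsCharacter G χ) (g x : G) : χ (x * g * x⁻¹) = χ g := by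
  obtain ⟨n, ρ, rfl⟩ := h; exact ρ.char_conj g x

theorem isClassFunction_of_isCharacter (h : Cfsg.IsCharacter G χ) :
    Cfsg.IsClassFunction G χ := fun g x => char_conj_apply h g x

theorem char_mul_comm (h : Cfsg.IsCharacter G χ) (g x : G) : χ (g * x) = χ (x * g) := by
  obtain ⟨n, ρ, rfl⟩ := h; exact (ρ.char_mul_comm g x).symm

theorem char_eq_of_isConj (h : Cfsg.IsCharacter G χ) {g g' : G} (hg : IsConj g g') :
    χ g = χ g' := by
  obtain ⟨c, rfl⟩ := isConj_iff.1 hg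
  exact (char_conj_apply h g c).symm

theorem exists_degree (h : Cfsg.IsCharacter G χ) : ∃ n : ℕ, χ 1 = n := by
  obtain ⟨n, ρ, rfl⟩ := h; exact ⟨_, ρ.char_one⟩

theorem irr_degree_pos (h : Cfsg.IsIrrCharacter G χ) : ∃ n : ℕ, 0 < n ∧ χ 1 = n := by
  obtain ⟨n, ρ, hρ, rfl⟩ := h
  refine ⟨n, Nat.pos_of_ne_zero fun h0 => ?_, by simp⟩
  subst h0
  have := (ρ.irreducible_iff_isSimpleModule_asModule).1 hρ
  have := IsSimpleModule.nontrivial (MonoidAlgebra ℂ G) ρ.asModule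
  exact not_subsingleton ρ.asModule ⟨fun x y => ρ.asModuleEquiv.injective (Subsingleton.elim _ _)⟩

theorem irr_one_ne_zero (h : Cfsg.IsIrrCharacter G χ) : χ 1 ≠ 0 := by
  obtain ⟨n, hn, he⟩ := irr_degree_pos h
  rw [he]; exact_mod_cast hn.ne'

variable [Finite G]

theorem isIntegral_char (h : Cfsg.IsCharacter G χ) (g : G) : IsIntegral ℤ (χ g) := by
  obtain ⟨n, ρ, rfl⟩ := h; exact isIntegral_character ρ g

theorem isIntegral_genChar (h : Cfsg.IsGeneralizedCharacter G θ) (g : G) :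
    IsIntegral ℤ (θ g) := by
  obtain ⟨a, b, ha, hb, rfl⟩ := h
  exact (isIntegral_char ha g).sub (isIntegral_char hb g)

theorem exists_roots (h : Cfsg.IsCharacter G χ) (g : G) :
    ∃ (n : ℕ) (μ : Fin n → ℂ), χ 1 = n ∧ (∀ i, μ i ^ orderOf g = 1) ∧
      ∀ k : ℕ, χ (g ^ k) = ∑ i, μ i ^ k := by
  obtain ⟨n, ρ, rfl⟩ := h
  obtain ⟨μ, h1, h2⟩ := exists_roots_character_pow ρ g
  exact ⟨_, μ, ρ.char_one, h1, h2⟩

theorem norm_char_le (h : Cfsg.IsCharacter G χ) (g : G) : ‖χ g‖ ≤ ‖χ 1‖ := by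
  obtain ⟨n, ρ, rfl⟩ := h
  rw [ρ.char_one, Complex.norm_natCast]
  exact norm_character_le ρ g

theorem char_inv (h : Cfsg.IsCharacter G χ) (g : G) : χ g⁻¹ = conj (χ g) := by
  obtain ⟨n, ρ, rfl⟩ := h; exact character_inv ρ g

theorem genChar_inv (h : Cfsg.IsGeneralizedCharacter G θ) (g : G) : θ g⁻¹ = conj (θ g) := by
  obtain ⟨a, b, ha, hb, rfl⟩ := h
  simp [char_inv ha, char_inv hb]

theorem char_mul_of_mem_kernel (h : Cfsg.IsCharacter G χ) {g : G} (hg : χ g = χ 1) (x : G) :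
    χ (g * x) = χ x := by
  obtain ⟨n, ρ, rfl⟩ := h
  rw [ρ.char_one] at hg
  have h1 := (character_eq_finrank_iff ρ g).1 hg
  simp [Representation.character, h1]

/-- The kernel `{g | χ g = χ 1}` of a character, as a subgroup. -/
def charKernel (h : Cfsg.IsCharacter G χ) : Subgroup G where
  carrier := {g | χ g = χ 1}
  one_mem' := rfl
  mul_mem' {a b} ha hb := by
    simp only [Set.mem_ofPred_eq] at *
    rw [char_mul_of_mem_kernel h ha, hb]
  inv_mem' {a} ha := by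
    simp only [Set.mem_ofPred_eq] at *
    obtain ⟨n, hn⟩ := exists_degree h
    rw [char_inv h, ha, hn, Complex.conj_natCast]

theorem mem_charKernel (h : Cfsg.IsCharacter G χ) {g : G} :
    g ∈ charKernel h ↔ χ g = χ 1 := Iff.rfl

theorem charKernel_normal (h : Cfsg.IsCharacter G χ) : (charKernel h).Normal :=
  ⟨fun g hg x => by rw [mem_charKernel, char_conj_apply h, hg]⟩

theorem charKernel_eq_ker {n : ℕ} (ρ : Representation ℂ G (Fin n → ℂ))
    (h : Cfsg.IsCharacter G ρ.character) : charKernel h = ρ.ker := by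
  ext g
  rw [mem_charKernel, ρ.char_one, character_eq_finrank_iff, MonoidHom.mem_ker]

theorem norm_eq_iff_scalar {n : ℕ} (ρ : Representation ℂ G (Fin n → ℂ)) (g : G) :
    ‖ρ.character g‖ = ‖ρ.character 1‖ ↔ ∃ c : ℂ, ρ g = c • 1 := by
  rw [ρ.char_one, Complex.norm_natCast, norm_character_eq_finrank_iff]

theorem char_mul_of_mem_centre (h : Cfsg.IsCharacter G χ) {g : G} (hg : ‖χ g‖ = ‖χ 1‖) (x : G) :
    χ (g * x) * χ 1 = χ g * χ x := by
  obtain ⟨n, ρ, rfl⟩ := h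
  obtain ⟨c, hc⟩ := (norm_eq_iff_scalar ρ g).1 hg
  simp only [Representation.character, map_mul, map_one, hc, smul_mul_assoc, one_mul, map_smul,
    smul_eq_mul, LinearMap.trace_one]
  ring

end Cfsg.Agent.CharInt
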