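import Mathlib
import Cfsg.Agent.Lib.CharInt.Eigen

/-!
# Central characters and their integrality

* `exists_eq_smul_one_of_commute`: Schur's lemma;
* `isIntegral_omega`: `|g^G| χ(g) / χ(1)` is an algebraic integer;
* `finrank_dvd_natCard`, `finrank_dvd_index_of_le_center`: divisibility of the degree;
* `character_eq_zero_or_norm_eq`: Burnside's vanishing lemma.
-/

set_option linter.unusedSectionVars false

namespace Cfsg.Agent.CharInt

open scoped ComplexConjugate
open Module

section ClassSize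

variable {G : Type*} [Group G]

theorem natCard_isConj (g : G) :
    Nat.card {h : G // IsConj g h} = (Subgroup.centralizer ({g} : Set G)).index := by
  have h1 : MulAction.orbit (ConjAct G) g = {h : G | IsConj g h} := by
    ext h
    rw [Set.mem_ofPred_eq, ConjAct.mem_orbit_conjAct, isConj_comm]
  have h2 := MulAction.index_stabilizer (ConjAct G) g
  rw [h1, ← Nat.card_coe_set_eq] at h2
  have h3 : (MulAction.stabilizer (ConjAct G) g).comap
      (ConjAct.toConjAct : G ≃* ConjAct G).toMonoidHom = Subgroup.centralizer ({g} : Set G) := by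
    ext x
    simp only [Subgroup.mem_comap, MulEquiv.coe_toMonoidHom, MulAction.mem_stabilizer_iff,
      ConjAct.smul_def, ConjAct.ofConjAct_toConjAct, Subgroup.mem_centralizer_iff,
      Set.mem_singleton_iff, forall_eq, mul_inv_eq_iff_eq_mul]
    exact eq_comm
  rw [← h3, Subgroup.index_comap_of_surjective _ (MulEquiv.surjective _), h2]
  rfl

end ClassSize

section Reps

variable {G : Type*} [Group G] {V : Type*} [AddCommGroup V] [Module ℂ V]
  (ρ : Representation ℂ G V)

theorem nontrivial_of_irreducible [hρ : ρ.IsIrreducible] : Nontrivial V := by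
  have h := IsSimpleModule.nontrivial (MonoidAlgebra ℂ G) ρ.asModule
  exact Equiv.nontrivial ρ.asModuleEquiv.toEquiv.symm

theorem irreducible_of_comp_surjective {H : Type*} [Group H] (π : G →* H)
    (hπ : Function.Surjective π) (σ : Representation ℂ H V) (hσ : σ.comp π = ρ)
    [ρ.IsIrreducible] : σ.IsIrreducible := by
  subst hσ
  let e : Subrepresentation σ ≃o Subrepresentation (σ.comp π : Representation ℂ G V) :=
    { toFun := fun W => ⟨W.toSubmodule, fun g _ hv => W.apply_mem_toSubmodule (π g) hv⟩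
      invFun := fun W => ⟨W.toSubmodule, fun h v hv => by
        obtain ⟨g, rfl⟩ := hπ h; exact W.apply_mem_toSubmodule g hv⟩
      left_inv := fun W => rfl
      right_inv := fun W => rfl
      map_rel_iff' := Iff.rfl }
  exact e.isSimpleOrder

variable [FiniteDimensional ℂ V]

/-- Schur's lemma over `ℂ`. -/
theorem exists_eq_smul_one_of_commute [ρ.IsIrreducible] (f : Module.End ℂ V)
    (hf : ∀ g, f * ρ g = ρ g * f) : ∃ c : ℂ, f = c • 1 := by
  let F : Representation.IntertwiningMap ρ ρ :=
    f.intertwiningMap_of_isIntertwiningMap ρ ρ fun g v => LinearMap.congr_fun (hf g) v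
  obtain ⟨c, hc⟩ :=
    (Representation.IsIrreducible.algebraMap_intertwiningMap_bijective_of_isAlgClosed (ρ := ρ)).2 F
  refine ⟨c, LinearMap.ext fun v => ?_⟩
  have := congrArg (fun T : Representation.IntertwiningMap ρ ρ => T v) hc
  simpa [F] using this.symm

theorem exists_smul_one_of_mem_center [ρ.IsIrreducible] {z : G} (hz : z ∈ Subgroup.center G) :
    ∃ c : ℂ, ρ z = c • 1 :=
  exists_eq_smul_one_of_commute ρ _ fun g => by
    rw [← map_mul, ← map_mul, Subgroup.mem_center_iff.1 hz g]

variable [Finite G]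

/-- `|g^G| χ(g) / χ(1)` is an algebraic integer for an irreducible representation. -/
theorem isIntegral_omega [ρ.IsIrreducible] (g : G) :
    IsIntegral ℤ ((Nat.card {h : G // IsConj g h} : ℂ) * ρ.character g / (finrank ℂ V : ℂ)) := by
  classical
  have : Fintype G := Fintype.ofFinite G
  have hnt := nontrivial_of_irreducible ρ
  set s := Finset.univ.filter fun h => IsConj g h with hs
  have hcard : Nat.card {h : G // IsConj g h} = s.card := by
    rw [Nat.card_eq_fintype_card, Fintype.card_subtype]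
  set a : MonoidAlgebra ℤ G := ∑ h ∈ s, MonoidAlgebra.of ℤ G h with ha
  let φ : MonoidAlgebra ℤ G →ₐ[ℤ] Module.End ℂ V := MonoidAlgebra.lift ℤ (Module.End ℂ V) G ρ
  have hφ : φ a = ∑ h ∈ s, ρ h := by simp [φ, ha, map_sum]
  have : Module.Finite ℤ (MonoidAlgebra ℤ G) := inferInstance
  have hint : IsIntegral ℤ (φ a) := (IsIntegral.of_finite ℤ a).map φ
  have hcomm : ∀ x, (∑ h ∈ s, ρ h) * ρ x = ρ x * ∑ h ∈ s, ρ h := by
    intro x
    rw [Finset.sum_mul, Finset.mul_sum]
    refine Finset.sum_bij' (fun h _ => x⁻¹ * h * x) (fun h _ => x * h * x⁻¹) ?_ ?_ ?_ ?_ ?_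
    · intro h hh
      rw [hs, Finset.mem_filter] at hh ⊢
      exact ⟨Finset.mem_univ _, hh.2.trans (isConj_iff.2 ⟨x⁻¹, by group⟩)⟩
    · intro h hh
      rw [hs, Finset.mem_filter] at hh ⊢
      exact ⟨Finset.mem_univ _, hh.2.trans (isConj_iff.2 ⟨x, rfl⟩)⟩
    · intro h _; group
    · intro h _; group
    · intro h _; rw [← map_mul, ← map_mul]; congr 1; group
  obtain ⟨c, hc⟩ := exists_eq_smul_one_of_commute ρ _ hcomm
  have htr : (s.card : ℂ) * ρ.character g = c * (finrank ℂ V : ℂ) := by
    have := congrArg (LinearMap.trace ℂ V) hc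
    rw [map_sum, map_smul, LinearMap.trace_one, smul_eq_mul] at this
    rw [← this, Finset.sum_congr rfl (g := fun _ => ρ.character g)]
    · simp [nsmul_eq_mul]
    · intro h hh
      rw [hs, Finset.mem_filter] at hh
      obtain ⟨x, rfl⟩ := isConj_iff.1 hh.2
      exact ρ.char_conj g x
  rw [hcard, htr, mul_div_cancel_right₀ _ (Nat.cast_ne_zero.2 finrank_pos.ne')]
  rw [hφ, hc, ← Algebra.algebraMap_eq_smul_one] at hint
  exact (isIntegral_algebraMap_iff (algebraMap ℂ (Module.End ℂ V)).injective).1 hint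

theorem sum_character_mul_inv [Fintype G] [ρ.IsIrreducible] :
    ∑ g : G, ρ.character g * ρ.character g⁻¹ = (Nat.card G : ℂ) := by
  have hne : (Nat.card G : ℂ) ≠ 0 := Nat.cast_ne_zero.2 Nat.card_pos.ne'
  have : Invertible (Nat.card G : ℂ) := invertibleOfNonzero hne
  have h := Representation.char_orthonormal ρ ρ
  rw [if_pos ⟨Representation.Equiv.refl _⟩] at h
  field_simp at h
  exact h

/-- If the central subgroup `Z` acts faithfully, the degree divides its index. -/
theorem finrank_dvd_index_of_faithful [ρ.IsIrreducible] (Z : Subgroup G)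
    (hZ : Z ≤ Subgroup.center G) (hf : ∀ w ∈ Z, ρ w = 1 → w = 1) :
    finrank ℂ V ∣ Z.index := by
  classical
  have : Fintype G := Fintype.ofFinite G
  have hnt := nontrivial_of_irreducible ρ
  have hn : (finrank ℂ V : ℂ) ≠ 0 := Nat.cast_ne_zero.2 finrank_pos.ne'
  have hZn : Z.Normal := ⟨fun z hz x => by
    rwa [Subgroup.mem_center_iff.1 (hZ hz) x, mul_inv_cancel_right]⟩
  choose! lam hlam using fun z (hz : z ∈ Z) => exists_smul_one_of_mem_center ρ (hZ hz)
  have hmul : ∀ z ∈ Z, ∀ x, ρ.character (x * z) = lam z * ρ.character x := by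
    intro z hz x
    simp [Representation.character, map_mul, hlam z hz]
  let f : G → ℂ := fun g => ρ.character g * ρ.character g⁻¹
  have hfz : ∀ z ∈ Z, ∀ x, f (x * z) = f x := by
    intro z hz x
    have h1 : lam z * lam z⁻¹ = 1 := by
      have : ρ z * ρ z⁻¹ = 1 := by rw [← map_mul, mul_inv_cancel, map_one]
      rw [hlam z hz, hlam z⁻¹ (Z.inv_mem hz), smul_mul_smul_comm, one_mul] at this
      exact smul_left_injective ℂ (one_ne_zero (α := Module.End ℂ V)) (by simpa using this)
    simp only [f]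
    rw [hmul z hz, mul_inv_rev,
      ← Subgroup.mem_center_iff.1 (hZ (Z.inv_mem hz)) x⁻¹, hmul _ (Z.inv_mem hz)]
    linear_combination (ρ.character x * ρ.character x⁻¹) * h1
  let π : G → ConjClasses (G ⧸ Z) := fun g => ConjClasses.mk (g : G ⧸ Z)
  have hfib : ∀ g g', π g = π g' ↔ ∃ c z, IsConj g c ∧ z ∈ Z ∧ c * z = g' := by
    intro g g'
    simp only [π, ConjClasses.mk_eq_mk_iff_isConj]
    constructor
    · intro h
      obtain ⟨x, hx⟩ := isConj_iff.1 h
      induction x using QuotientGroup.induction_on with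
      | H x =>
        refine ⟨x * g * x⁻¹, (x * g * x⁻¹)⁻¹ * g', isConj_iff.2 ⟨x, rfl⟩, ?_, by group⟩
        exact QuotientGroup.eq.1 hx
    · rintro ⟨c, z, hc, hz, rfl⟩
      have : ((c * z : G) : G ⧸ Z) = (c : G ⧸ Z) := (QuotientGroup.eq.2 (by simpa using hz)).symm
      rw [this]
      exact (MonoidHom.map_isConj (QuotientGroup.mk' Z) hc)
  have hf_const : ∀ g g', π g = π g' → f g' = f g := by
    intro g g' h
    obtain ⟨c, z, hc, hz, rfl⟩ := (hfib g g').1 h
    rw [hfz z hz c]
    obtain ⟨x, rfl⟩ := isConj_iff.1 hc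
    simp only [f, mul_inv_rev, inv_inv]
    rw [ρ.char_conj, ← mul_assoc x, ρ.char_conj]
  have hsize : ∀ g, ρ.character g ≠ 0 →
      (Finset.univ.filter fun g' => π g' = π g).card =
        Nat.card {h : G // IsConj g h} * Nat.card Z := by
    intro g hg
    rw [← Fintype.card_subtype, ← Nat.card_eq_fintype_card, ← Nat.card_prod]
    refine (Nat.card_congr (Equiv.ofBijective
      (fun p : {h : G // IsConj g h} × Z =>
        (⟨p.1.1 * p.2.1, ((hfib g _).2 ⟨p.1.1, p.2.1, p.1.2, p.2.2, rfl⟩).symm⟩ :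
          {g' : G // π g' = π g}))
      ⟨?_, ?_⟩)).symm
    · rintro ⟨⟨c, hc⟩, ⟨z, hz⟩⟩ ⟨⟨c', hc'⟩, ⟨z', hz'⟩⟩ h
      simp only [Subtype.mk.injEq] at h
      have hw : z * z'⁻¹ ∈ Z := Z.mul_mem hz (Z.inv_mem hz')
      have hcc : c' = c * (z * z'⁻¹) := by rw [← mul_assoc, h, mul_inv_cancel_right]
      have hχ : ∀ d, IsConj g d → ρ.character d = ρ.character g := by
        intro d hd
        obtain ⟨x, rfl⟩ := isConj_iff.1 hd
        exact ρ.char_conj g x
      have hl : lam (z * z'⁻¹) = 1 := by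
        have := hmul _ hw c
        rw [← hcc, hχ _ hc', hχ _ hc] at this
        exact (mul_eq_right₀ hg).1 this.symm
      have h1 : z * z'⁻¹ = 1 := hf _ hw (by rw [hlam _ hw, hl, one_smul])
      have hzz : z = z' := mul_inv_eq_one.1 h1
      subst hzz
      simp [mul_right_cancel h]
    · rintro ⟨g', h⟩
      obtain ⟨c, z, hc, hz, rfl⟩ := (hfib g g').1 h.symm
      exact ⟨(⟨c, hc⟩, ⟨z, hz⟩), rfl⟩
  have hint : IsIntegral ℤ ((Z.index : ℂ) / (finrank ℂ V : ℂ)) := by
    have hsum := sum_character_mul_inv ρ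
    rw [← Finset.sum_fiberwise_of_maps_to (g := π) (t := Finset.univ.image π)
      (fun g _ => Finset.mem_image_of_mem π (Finset.mem_univ g))] at hsum
    choose! r hr using fun C (hC : C ∈ Finset.univ.image π) =>
      (Finset.mem_image.1 hC : ∃ g ∈ Finset.univ, π g = C)
    have hterm : ∀ C ∈ Finset.univ.image π,
        ∑ g ∈ Finset.univ.filter (fun g => π g = C), ρ.character g * ρ.character g⁻¹ =
          (Nat.card Z : ℂ) * (finrank ℂ V : ℂ) *
            ((Nat.card {h : G // IsConj (r C) h} : ℂ) * ρ.character (r C) / (finrank ℂ V : ℂ) *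
              ρ.character (r C)⁻¹) := by
      intro C hC
      have hrC := (hr C hC).2
      rw [Finset.sum_congr rfl (g := fun _ => f (r C)) fun g hg =>
        hf_const (r C) g (hrC.trans (Finset.mem_filter.1 hg).2.symm)]
      rw [Finset.sum_const, nsmul_eq_mul]
      by_cases h0 : ρ.character (r C) = 0
      · simp [f, h0]
      · have hsz := hsize (r C) h0
        rw [hrC] at hsz
        rw [hsz, Nat.cast_mul]
        simp only [f]
        field_simp
    rw [Finset.sum_congr rfl hterm, ← Finset.mul_sum] at hsum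
    set S := ∑ C ∈ Finset.univ.image π,
      (Nat.card {h : G // IsConj (r C) h} : ℂ) * ρ.character (r C) / (finrank ℂ V : ℂ) *
        ρ.character (r C)⁻¹
    have hS : IsIntegral ℤ S :=
      IsIntegral.sum _ fun C _ => (isIntegral_omega ρ _).mul (isIntegral_character ρ _)
    rw [← Subgroup.card_mul_index Z, Nat.cast_mul, mul_assoc] at hsum
    have hz : (Nat.card Z : ℂ) ≠ 0 := Nat.cast_ne_zero.2 Nat.card_pos.ne'
    rwa [← mul_left_cancel₀ hz hsum, mul_div_cancel_left₀ _ hn]
  have hq : IsIntegral ℤ ((Z.index : ℚ) / finrank ℂ V) := by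
    refine (isIntegral_algebraMap_iff (algebraMap ℚ ℂ).injective).1 ?_
    simpa using hint
  obtain ⟨k, hk⟩ := IsIntegrallyClosed.isIntegral_iff.1 hq
  rw [eq_intCast, eq_div_iff (Nat.cast_ne_zero.2 finrank_pos.ne')] at hk
  exact Int.natCast_dvd_natCast.1 ⟨k, by rw [mul_comm]; exact_mod_cast hk.symm⟩

theorem finrank_dvd_natCard [ρ.IsIrreducible] : finrank ℂ V ∣ Nat.card G := by
  simpa using finrank_dvd_index_of_faithful ρ ⊥ bot_le (by simp)

theorem finrank_dvd_index_of_le_center [ρ.IsIrreducible] {Z : Subgroup G}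
    (hZ : Z ≤ Subgroup.center G) : finrank ℂ V ∣ Z.index := by
  let φ : G →* Module.End ℂ V := ρ
  let π := QuotientGroup.mk' φ.ker
  let σ : Representation ℂ (G ⧸ φ.ker) V := QuotientGroup.lift φ.ker φ le_rfl
  have hσ : σ.comp π = ρ := MonoidHom.ext fun g => rfl
  have hsurj : Function.Surjective π := QuotientGroup.mk'_surjective _
  have hinj : ∀ w, σ w = 1 → w = 1 := by
    intro w hw
    induction w using QuotientGroup.induction_on with
    | H g => exact (QuotientGroup.eq_one_iff g).2 hw
  have := irreducible_of_comp_surjective ρ π hsurj σ hσ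
  refine (finrank_dvd_index_of_faithful σ (Z.map π) ?_ fun w _ hw =>
    hinj w hw).trans
    (Subgroup.index_map_dvd _ hsurj)
  rintro _ ⟨z, hz, rfl⟩
  refine Subgroup.mem_center_iff.2 fun x => ?_
  obtain ⟨x, rfl⟩ := hsurj x
  rw [← map_mul, ← map_mul, Subgroup.mem_center_iff.1 (hZ hz) x]

/-- Burnside's vanishing lemma. -/
theorem character_eq_zero_or_norm_eq [ρ.IsIrreducible] (g : G)
    (hcop : Nat.Coprime (finrank ℂ V) (Nat.card {h : G // IsConj g h})) :
    ρ.character g = 0 ∨ ‖ρ.character g‖ = finrank ℂ V := by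
  have hnt := nontrivial_of_irreducible ρ
  have hn : (finrank ℂ V : ℂ) ≠ 0 := Nat.cast_ne_zero.2 finrank_pos.ne'
  obtain ⟨μ, hμ, h⟩ := exists_roots_character ρ g
  set c := Nat.card {h : G // IsConj g h}
  have hbez : (1 : ℂ) = (finrank ℂ V : ℂ) * (Nat.gcdA (finrank ℂ V) c : ℂ) +
      (c : ℂ) * (Nat.gcdB (finrank ℂ V) c : ℂ) := by
    have := Nat.gcd_eq_gcd_ab (finrank ℂ V) c
    rw [hcop.gcd_eq_one] at this
    exact_mod_cast this
  have hint : IsIntegral ℤ (ρ.character g / (finrank ℂ V : ℂ)) := by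
    have hint_int : ∀ k : ℤ, IsIntegral ℤ (k : ℂ) := fun k => by
      simpa using (isIntegral_algebraMap : IsIntegral ℤ (algebraMap ℤ ℂ k))
    have h2 := ((hint_int (Nat.gcdA (finrank ℂ V) c)).mul (isIntegral_character ρ g)).add
      ((hint_int (Nat.gcdB (finrank ℂ V) c)).mul (isIntegral_omega ρ g))
    have heq : ρ.character g / (finrank ℂ V : ℂ) =
        (Nat.gcdA (finrank ℂ V) c : ℂ) * ρ.character g +
          (Nat.gcdB (finrank ℂ V) c : ℂ) * ((c : ℂ) * ρ.character g / (finrank ℂ V : ℂ)) := by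
      rw [mul_div_assoc', ← sub_eq_zero]
      have e : ∀ a b x n k : ℂ, n ≠ 0 → 1 = n * a + k * b →
          x / n - (a * x + b * (k * x) / n) = 0 := by
        intro a b x n k hn he
        field_simp
        linear_combination x * he
      exact e _ _ _ _ _ hn hbez
    rw [heq]
    exact h2
  rw [h] at hint ⊢
  simpa using average_isIntegral_dichotomy μ (orderOf_pos g).ne' hμ (by simpa using hint)

end Reps

end Cfsg.Agent.CharInt
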