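import Mathlib
import Cfsg.Agent.Lib.CharInt.Basic
import Cfsg.Agent.Lib.CharInt.Central
import Cfsg.Agent.Lib.Char.Orthogonality

/-!
# Burnside's theorems on classes of prime power size and groups of order `p^a q^b`

* `card_prime_of_class_prime_pow`: a finite simple group with a non-trivial class of prime power
  size has prime order;
* `isSolvable_of_card_eq`: groups of order `p^a q^b` are solvable.
-/

set_option linter.unusedSectionVars false

namespace Cfsg.Agent.CharInt

open scoped ComplexConjugate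

universe u

variable {G : Type u} [Group G] [Finite G]

theorem card_prime_of_simple_comm [IsSimpleGroup G] (h : ∀ a b : G, a * b = b * a) :
    (Nat.card G).Prime :=
  letI : CommGroup G := { ‹Group G› with mul_comm := h }
  IsSimpleGroup.prime_card

/-- In a finite simple group, an element which acts as a scalar in a non-trivial irreducible
character is central. -/
theorem mem_center_of_norm_eq [IsSimpleGroup G] {χ : G → ℂ} (hχ : Cfsg.IsIrrCharacter G χ)
    (hne : χ ≠ fun _ => 1) {g : G} (hg : ‖χ g‖ = ‖χ 1‖) : g ∈ Subgroup.center G := by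
  have : Fintype G := Fintype.ofFinite G
  obtain ⟨n, ρ, hρ, rfl⟩ := hχ
  have hchar : Cfsg.IsCharacter G ρ.character := ⟨n, ρ, rfl⟩
  have hker := charKernel_normal hchar
  rw [charKernel_eq_ker ρ hchar] at hker
  rcases hker.eq_bot_or_eq_top with h | h
  · obtain ⟨c, hc⟩ := (norm_eq_iff_scalar ρ g).1 hg
    refine Subgroup.mem_center_iff.2 fun x => ?_
    have hx : ρ (x * g * (g * x)⁻¹) = 1 := by
      rw [map_mul, map_mul, hc, mul_smul_comm, mul_one]
      have : c • ρ x = ρ (g * x) := by rw [map_mul, hc, smul_mul_assoc, one_mul]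
      rw [this, ← map_mul, mul_inv_cancel, map_one]
    exact mul_inv_eq_one.1 (Subgroup.mem_bot.1 (h ▸ (MonoidHom.mem_ker.2 hx)))
  · exfalso
    have h1 : ∀ x, ρ.character x = (n : ℂ) := fun x => by
      have hx : ρ x = 1 := MonoidHom.mem_ker.1 (h ▸ Subgroup.mem_top x)
      rw [Representation.character, hx, LinearMap.trace_one, Module.finrank_fin_fun]
    have hnorm := Char.classInner_irr_self (χ := ρ.character) ⟨n, ρ, hρ, rfl⟩
    simp only [Cfsg.classInner, h1, Complex.conj_natCast, Finset.sum_const, Finset.card_univ,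
      nsmul_eq_mul, ← Nat.card_eq_fintype_card] at hnorm
    have hc : (Nat.card G : ℂ) ≠ 0 := Nat.cast_ne_zero.2 Nat.card_pos.ne'
    rw [inv_mul_cancel_left₀ hc] at hnorm
    have hn : n = 1 := Nat.eq_one_of_mul_eq_one_right (by exact_mod_cast hnorm : n * n = 1)
    exact hne (funext fun x => by rw [h1, hn, Nat.cast_one])

/-- Burnside: a finite simple group with a non-identity class of prime power size has prime
order. -/
theorem card_prime_of_class_prime_pow [IsSimpleGroup G] {p k : ℕ} (hp : p.Prime) {g : G}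
    (hg : g ≠ 1) (hclass : (Subgroup.centralizer ({g} : Set G)).index = p ^ k) :
    (Nat.card G).Prime := by
  classical
  have : Fintype G := Fintype.ofFinite G
  by_contra hnp
  have hcen : Subgroup.center G = ⊥ := by
    rcases (inferInstance : (Subgroup.center G).Normal).eq_bot_or_eq_top with h | h
    · exact h
    · exact absurd (card_prime_of_simple_comm fun a b =>
        Subgroup.mem_center_iff.1 (h ▸ Subgroup.mem_top b) a) hnp
  have hvan : ∀ χ : Cfsg.IrrCharacter G, χ.1 ≠ (fun _ => 1) → ¬ p ∣ Char.degree χ →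
      χ.1 g = 0 := by
    intro χ hχ hpd
    obtain ⟨n, ρ, hρ, hρχ⟩ := χ.2
    have hn : Char.degree χ = n := by
      have := Char.apply_one_eq_degree χ
      rw [← hρχ, ρ.char_one, Module.finrank_fin_fun] at this
      exact_mod_cast this.symm
    have := hρ
    rcases character_eq_zero_or_norm_eq ρ g (by
      rw [natCard_isConj, hclass, Module.finrank_fin_fun, ← hn]
      exact Nat.Coprime.pow_right k ((hp.coprime_iff_not_dvd.2 hpd).symm)) with h | h
    · rw [← hρχ]; exact h
    · exfalso
      have hgc : g ∈ Subgroup.center G := mem_center_of_norm_eq χ.2 hχ (by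
        rw [← hρχ, h, ρ.char_one, Complex.norm_natCast])
      rw [hcen, Subgroup.mem_bot] at hgc
      exact hg hgc
  have hsum := Char.sum_irr_mul_conj g (1 : G)
  rw [if_neg fun h => hg (isConj_one_left.1 h)] at hsum
  rw [← Finset.add_sum_erase _ _ (Finset.mem_univ (Char.trivialChar G))] at hsum
  simp only [Char.trivialChar_apply, map_one, mul_one] at hsum
  let w : Cfsg.IrrCharacter G → ℂ := fun χ =>
    if p ∣ Char.degree χ then χ.1 g * ((Char.degree χ / p : ℕ) : ℂ) else 0
  have hw : ∀ χ ∈ Finset.univ.erase (Char.trivialChar G),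
      χ.1 g * conj (χ.1 1) = (p : ℂ) * w χ := by
    intro χ hχ
    rw [Char.apply_one_eq_degree, Complex.conj_natCast]
    by_cases hd : p ∣ Char.degree χ
    · simp only [w, if_pos hd]
      rw [mul_left_comm, ← Nat.cast_mul, Nat.mul_div_cancel' hd]
    · simp only [w, if_neg hd]
      rw [hvan χ (fun he => (Finset.mem_erase.1 hχ).1 (Subtype.ext he)) hd]
      simp
  rw [Finset.sum_congr rfl hw, ← Finset.mul_sum] at hsum
  set s := ∑ χ ∈ Finset.univ.erase (Char.trivialChar G), w χ
  have hint : IsIntegral ℤ s := by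
    refine IsIntegral.sum _ fun χ _ => ?_
    simp only [w]
    split_ifs with hd
    · exact (isIntegral_char (Char.irr_isCharacter χ) g).mul
        ((isIntegral_algebraMap (R := ℤ) (A := ℂ) (x := ((Char.degree χ / p : ℕ) : ℤ))))
    · exact isIntegral_zero
  have hs : s = algebraMap ℚ ℂ (-1 / (p : ℚ)) := by
    have hp0 : (p : ℂ) ≠ 0 := Nat.cast_ne_zero.2 hp.ne_zero
    rw [eq_ratCast]
    push_cast
    field_simp
    linear_combination hsum
  rw [hs, isIntegral_algebraMap_iff (algebraMap ℚ ℂ).injective] at hint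
  obtain ⟨z, hz⟩ := IsIntegrallyClosed.isIntegral_iff.1 hint
  rw [eq_intCast, eq_div_iff (Nat.cast_ne_zero.2 hp.ne_zero)] at hz
  have hz' : z * (p : ℤ) = -1 := by exact_mod_cast hz
  have : (p : ℤ) ∣ 1 := ⟨-z, by linear_combination hz'⟩
  exact hp.not_dvd_one (by exact_mod_cast this)

/-- Burnside's `p^a q^b` theorem. -/
theorem isSolvable_of_card_eq {p q a b : ℕ} (hp : p.Prime) (hq : q.Prime)
    (hcard : Nat.card G = p ^ a * q ^ b) : Group.IsSolvable G := by
  suffices H : ∀ (n : ℕ) (H : Type u) [Group H] [Finite H], Nat.card H = n →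
      ∀ a b, n = p ^ a * q ^ b → Group.IsSolvable H from H _ G rfl a b hcard
  intro n
  induction n using Nat.strong_induction_on with
  | _ n ih =>
  intro H _ _ hn a b hab
  rcases subsingleton_or_nontrivial H with hs | hnt
  · infer_instance
  by_cases hsimple : IsSimpleGroup H
  · refine Group.isSolvable_of_comm fun x y => ?_
    suffices hpr : (Nat.card H).Prime by
      have := Fact.mk hpr
      have hc := isCyclic_of_prime_card (α := H) rfl
      obtain ⟨g, hg⟩ := hc.exists_generator
      obtain ⟨i, rfl⟩ := Subgroup.mem_zpowers_iff.1 (hg x)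
      obtain ⟨j, rfl⟩ := Subgroup.mem_zpowers_iff.1 (hg y)
      rw [← zpow_add, ← zpow_add, add_comm]
    -- a prime dividing the order and the other one
    obtain ⟨r, hr, hrn⟩ := Nat.exists_prime_and_dvd (Finite.one_lt_card (α := H)).ne'
    obtain ⟨t, ht, hrt⟩ : ∃ t : ℕ, t.Prime ∧
        ∀ d, d ∣ Nat.card H → ¬ r ∣ d → ∃ e, d = t ^ e := by
      have key : ∀ (p q a b : ℕ), p.Prime → q.Prime → Nat.card H = p ^ a * q ^ b →
          ∀ d, d ∣ Nat.card H → ¬ p ∣ d → ∃ e, d = q ^ e := by
        intro p q a b hp hq h d hd hpd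
        have : d ∣ q ^ b := (Nat.Coprime.pow_right a
          ((hp.coprime_iff_not_dvd.2 hpd).symm)).dvd_of_dvd_mul_left (h ▸ hd)
        obtain ⟨e, -, he⟩ := (Nat.dvd_prime_pow hq).1 this
        exact ⟨e, he⟩
      rw [hn, hab, Nat.Prime.dvd_mul hr] at hrn
      rcases hrn with h | h
      · have : r = p := (Nat.prime_dvd_prime_iff_eq hr hp).1 (hr.dvd_of_dvd_pow h)
        exact ⟨q, hq, this ▸ key p q a b hp hq (hn.trans hab)⟩
      · have : r = q := (Nat.prime_dvd_prime_iff_eq hr hq).1 (hr.dvd_of_dvd_pow h)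
        exact ⟨p, hp, this ▸ key q p b a hq hp ((hn.trans hab).trans (mul_comm _ _))⟩
    have := Fact.mk hr
    obtain ⟨P⟩ := (inferInstance : Nonempty (Sylow r H))
    have hPn : Nontrivial (P : Subgroup H) :=
      (Subgroup.nontrivial_iff_ne_bot _).2 (P.ne_bot_of_dvd_card hrn)
    have := IsPGroup.center_nontrivial P.isPGroup'
    obtain ⟨z, hz⟩ := exists_ne (1 : Subgroup.center (P : Subgroup H))
    have hz1 : ((z : (P : Subgroup H)) : H) ≠ 1 := fun h => hz (Subtype.ext (Subtype.ext h))
    have hle : (P : Subgroup H) ≤ Subgroup.centralizer ({((z : (P : Subgroup H)) : H)} : Set H) := by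
      intro x hx
      rw [Subgroup.mem_centralizer_singleton_iff]
      exact congrArg Subtype.val (Subgroup.mem_center_iff.1 z.2 ⟨x, hx⟩)
    obtain ⟨e, he⟩ := hrt _
      (Subgroup.index_dvd_card (Subgroup.centralizer ({((z : (P : Subgroup H)) : H)} : Set H)))
      fun hd => Sylow.not_dvd_index P (hd.trans (Subgroup.index_dvd_of_le hle))
    exact card_prime_of_class_prime_pow ht hz1 he
  · obtain ⟨N, hN, hN1, hN2⟩ : ∃ N : Subgroup H, N.Normal ∧ N ≠ ⊥ ∧ N ≠ ⊤ := by
      by_contra hh
      push Not at hh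
      exact hsimple ⟨fun N hN => (em (N = ⊥)).imp id (hh N hN)⟩
    have hdiv : ∀ m, m ∣ n → ∃ a' b', m = p ^ a' * q ^ b' := by
      intro m hm
      rw [hab] at hm
      obtain ⟨m1, m2, h1, h2, rfl⟩ := exists_dvd_and_dvd_of_dvd_mul hm
      obtain ⟨a', -, rfl⟩ := (Nat.dvd_prime_pow hp).1 h1
      obtain ⟨b', -, rfl⟩ := (Nat.dvd_prime_pow hq).1 h2
      exact ⟨a', b', rfl⟩
    have hmul := Subgroup.card_mul_index N
    rw [hn] at hmul
    have hN1' : 1 < Nat.card N := (Subgroup.one_lt_card_iff_ne_bot N).2 hN1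
    have hN2' : 1 < N.index := Subgroup.one_lt_index_of_ne_top hN2
    obtain ⟨a1, b1, h1⟩ := hdiv (Nat.card N) ⟨_, hmul.symm⟩
    obtain ⟨a2, b2, h2⟩ := hdiv N.index ⟨Nat.card N, by rw [← hmul, mul_comm]⟩
    have := ih (Nat.card N) (by nlinarith) N rfl a1 b1 h1
    have := ih N.index (by nlinarith) (H ⧸ N) (Subgroup.index_eq_card N).symm a2 b2 h2
    exact Group.isSolvable_of_ker_le_range N.subtype (QuotientGroup.mk' N)
      (by rw [QuotientGroup.ker_mk', Subgroup.range_subtype])

end Cfsg.Agent.CharInt
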