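import Mathlib
import Cfsg.Agent.Lib.Char.Induction

/-!
# Induction of functions supported on trivial-intersection sets

`H` is a subgroup, `S ⊆ H` a set such that any element conjugating a point of `S` into `S` lies in
`H`, and the functions vanish on `H` outside `S`.
-/

set_option linter.unusedSectionVars false

namespace Cfsg.Agent.CharInt

open scoped ComplexConjugate

universe u

variable {G : Type u} [Group G] [Fintype G] {H : Subgroup G} {S : Set G} {ψ θ : H → ℂ}

theorem indFun_eq_of_ti (hTI : ∀ g : G, ∀ s ∈ S, g⁻¹ * s * g ∈ S → g ∈ H)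
    (hψ : Cfsg.IsClassFunction H ψ) (hψS : ∀ x : H, (x : G) ∉ S → ψ x = 0) {t : H}
    (ht : (t : G) ∈ S) : Cfsg.indFun H ψ t = ψ t := by
  classical
  have hval : ∀ x : G, Cfsg.extendByZero H ψ (x⁻¹ * (t : G) * x) = if x ∈ H then ψ t else 0 := by
    intro x
    split_ifs with hx
    · rw [Char.extendByZero_of_mem _ _ (mul_mem (mul_mem (inv_mem hx) t.2) hx)]
      have := hψ t ⟨x, hx⟩⁻¹
      rw [inv_inv] at this
      exact this
    · by_cases hm : x⁻¹ * (t : G) * x ∈ H
      · rw [Char.extendByZero_of_mem _ _ hm]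
        exact hψS _ fun h => hx (hTI x t ht h)
      · exact Char.extendByZero_of_notMem _ _ hm
  have hH : (Nat.card H : ℂ) ≠ 0 := Nat.cast_ne_zero.2 Nat.card_pos.ne'
  simp only [Cfsg.indFun, hval, Finset.sum_ite, Finset.sum_const_zero, add_zero, Finset.sum_const,
    nsmul_eq_mul]
  rw [← Fintype.card_subtype, ← Nat.card_eq_fintype_card, ← mul_assoc]
  exact (congrArg (· * ψ t) (inv_mul_cancel₀ hH)).trans (one_mul _)

/-- Induction of functions supported on a TI set vanishing at `1` is an isometry. -/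
theorem classInner_indFun_ti [Fintype H] (hTI : ∀ g : G, ∀ s ∈ S, g⁻¹ * s * g ∈ S → g ∈ H)
    (hψS : ∀ x : H, (x : G) ∉ S → ψ x = 0)
    (hθ : Cfsg.IsClassFunction H θ) (hθS : ∀ x : H, (x : G) ∉ S → θ x = 0) :
    Cfsg.classInner (Cfsg.indFun H ψ) (Cfsg.indFun H θ) = Cfsg.classInner ψ θ := by
  rw [Char.classInner_indFun _ ψ (Char.isClassFunction_indFun _ θ)]
  simp only [Cfsg.classInner]
  congr 1
  refine Finset.sum_congr rfl fun x _ => ?_
  by_cases hx : (x : G) ∈ S
  · rw [indFun_eq_of_ti hTI hθ hθS hx]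
  · rw [hψS x hx, zero_mul, zero_mul]

/-- The induced function of a function supported on `S` vanishes off the conjugates of `S`. -/
theorem indFun_eq_zero_of_support (hψS : ∀ x : H, (x : G) ∉ S → ψ x = 0) {g : G}
    (hg : ∀ x : G, x⁻¹ * g * x ∉ S) : Cfsg.indFun H ψ g = 0 := by
  simp only [Cfsg.indFun]
  rw [Finset.sum_eq_zero, mul_zero]
  intro x _
  by_cases hm : x⁻¹ * g * x ∈ H
  · rw [Char.extendByZero_of_mem _ _ hm]; exact hψS _ (hg x)
  · exact Char.extendByZero_of_notMem _ _ hm

end Cfsg.Agent.CharInt
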