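import Mathlib
import Cfsg.Agent.Lib.CharInt.Basic
import Cfsg.Agent.Lib.CharInt.TI
import Cfsg.Agent.Lib.Char.Induction
import Cfsg.Agent.Lib.Frobenius.Basic

/-!
# Frobenius' theorem

The Frobenius kernel of a Frobenius complement is a normal subgroup and the complement complements
it; every irreducible character of the complement extends to one of the group trivial on the kernel.
-/

set_option linter.unusedSectionVars false

namespace Cfsg.Agent.CharInt

open scoped ComplexConjugate

universe u

variable {G : Type u} [Group G] [Finite G] {H : Subgroup G}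

/-- Each irreducible character of a Frobenius complement extends to an irreducible character of
the group which is constant on the Frobenius kernel. -/
theorem exists_frobenius_extension (hH : Cfsg.IsFrobeniusComplement H) (φ : Cfsg.IrrCharacter H) :
    ∃ θ : Cfsg.IrrCharacter G, (∀ h : H, θ.1 (h : G) = φ.1 h) ∧
      ∀ x ∈ Cfsg.frobeniusKernel H, θ.1 x = θ.1 1 := by
  classical
  have : Fintype G := Fintype.ofFinite G
  have : Fintype H := Fintype.ofFinite H
  by_cases htriv : φ = Char.trivialChar H
  · exact ⟨Char.trivialChar G, by simp [htriv], by simp⟩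
  obtain ⟨d, hd, hd1⟩ := Char.IsIrrCharacter.exists_degree φ.2
  let oneH : H → ℂ := fun _ => 1
  let oneG : G → ℂ := fun _ => 1
  let ψ : H → ℂ := φ.1 - (d : ℂ) • oneH
  have hψ1 : ψ 1 = 0 := by simp [ψ, oneH, hd1]
  have hψc : Cfsg.IsClassFunction H ψ := by
    intro a b
    simp [ψ, oneH, Char.IsCharacter.isClassFunction (Char.irr_isCharacter φ) a b]
  set S : Set G := {x | x ∈ H ∧ x ≠ 1} with hS
  have hTI : ∀ g : G, ∀ s ∈ S, g⁻¹ * s * g ∈ S → g ∈ H := fun g s hs hg =>
    Frobenius.mem_of_inter hH hs.1 hs.2 hg.1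
  have hψS : ∀ x : H, (x : G) ∉ S → ψ x = 0 := by
    intro x hx
    have : x = 1 := by
      by_contra h
      exact hx ⟨x.2, fun e => h (Subtype.ext e)⟩
    rw [this, hψ1]
  set f := Cfsg.indFun H ψ with hf
  have hf1 : f 1 = 0 := by rw [hf, Char.indFun_apply_one, hψ1, mul_zero]
  have hres : ∀ h : H, f h = ψ h := by
    intro h
    by_cases hh : h = 1
    · rw [hh, hψ1]; exact hf1
    · exact indFun_eq_of_ti hTI hψc hψS ⟨h.2, fun e => hh (Subtype.ext e)⟩
  set θ : G → ℂ := f + (d : ℂ) • oneG with hθ
  have hone : ∀ (K : Type u) [Group K] [Fintype K],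
      Cfsg.classInner (fun _ : K => (1 : ℂ)) (fun _ => 1) = 1 := fun K _ _ =>
    Char.classInner_irr_self Char.isIrrCharacter_one
  have hφ1 : Cfsg.classInner φ.1 oneH = 0 :=
    Char.classInner_irr_of_ne φ.2 Char.isIrrCharacter_one fun e => htriv (Subtype.ext e)
  have h1φ : Cfsg.classInner oneH φ.1 = 0 := by
    rw [← Char.conj_classInner, hφ1, map_zero]
  have hψψ : Cfsg.classInner ψ ψ = 1 + (d : ℂ) * d := by
    simp only [ψ, Char.classInner_sub_left, Char.classInner_sub_right, Char.classInner_smul_left,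
      Char.classInner_smul_right, hφ1, h1φ, Char.classInner_irr_self φ.2, Complex.conj_natCast]
    rw [hone H]
    ring
  have hψone : Cfsg.classInner ψ oneH = -(d : ℂ) := by
    simp only [ψ, Char.classInner_sub_left, Char.classInner_smul_left, hφ1]
    rw [hone H]
    ring
  have hfone : Cfsg.classInner f oneG = -(d : ℂ) := by
    rw [hf, Char.classInner_indFun H ψ (χ := oneG) (fun _ _ => rfl)]
    exact hψone
  have honef : Cfsg.classInner oneG f = -(d : ℂ) := by
    rw [← Char.conj_classInner, hfone, map_neg, Complex.conj_natCast]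
  have hθθ : Cfsg.classInner θ θ = 1 := by
    simp only [hθ, Char.classInner_add_left, Char.classInner_add_right, Char.classInner_smul_left,
      Char.classInner_smul_right, hfone, honef, Complex.conj_natCast]
    rw [hf, classInner_indFun_ti hTI hψS hψc hψS, hψψ, hone G]
    ring
  have hgen : Cfsg.IsGeneralizedCharacter G θ := by
    refine Char.IsGeneralizedCharacter.add (Char.isGeneralizedCharacter_indFun H
      ⟨φ.1, (d : ℂ) • oneH, Char.irr_isCharacter φ,
        Char.IsCharacter.natCast_smul Char.isCharacter_one d, rfl⟩) ?_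
    exact Char.IsCharacter.isGeneralized (Char.IsCharacter.natCast_smul Char.isCharacter_one d)
  have hθ1 : θ 1 = d := by simp [hθ, hf1, oneG]
  obtain ⟨Θ, hΘ⟩ := Char.IsGeneralizedCharacter.irr_or_neg_of_norm_one hgen hθθ
  have hΘθ : θ = Θ.1 := by
    rcases hΘ with h | h
    · exact h
    · exfalso
      obtain ⟨n, hn, hn1⟩ := Char.IsIrrCharacter.exists_degree Θ.2
      have h2 := congrFun h 1
      rw [hθ1, Pi.neg_apply, hn1] at h2
      have h3 : ((d + n : ℕ) : ℂ) = 0 := by push_cast; linear_combination h2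
      have := Nat.cast_eq_zero.1 h3
      omega
  refine ⟨Θ, fun h => ?_, fun x hx => ?_⟩
  · rw [← hΘθ]
    simp [hθ, hres, ψ, oneG, oneH]
  · rw [← hΘθ, hθ1]
    rcases eq_or_ne x 1 with rfl | hx1
    · exact hθ1
    · rw [Frobenius.mem_kernel_iff hx1] at hx
      simp only [hθ, Pi.add_apply, Pi.smul_apply, oneG, smul_eq_mul, mul_one]
      rw [hf, indFun_eq_zero_of_support hψS fun g hg => hx g hg.1, zero_add]

/-- Frobenius' theorem: the Frobenius kernel is a normal subgroup with complement `H`. -/
theorem exists_frobeniusKernel (hH : Cfsg.IsFrobeniusComplement H) :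
    ∃ N : Subgroup G, (N : Set G) = Cfsg.frobeniusKernel H ∧ N.Normal ∧
      Subgroup.IsComplement' N H := by
  classical
  choose θ hres hker using exists_frobenius_extension hH
  let N : Subgroup G := ⨅ φ : Cfsg.IrrCharacter H, charKernel (Char.irr_isCharacter (θ φ))
  have hmem : ∀ x, x ∈ N ↔ ∀ φ, (θ φ).1 x = (θ φ).1 1 := fun x => by
    simp [N, Subgroup.mem_iInf, mem_charKernel]
  have hN : N.Normal :=
    ⟨fun n hn g => (hmem _).2 fun φ => by
      rw [char_conj_apply (Char.irr_isCharacter (θ φ))]; exact (hmem n).1 hn φ⟩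
  have hdisj : ∀ x, x ∈ N → x ∈ H → x = 1 := by
    intro x hx hxH
    have : Fintype H := Fintype.ofFinite H
    have h : IsConj (⟨x, hxH⟩ : H) 1 := (Char.isConj_iff_forall_irr _ _).2 fun φ => by
      rw [← hres φ ⟨x, hxH⟩, ← hres φ 1]
      exact (hmem x).1 hx φ
    exact congrArg Subtype.val (isConj_one_left.1 h)
  have hset : (N : Set G) = Cfsg.frobeniusKernel H := by
    ext x
    refine ⟨fun hx => ?_, fun hx => (hmem x).2 fun φ => hker φ x hx⟩
    by_cases hx1 : x = 1
    · exact Or.inl hx1
    · rw [Frobenius.mem_kernel_iff hx1]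
      intro g hg
      have h1 : g⁻¹ * x * g = 1 := hdisj _ (by simpa using hN.conj_mem x hx g⁻¹) hg
      exact hx1 (by simpa [mul_assoc] using congrArg (fun y => g * y * g⁻¹) h1)
  refine ⟨N, hset, hN, Subgroup.isComplement'_of_card_mul_and_disjoint ?_ ?_⟩
  · have hcard : Nat.card N = H.index := by
      rw [← Frobenius.card_kernel hH, ← hset]; rfl
    rw [hcard, mul_comm, Subgroup.card_mul_index]
  · rw [disjoint_iff]
    exact (Subgroup.eq_bot_iff_forall _).2 fun x hx =>
      hdisj x (Subgroup.mem_inf.1 hx).1 (Subgroup.mem_inf.1 hx).2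

end Cfsg.Agent.CharInt
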