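import Mathlib
import Cfsg.Agent.Lib.CharInt.Basic
import Cfsg.Agent.Lib.Char.Induction

/-!
# Constituents and induced characters

* `eq_zero_or_eq_zero_of_irr_eq_add`;
* `isIrrCharacter_of_indFun`: `θ` is irreducible if `θ^G` is;
* `exists_constituent_res`, `exists_indFun_eq_add`: `θ^G = χ + ψ` for a constituent `θ` of `χ_H`.
-/

set_option linter.unusedSectionVars false

namespace Cfsg.Agent.CharInt

open scoped ComplexConjugate

universe u

variable {G : Type u} [Group G] [Fintype G]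

theorem eq_zero_or_eq_zero_of_irr_eq_add {χ φ ψ : G → ℂ} (hχ : Cfsg.IsIrrCharacter G χ)
    (hφ : Cfsg.IsCharacter G φ) (hψ : Cfsg.IsCharacter G ψ) (h : χ = φ + ψ) :
    φ = 0 ∨ ψ = 0 := by
  obtain ⟨a, ha⟩ := Char.IsCharacter.exists_nat_classInner hφ (isCharacter_of_isIrr hχ)
  obtain ⟨b, hb⟩ := Char.IsCharacter.exists_nat_classInner hψ (isCharacter_of_isIrr hχ)
  have h1 := Char.classInner_irr_self hχ
  conv_lhs at h1 => arg 1; rw [h]
  rw [Char.classInner_add_left, ha, hb] at h1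
  have hab : a + b = 1 := by exact_mod_cast h1
  obtain ⟨x, hx⟩ := Char.IsCharacter.exists_nat_classInner hφ hφ
  obtain ⟨y, hy⟩ := Char.IsCharacter.exists_nat_classInner hψ hψ
  obtain ⟨z, hz⟩ := Char.IsCharacter.exists_nat_classInner hφ hψ
  have hz' : Cfsg.classInner ψ φ = z := by rw [← Char.conj_classInner, hz, Complex.conj_natCast]
  rw [h, Char.classInner_add_right, hx, hz] at ha
  rw [h, Char.classInner_add_right, hz', hy] at hb
  have hxa : x + z = a := by exact_mod_cast ha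
  have hyb : z + y = b := by exact_mod_cast hb
  rcases Nat.eq_zero_or_pos a with ha0 | ha0
  · left
    exact Char.classInner_self_eq_zero (by rw [hx]; exact_mod_cast (by omega : x = 0))
  · right
    exact Char.classInner_self_eq_zero (by rw [hy]; exact_mod_cast (by omega : y = 0))

theorem eq_zero_of_indFun_eq_zero {H : Subgroup G} {φ : H → ℂ} (hφ : Cfsg.IsCharacter H φ)
    (h : Cfsg.indFun H φ = 0) : φ = 0 := by
  refine Char.IsCharacter.eq_zero_of_apply_one hφ ?_
  have h1 := congrFun h 1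
  rw [Char.indFun_apply_one, Pi.zero_apply, mul_eq_zero] at h1
  exact h1.resolve_left (Nat.cast_ne_zero.2 Subgroup.FiniteIndex.index_ne_zero)

/-- If a character induces irreducibly, it is irreducible. -/
theorem isIrrCharacter_of_indFun {H : Subgroup G} [Fintype H] {θ : H → ℂ}
    (hθ : Cfsg.IsCharacter H θ) (h : Cfsg.IsIrrCharacter G (Cfsg.indFun H θ)) :
    Cfsg.IsIrrCharacter H θ := by
  revert h
  refine Char.IsCharacter.induction_on
    (P := fun φ => Cfsg.IsIrrCharacter G (Cfsg.indFun H φ) → Cfsg.IsIrrCharacter H φ) hθ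
    (fun h => absurd (Char.indFun_zero H) (Char.IsIrrCharacter.ne_zero h)) ?_ (fun φ hφ _ => hφ)
  intro φ ψ hφ hψ h1 h2 h
  rcases eq_zero_or_eq_zero_of_irr_eq_add h (Char.isCharacter_indFun H hφ)
      (Char.isCharacter_indFun H hψ) (Char.indFun_add H φ ψ) with h0 | h0
  · have hz := eq_zero_of_indFun_eq_zero hφ h0
    subst hz
    rw [zero_add] at h ⊢
    exact h2 h
  · have hz := eq_zero_of_indFun_eq_zero hψ h0
    subst hz
    rw [add_zero] at h ⊢
    exact h1 h

theorem exists_constituent_res (H : Subgroup G) [Fintype H] (χ : Cfsg.IrrCharacter G) :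
    ∃ θ : Cfsg.IrrCharacter H, Cfsg.classInner (fun h : H => χ.1 h) θ.1 ≠ 0 := by
  by_contra! h
  have := Char.eq_zero_of_classInner_irr
    (Char.IsCharacter.isClassFunction (Char.IsCharacter.restrict (Char.irr_isCharacter χ) H)) h
  exact Char.IsIrrCharacter.apply_one_ne_zero χ.2 (by simpa using congrFun this 1)

theorem exists_indFun_eq_add {H : Subgroup G} [Fintype H] {χ : Cfsg.IrrCharacter G} {θ : H → ℂ}
    (hθ : Cfsg.IsCharacter H θ) (h : Cfsg.classInner (fun x : H => χ.1 x) θ ≠ 0) :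
    ∃ ψ : G → ℂ, Cfsg.IsCharacter G ψ ∧ Cfsg.indFun H θ = χ.1 + ψ := by
  classical
  obtain ⟨m, hm, hm'⟩ := Char.IsCharacter.exists_decomp (Char.isCharacter_indFun H hθ)
  have hpos : m χ ≠ 0 := fun h0 => h <| by
    have := hm' χ
    rw [h0, Nat.cast_zero, Char.classInner_indFun H θ
      (Char.IsCharacter.isClassFunction (Char.irr_isCharacter χ))] at this
    rw [← Char.conj_classInner, this, map_zero]
  refine ⟨∑ ψ : Cfsg.IrrCharacter G, ((m ψ - if ψ = χ then 1 else 0 : ℕ) : ℂ) • ψ.1,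
    Char.isCharacter_sum_nat_smul _, ?_⟩
  rw [hm]
  have hc : χ.1 = ∑ ψ : Cfsg.IrrCharacter G, ((if ψ = χ then 1 else 0 : ℕ) : ℂ) • ψ.1 := by
    rw [Finset.sum_eq_single χ] <;> simp +contextual
  conv_rhs => arg 1; rw [hc]
  rw [← Finset.sum_add_distrib]
  refine Finset.sum_congr rfl fun ψ _ => ?_
  rw [← add_smul, ← Nat.cast_add]
  congr 2
  split_ifs with hψ
  · subst hψ; omega
  · omega

theorem eq_indFun_of_degree_eq {H : Subgroup G} [Fintype H] {χ : Cfsg.IrrCharacter G} {θ : H → ℂ}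
    (hθ : Cfsg.IsCharacter H θ) (h : Cfsg.classInner (fun x : H => χ.1 x) θ ≠ 0)
    (hdeg : χ.1 1 = (H.index : ℂ) * θ 1) : χ.1 = Cfsg.indFun H θ := by
  obtain ⟨ψ, hψ, he⟩ := exists_indFun_eq_add hθ h
  have h1 := congrFun he 1
  rw [Char.indFun_apply_one, Pi.add_apply, ← hdeg, left_eq_add] at h1
  rw [he, Char.IsCharacter.eq_zero_of_apply_one hψ h1, add_zero]

theorem degree_le_of_constituent {H : Subgroup G} [Fintype H] {χ : Cfsg.IrrCharacter G} {θ : H → ℂ}
    (hθ : Cfsg.IsCharacter H θ) (h : Cfsg.classInner (fun x : H => χ.1 x) θ ≠ 0) {m n : ℕ}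
    (hm : χ.1 1 = m) (hn : θ 1 = n) : m ≤ H.index * n := by
  obtain ⟨ψ, hψ, he⟩ := exists_indFun_eq_add hθ h
  obtain ⟨k, hk⟩ := Char.IsCharacter.apply_one hψ
  have h1 := congrFun he 1
  rw [Char.indFun_apply_one, Pi.add_apply, hm, hn, hk] at h1
  have h2 : H.index * n = m + k := by exact_mod_cast h1
  omega

end Cfsg.Agent.CharInt
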