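import Cfsg.Agent.Lib.CharInt.QuaternionSylow
import Cfsg.Agent.Lib.Involution.Isolated
import Cfsg.Agent.Lib.Involution.QuaternionFactor
import Cfsg.Agent.Lib.ZStar.Product
import Cfsg.Agent.Lib.Char.Descend
import Cfsg.Agent.Lib.Char.Linear

/-!
# The Brauer–Suzuki theorem for quaternion Sylow 2-subgroups of order at least 16
-/

set_option linter.unusedSectionVars false
set_option linter.style.haveILetI false

namespace Cfsg.Agent.CharInt

open Cfsg
open scoped commutatorElement

universe u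

variable {G : Type u} [Group G] [Finite G]

theorem orderOf_conj' (g x : G) : orderOf (g * x * g⁻¹) = orderOf x :=
  (MulAut.conj g).orderOf_eq x

/-- A finite cyclic group has at most one subgroup of each order. -/
theorem eq_of_card_eq_of_isCyclic {α : Type*} [Group α] [Finite α] [IsCyclic α] {H K : Subgroup α}
    (h : Nat.card H = Nat.card K) : H = K := by
  classical
  haveI := Fintype.ofFinite α
  have key : ∀ L : Subgroup α, Nat.card L = Nat.card H →
      (L : Set α).toFinset = Finset.univ.filter fun x => x ^ Nat.card H = 1 := fun L hL => by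
    refine Finset.eq_of_subset_of_card_le (fun x hx => ?_) ?_
    · rw [Set.mem_toFinset, SetLike.mem_coe] at hx
      refine Finset.mem_filter.2 ⟨Finset.mem_univ _, ?_⟩
      rw [← hL]
      have := pow_card_eq_one' (x := (⟨x, hx⟩ : L))
      have := congrArg Subtype.val this
      rwa [SubgroupClass.coe_pow, OneMemClass.coe_one] at this
    · refine (IsCyclic.card_pow_eq_one_le Nat.card_pos).trans (le_of_eq ?_)
      rw [← hL]
      exact Nat.card_eq_card_toFinset (L : Set α)
  have := (key H rfl).trans (key K h.symm).symm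
  simpa using this

section Involutions

variable (S : Sylow 2 G) {n : ℕ} (hn : 1 ≤ n)
  (e : (S : Subgroup G) ≃* QuaternionGroup (2 ^ n))

theorem exists_conj_mem_sylow (S : Sylow 2 G) {R : Subgroup G} (hR : IsPGroup 2 R) :
    ∃ g : G, ∀ x ∈ R, g * x * g⁻¹ ∈ (S : Subgroup G) := by
  haveI : Fact (Nat.Prime 2) := ⟨Nat.prime_two⟩
  obtain ⟨P, hP⟩ := hR.exists_le_sylow
  obtain ⟨g, hg⟩ := MulAction.exists_smul_eq G P S
  refine ⟨g, fun x hx => ?_⟩
  rw [← hg, Sylow.coe_subgroup_smul]
  exact Subgroup.mem_pointwise_smul_iff_inv_smul_mem.mpr (by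
    simpa [MulAut.smul_def, MulAut.conj_inv_apply, mul_assoc] using hP hx)

include hn e in
theorem eq_of_commute_involutions {s t : G} (hs : orderOf s = 2) (ht : orderOf t = 2)
    (hc : Commute s t) : s = t := by
  haveI : Fact (Nat.Prime 2) := ⟨Nat.prime_two⟩
  obtain ⟨q, -, -, huniq, -⟩ := QuaternionFactor.quat_facts hn e
  have h2 : ∀ {x : G}, orderOf x = 2 → IsPGroup 2 (Subgroup.zpowers x) := fun {x} hx =>
    IsPGroup.of_card (n := 1) (by rw [Nat.card_zpowers, hx, pow_one])
  have hle : Subgroup.zpowers s ≤ Subgroup.normalizer (Subgroup.zpowers t : Set G) := by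
    rw [Subgroup.zpowers_le]
    refine Subgroup.centralizer_le_normalizer _ (Subgroup.mem_centralizer_iff.2 ?_)
    rintro _ ⟨k, rfl⟩
    exact (hc.symm.zpow_left k).eq
  obtain ⟨g, hg⟩ := exists_conj_mem_sylow S (IsPGroup.to_sup_of_normal_right' (h2 hs) (h2 ht) hle)
  have key : ∀ {x : G}, orderOf x = 2 → x ∈ Subgroup.zpowers s ⊔ Subgroup.zpowers t →
      g * x * g⁻¹ = q := by
    intro x hx hmem
    refine (huniq _ (hg x hmem) ?_).resolve_left ?_
    · rw [conj_pow, ← hx, pow_orderOf_eq_one]; simp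
    · intro h
      rw [conj_eq_one_iff] at h
      rw [h, orderOf_one] at hx
      omega
  have := (key hs (Subgroup.mem_sup_left (Subgroup.mem_zpowers s))).trans
    (key ht (Subgroup.mem_sup_right (Subgroup.mem_zpowers t))).symm
  exact mul_left_cancel (mul_right_cancel this)

include hn e in
theorem isConj_of_orderOf_two {s t : G} (hs : orderOf s = 2) (ht : orderOf t = 2) :
    IsConj s t := by
  haveI : Fact (Nat.Prime 2) := ⟨Nat.prime_two⟩
  obtain ⟨q, -, -, huniq, -⟩ := QuaternionFactor.quat_facts hn e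
  have key : ∀ {x : G}, orderOf x = 2 → IsConj x q := by
    intro x hx
    obtain ⟨g, hg⟩ := exists_conj_mem_sylow S
      (IsPGroup.of_card (G := Subgroup.zpowers x) (n := 1) (by rw [Nat.card_zpowers, hx, pow_one]))
    refine isConj_iff.2 ⟨g, (huniq _ (hg x (Subgroup.mem_zpowers x)) ?_).resolve_left ?_⟩
    · rw [conj_pow, ← hx, pow_orderOf_eq_one]; simp
    · intro h
      rw [conj_eq_one_iff] at h
      rw [h, orderOf_one] at hx
      omega
  exact (key hs).trans (key ht).symm

include hn e in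
theorem isIsolated_of_orderOf_two {s : G} (hs : orderOf s = 2) : IsIsolatedInvolution s :=
  ⟨hs, fun g hc => (eq_of_commute_involutions S hn e hs
    (by rw [orderOf_conj', hs]) hc).symm⟩

end Involutions

/-- A group with a generalized quaternion Sylow 2-subgroup of order at least 16 has a normal
subgroup of even order with non-abelian quotient. -/
theorem exists_normal_even_not_commutator_le (S : Sylow 2 G) {n : ℕ} (hn : 2 ≤ n)
    (e : (S : Subgroup G) ≃* QuaternionGroup (2 ^ n)) :
    ∃ M : Subgroup G, M.Normal ∧ Even (Nat.card M) ∧ ¬ commutator G ≤ M := by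
  classical
  obtain ⟨χ₁, χ₂, -, -, hdeg, hrel⟩ := exists_char_pair S hn e
  have hn1 : 1 ≤ n := le_trans (by norm_num) hn
  obtain ⟨q, -, hq, -, -⟩ := QuaternionFactor.quat_facts hn1 e
  have hiso := isIsolated_of_orderOf_two S hn1 e hq
  obtain ⟨d, hdpos, hd⟩ := irr_degree_pos χ₂.2
  have h4 : ¬ 4 ∣ orderOf q := by rw [hq]; norm_num
  have hq1 := hrel q h4
  have hsum := ZStar.sum_coeff_mul_apply_div_eq_zero Finset.univ ![(-1 : ℂ), 1, -1]
    ![Char.trivialChar G, χ₁, χ₂] (a := q) (b := q) (fun x y hx hy => by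
      have hodd := Involution.Isolated.odd_orderOf_mul hiso hx hy
      have h := hrel (x * y) fun h4 => by
        obtain ⟨k, hk⟩ := hodd
        obtain ⟨j, hj⟩ := h4
        omega
      simp [Fin.sum_univ_three]
      linear_combination h)
  simp [Fin.sum_univ_three] at hsum
  rw [hdeg, hd] at hsum
  have hd0 : (d : ℂ) ≠ 0 := Nat.cast_ne_zero.mpr hdpos.ne'
  have hd1 : (d : ℂ) + 1 ≠ 0 := Nat.cast_add_one_ne_zero d
  have e1 : χ₁.1 q = χ₂.1 q + 1 := by linear_combination hq1
  rw [e1] at hsum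
  field_simp at hsum
  have hsq : (χ₂.1 q - d) ^ 2 = 0 := by linear_combination -hsum
  have e2 : χ₂.1 q = d := sub_eq_zero.1 (pow_eq_zero_iff two_ne_zero |>.1 hsq)
  have hchar : IsCharacter G χ₁.1 := isCharacter_of_isIrr χ₁.2
  have hqM : q ∈ charKernel hchar := by rw [mem_charKernel, e1, e2, hdeg, hd]
  haveI := charKernel_normal hchar
  refine ⟨charKernel hchar, inferInstance, ?_, fun hle => ?_⟩
  · rw [even_iff_two_dvd, ← hq, ← Subgroup.orderOf_mk q hqM]
    exact orderOf_dvd_natCard _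
  · obtain ⟨ψ, hψ⟩ := Char.exists_descend (charKernel hchar) χ₁
      fun k hk => (mem_charKernel hchar).1 hk
    have hone := Char.apply_one_of_comm (G := G ⧸ charKernel hchar) (fun a b => by
      obtain ⟨x, rfl⟩ := QuotientGroup.mk_surjective a
      obtain ⟨y, rfl⟩ := QuotientGroup.mk_surjective b
      rw [← QuotientGroup.mk_mul, ← QuotientGroup.mk_mul, eq_comm, QuotientGroup.eq]
      rw [show (y * x)⁻¹ * (x * y) = ⁅x⁻¹, y⁻¹⁆ by rw [commutatorElement_def]; group]
      exact hle (Subgroup.commutator_mem_commutator (Subgroup.mem_top _) (Subgroup.mem_top _))) ψ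
    rw [← QuotientGroup.mk_one, hψ, hdeg, hd] at hone
    have : ((d + 1 : ℕ) : ℂ) = ((1 : ℕ) : ℂ) := by push_cast; linear_combination hone
    have := Nat.cast_injective this
    omega

section Quaternion

theorem quat_a_pow {N : ℕ} (i : ZMod (2 * N)) (k : ℕ) :
    (QuaternionGroup.a i : QuaternionGroup N) ^ k = QuaternionGroup.a ((k : ZMod (2 * N)) * i) := by
  induction k with
  | zero => simp [← QuaternionGroup.a_zero]
  | succ k ih => rw [pow_succ, ih, QuaternionGroup.a_mul_a, Nat.cast_succ, add_mul, one_mul]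

theorem quat_a_two_mul_mem {N : ℕ} [NeZero N] (k : ZMod (2 * N)) :
    (QuaternionGroup.a (2 * k) : QuaternionGroup N) ∈
      Subgroup.zpowers (QuaternionGroup.a 2 : QuaternionGroup N) := by
  refine ⟨(k.val : ℤ), ?_⟩
  simp only [zpow_natCast, quat_a_pow, ZMod.natCast_zmod_val, mul_comm]

theorem quat_inv_a {N : ℕ} (i : ZMod (2 * N)) :
    (QuaternionGroup.a i : QuaternionGroup N)⁻¹ = QuaternionGroup.a (-i) := rfl

theorem quat_inv_xa {N : ℕ} (i : ZMod (2 * N)) :
    (QuaternionGroup.xa i : QuaternionGroup N)⁻¹ = QuaternionGroup.xa ((N : ZMod (2 * N)) + i) :=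
  rfl

theorem quat_commutator_mem {N : ℕ} [NeZero N] (p q : QuaternionGroup N) :
    ⁅p, q⁆ ∈ Subgroup.zpowers (QuaternionGroup.a 2 : QuaternionGroup N) := by
  have hNN : ((N : ZMod (2 * N)) + N) = 0 := by
    rw [← Nat.cast_add, ← two_mul, ZMod.natCast_self]
  rw [commutatorElement_def]
  rcases p with i | i <;> rcases q with j | j <;>
    simp only [quat_inv_a, quat_inv_xa, QuaternionGroup.a_mul_a,
      QuaternionGroup.a_mul_xa, QuaternionGroup.xa_mul_a, QuaternionGroup.xa_mul_xa]
  · convert quat_a_two_mul_mem (0 : ZMod (2 * N)) using 2; ring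
  · convert quat_a_two_mul_mem i using 2; linear_combination hNN
  · convert quat_a_two_mul_mem (-j) using 2; linear_combination hNN
  · convert quat_a_two_mul_mem (j - i) using 2; linear_combination hNN

theorem quat_conj_a {N : ℕ} (j k : ZMod (2 * N)) :
    (QuaternionGroup.xa j : QuaternionGroup N) * QuaternionGroup.a k * (QuaternionGroup.xa j)⁻¹
      = (QuaternionGroup.a k)⁻¹ := by
  rw [mul_inv_eq_iff_eq_mul, quat_inv_a, QuaternionGroup.xa_mul_a,
    QuaternionGroup.a_mul_xa, sub_neg_eq_add]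

/-- The facts about a generalized quaternion subgroup used for the Brauer–Suzuki theorem. -/
theorem quat16_facts {n : ℕ} {S : Subgroup G} (e : S ≃* QuaternionGroup (2 ^ (n + 2))) :
    ∃ c d : G, c ∈ S ∧ d = c ^ 2 ∧ orderOf c = 2 ^ (n + 3) ∧ orderOf d = 2 ^ (n + 2) ∧
      Nat.card S = 2 ^ (n + 4) ∧ ⁅S, S⁆ = Subgroup.zpowers d ∧
      (∀ x ∈ S, x ∈ Subgroup.zpowers c ∨ ∀ y ∈ Subgroup.zpowers c, x * y * x⁻¹ = y⁻¹) ∧
      (∃ t ∈ S, t ∉ Subgroup.zpowers c ∧ ∀ y ∈ Subgroup.zpowers c, t * y * t⁻¹ = y⁻¹) ∧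
      ∀ T : Subgroup G, T ≤ S → (∀ s ∈ S, ∀ x ∈ T, s * x * s⁻¹ ∈ T) →
        T ≤ Subgroup.zpowers c ∨ d ∈ T := by
  haveI : NeZero (2 ^ (n + 2)) := ⟨by positivity⟩
  set A : QuaternionGroup (2 ^ (n + 2)) := QuaternionGroup.a 1 with hA
  set f : QuaternionGroup (2 ^ (n + 2)) →* G := S.subtype.comp e.symm.toMonoidHom with hf
  have finj : Function.Injective f := S.subtype_injective.comp e.symm.injective
  have fmem : ∀ x, f x ∈ S := fun x => (e.symm x).2
  have fsurj : ∀ x ∈ S, ∃ p, f p = x := fun x hx => ⟨e ⟨x, hx⟩, by simp [hf]⟩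
  have hA2 : A ^ 2 = QuaternionGroup.a 2 := by simp [hA, quat_a_pow]
  have hd : f (QuaternionGroup.a 2) = f A ^ 2 := by rw [← hA2, map_pow]
  have hzA : ∀ k, f (QuaternionGroup.a k) ∈ Subgroup.zpowers (f A) := fun k =>
    ⟨(k.val : ℤ), by simp only [zpow_natCast, ← map_pow, hA, quat_a_pow, mul_one,
      ZMod.natCast_zmod_val]⟩
  have hordA : orderOf (f A) = 2 ^ (n + 3) := by
    rw [orderOf_injective f finj, hA, QuaternionGroup.orderOf_a_one, ← pow_succ']
  have hinv : ∀ j, ∀ y ∈ Subgroup.zpowers (f A),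
      f (QuaternionGroup.xa j) * y * (f (QuaternionGroup.xa j))⁻¹ = y⁻¹ := by
    rintro j _ ⟨k, rfl⟩
    show _ * f A ^ k * _ = (f A ^ k)⁻¹
    rw [← conj_zpow, ← map_inv, ← map_mul, ← map_mul, hA, quat_conj_a, ← hA, map_inv, inv_zpow]
  refine ⟨f A, f A ^ 2, fmem A, rfl, hordA, ?_, ?_, ?_, ?_, ⟨f (QuaternionGroup.xa 0),
    fmem _, ?_, hinv 0⟩, ?_⟩
  · rw [orderOf_pow, hordA, show 2 ^ (n + 3) = 2 ^ (n + 2) * 2 by ring,
      Nat.gcd_comm, Nat.gcd_mul_left_right, Nat.mul_div_cancel _ two_pos]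
  · rw [Nat.card_congr e.toEquiv, Nat.card_eq_fintype_card, QuaternionGroup.card,
      show n + 4 = n + 2 + 2 by omega, pow_add 2 (n + 2) 2]
    ring
  · rw [← hd]
    refine le_antisymm (Subgroup.commutator_le.2 fun x hx y hy => ?_) (Subgroup.zpowers_le.2 ?_)
    · obtain ⟨p, rfl⟩ := fsurj x hx
      obtain ⟨r, rfl⟩ := fsurj y hy
      rw [← map_commutatorElement]
      obtain ⟨k, hk⟩ := quat_commutator_mem p r
      exact ⟨k, by rw [← hk]; exact (map_zpow f _ k).symm⟩
    · have hh : ⁅A, (QuaternionGroup.xa 0 : QuaternionGroup (2 ^ (n + 2)))⁆ =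
          QuaternionGroup.a 2 := by
        rw [commutatorElement_def, mul_inv_eq_iff_eq_mul, mul_inv_eq_iff_eq_mul, hA]
        simp
        norm_num
      rw [← hh, map_commutatorElement]
      exact Subgroup.commutator_mem_commutator (fmem _) (fmem _)
  · intro x hx
    obtain ⟨p, rfl⟩ := fsurj x hx
    rcases p with k | k
    · exact Or.inl (hzA k)
    · exact Or.inr (hinv k)
  · rintro ⟨k, hk⟩
    change f A ^ k = _ at hk
    have h := hinv 0 (f A) (Subgroup.mem_zpowers _)
    rw [← hk, (Commute.self_zpow (f A) k).symm.eq, mul_inv_cancel_right] at h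
    have h2 : orderOf (f A) ∣ 2 := orderOf_dvd_of_pow_eq_one (by
      rw [sq]; nth_rw 2 [h]; exact mul_inv_cancel _)
    rw [hordA] at h2
    have := Nat.le_of_dvd two_pos h2
    have : 2 ^ (n + 3) ≥ 2 ^ 3 := Nat.pow_le_pow_right two_pos (by omega)
    omega
  · intro T hT hnorm
    refine or_iff_not_imp_left.2 fun h => ?_
    obtain ⟨x, hxT, hx⟩ := SetLike.not_le_iff_exists.1 h
    obtain ⟨p, rfl⟩ := fsurj x (hT hxT)
    rcases p with k | k
    · exact absurd (hzA k) hx
    · have h1 := mul_mem hxT (inv_mem (hnorm _ (fmem A) _ hxT))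
      have h2 : f A ^ 2 = (f (QuaternionGroup.xa k) *
          (f A * f (QuaternionGroup.xa k) * (f A)⁻¹)⁻¹)⁻¹ := by
        rw [← hd, ← map_inv f A, ← map_mul, ← map_mul, ← map_inv, ← map_mul, ← map_inv]
        congr 1
        simp only [hA, quat_inv_a, QuaternionGroup.a_mul_xa, QuaternionGroup.xa_mul_a,
          quat_inv_xa, QuaternionGroup.xa_mul_xa]
        rw [QuaternionGroup.a.injEq]
        have hz : ((2 ^ (n + 2) : ℕ) : ZMod (2 * 2 ^ (n + 2))) + (2 ^ (n + 2) : ℕ) = 0 := by
          rw [← Nat.cast_add, ← two_mul, ZMod.natCast_self]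
        linear_combination hz
      rw [h2]
      exact inv_mem h1

end Quaternion

/-- An element lies in a normal subgroup of odd order and 2-power index iff its order is odd. -/
theorem mem_iff_odd_orderOf (K : Subgroup G) [K.Normal] (hodd : Odd (Nat.card K)) {k : ℕ}
    (hidx : K.index = 2 ^ k) (x : G) : x ∈ K ↔ Odd (orderOf x) := by
  refine ⟨fun hx => ?_, fun hx => ?_⟩
  · rw [← Subgroup.orderOf_mk x hx]
    exact hodd.of_dvd_nat (orderOf_dvd_natCard _)
  · obtain ⟨m, hm⟩ := exists_pow_eq_self_of_coprime (x := x) (n := 2 ^ k)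
      ((Nat.Coprime.pow_left k (Nat.coprime_two_left.2 hx)))
    rw [← hm]
    exact pow_mem (hidx ▸ K.pow_index_mem x) m

theorem normal_closure_involutions :
    (Subgroup.closure {g : G | orderOf g = 2}).Normal := by
  refine ⟨fun x hx g => ?_⟩
  have h : (Subgroup.closure {g : G | orderOf g = 2}).map (MulAut.conj g).toMonoidHom ≤
      Subgroup.closure {g : G | orderOf g = 2} := by
    rw [MonoidHom.map_closure]
    refine Subgroup.closure_mono ?_
    rintro _ ⟨y, hy, rfl⟩
    exact ((MulAut.conj g).orderOf_eq y).trans hy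
  simpa using h (Subgroup.mem_map_of_mem _ hx)

/-- The Sylow 2-subgroups of the subgroup generated by the involutions are cyclic. -/
theorem isCyclic_sylow_of_eq_closure_involutions (S : Sylow 2 G) (n : ℕ)
    (e : (S : Subgroup G) ≃* QuaternionGroup (2 ^ (n + 2))) (Ω : Subgroup G)
    (hΩ : Ω = Subgroup.closure {g : G | orderOf g = 2}) (Q : Sylow 2 Ω) : IsCyclic Q := by
  haveI : Fact (Nat.Prime 2) := ⟨Nat.prime_two⟩
  obtain ⟨c, d, hcS, hdc, -, -, -, hD, -, -, hT⟩ := quat16_facts e
  haveI : Ω.Normal := hΩ ▸ normal_closure_involutions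
  rcases hT ((S : Subgroup G) ⊓ Ω) inf_le_left (fun s hs x hx =>
    Subgroup.mem_inf.2 ⟨mul_mem (mul_mem hs (Subgroup.mem_inf.1 hx).1) (inv_mem hs),
      Subgroup.Normal.conj_mem inferInstance x (Subgroup.mem_inf.1 hx).2 s⟩)
    with hle | hd
  · obtain ⟨g, hg⟩ := exists_conj_mem_sylow S (Q.isPGroup'.map Ω.subtype)
    have hmem : ∀ x : (Q : Subgroup Ω), g * ((x : Ω) : G) * g⁻¹ ∈ Subgroup.zpowers c := fun x =>
      hle ⟨hg _ (Subgroup.mem_map_of_mem _ x.2),
        Subgroup.Normal.conj_mem inferInstance _ (x : Ω).2 g⟩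
    exact isCyclic_of_injective
      (MonoidHom.mk' (fun x => (⟨g * ((x : Ω) : G) * g⁻¹, hmem x⟩ : Subgroup.zpowers c))
        fun a b => Subtype.ext (by simp [mul_assoc]))
      (fun a b h => by
        have h1 : g * ((a : Ω) : G) * g⁻¹ = g * ((b : Ω) : G) * g⁻¹ := congrArg Subtype.val h
        exact Subtype.ext (Subtype.ext (mul_left_cancel (mul_right_cancel h1))))
  · exfalso
    set G₁ := Ω ⊔ (S : Subgroup G) with hG₁
    have hSle : (S : Subgroup G) ≤ G₁ := le_sup_right
    let S₁ : Sylow 2 G₁ := S.subtype hSle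
    let e₁ : (S₁ : Subgroup G₁) ≃* QuaternionGroup (2 ^ (n + 2)) :=
      (Subgroup.subgroupOfEquivOfLe hSle).trans e
    obtain ⟨M, hMn, hMe, hM⟩ := exists_normal_even_not_commutator_le S₁ (by omega) e₁
    apply hM
    obtain ⟨m, hm⟩ := exists_prime_orderOf_dvd_card' (G := M) 2 hMe.two_dvd
    rw [← Subgroup.orderOf_coe] at hm
    have hΩM : Ω ≤ M.map G₁.subtype := by
      rw [hΩ, Subgroup.closure_le]
      intro x hx
      have hxG : x ∈ G₁ := Subgroup.mem_sup_left (by rw [hΩ]; exact Subgroup.subset_closure hx)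
      refine ⟨⟨x, hxG⟩, ?_, rfl⟩
      obtain ⟨g, hg⟩ := isConj_iff.1 (isConj_of_orderOf_two S₁ (by omega) e₁ hm
        (show orderOf (⟨x, hxG⟩ : G₁) = 2 by rw [Subgroup.orderOf_mk]; exact hx))
      rw [SetLike.mem_coe, ← hg]
      exact hMn.conj_mem _ m.2 g
    have hcomm : ⁅G₁, G₁⁆ ≤ Ω := by
      have hbot : ⁅G₁, G₁⁆.map (QuotientGroup.mk' Ω) = ⊥ := by
        rw [Subgroup.map_commutator, hG₁, Subgroup.map_sup, QuotientGroup.map_mk'_self, bot_sup_eq,
          ← Subgroup.map_commutator, hD, MonoidHom.map_zpowers, Subgroup.zpowers_eq_bot,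
          QuotientGroup.mk'_apply, QuotientGroup.eq_one_iff]
        exact hd.2
      rw [Subgroup.map_eq_bot_iff, QuotientGroup.ker_mk'] at hbot
      exact hbot
    rw [← Subgroup.map_le_map_iff_of_injective G₁.subtype_injective, Subgroup.map_subtype_commutator]
    exact hcomm.trans hΩM

theorem isCyclic_sylow_closure_involutions (S : Sylow 2 G) (n : ℕ)
    (e : (S : Subgroup G) ≃* QuaternionGroup (2 ^ (n + 2)))
    (Q : Sylow 2 ↥(Subgroup.closure {g : G | orderOf g = 2})) : IsCyclic Q :=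
  isCyclic_sylow_of_eq_closure_involutions S n e _ rfl Q

theorem transferKernel_of_isCyclic (heven : 2 ∣ Nat.card G) (Q : Sylow 2 G) (hQ : IsCyclic Q) :
    ∃ K : Subgroup G, K.Normal ∧ Odd (Nat.card K) ∧ K.IsComplement' Q ∧
      ∀ x, x ∈ K ↔ Odd (orderOf x) := by
  haveI : Fact (Nat.Prime 2) := ⟨Nat.prime_two⟩
  have hmin : (Nat.card G).minFac = 2 := (Nat.minFac_eq_two_iff _).2 heven
  have hc := hQ.isComplement' hmin
  set K := (MonoidHom.transferSylow Q (hQ.normalizer_le_centralizer hmin)).ker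
  have hodd : Odd (Nat.card K) := by
    rw [Nat.odd_iff, ← Nat.two_dvd_ne_zero, ← hc.index_eq_card]
    exact Q.not_dvd_index
  obtain ⟨k, hk⟩ := Q.isPGroup'.exists_card_eq
  exact ⟨K, inferInstance, hodd, hc, mem_iff_odd_orderOf K hodd (k := k)
    (hc.symm.index_eq_card.trans hk)⟩

/-- The Brauer–Suzuki theorem for order at least 16. -/
theorem card_center_eq_two (S : Sylow 2 G) (n : ℕ)
    (e : (S : Subgroup G) ≃* QuaternionGroup (2 ^ (n + 2)))
    (hO : ∀ N : Subgroup G, N.Normal → Odd (Nat.card N) → N = ⊥) :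
    Nat.card (Subgroup.center G) = 2 := by
  haveI : Fact (Nat.Prime 2) := ⟨Nat.prime_two⟩
  obtain ⟨q, hqS, hq, huniq, -⟩ := QuaternionFactor.quat_facts (n := n + 2) (by omega) e
  obtain ⟨c, d, hcS, hdc, hc, hd, -, hD, hcase, ⟨t, htS, htc, hti⟩, -⟩ := quat16_facts e
  set Ω := Subgroup.closure {g : G | orderOf g = 2} with hΩ
  haveI hΩn : Ω.Normal := normal_closure_involutions
  obtain ⟨Q⟩ : Nonempty (Sylow 2 Ω) := inferInstance
  have hQ := isCyclic_sylow_closure_involutions S n e Q
  have hqΩ : q ∈ Ω := Subgroup.subset_closure hq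
  obtain ⟨K, hKn, hKodd, hKc, hKmem⟩ := transferKernel_of_isCyclic
    (by rw [← hq, ← Subgroup.orderOf_mk q hqΩ]; exact orderOf_dvd_natCard _) Q hQ
  have hKG : (K.map Ω.subtype).Normal := by
    refine ⟨fun x hx g => ?_⟩
    obtain ⟨y, hy, rfl⟩ := hx
    refine ⟨⟨_, hΩn.conj_mem _ y.2 g⟩, (hKmem _).2 ?_, rfl⟩
    rw [Subgroup.orderOf_mk, orderOf_conj', Subgroup.orderOf_coe]
    exact (hKmem y).1 hy
  have hK : K = ⊥ := (Subgroup.map_eq_bot_iff_of_injective _ Ω.subtype_injective).1
    (hO _ hKG (by rw [Subgroup.card_map_of_injective Ω.subtype_injective]; exact hKodd))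
  have hQtop : (Q : Subgroup Ω) = ⊤ := by
    have := hKc.sup_eq_top
    rwa [hK, bot_sup_eq] at this
  haveI := hQ
  haveI : IsCyclic Ω :=
    isCyclic_of_surjective (Q : Subgroup Ω).subtype fun x => ⟨⟨x, hQtop ▸ Subgroup.mem_top x⟩, rfl⟩
  have hqc : q ∈ Subgroup.center G := by
    rw [Subgroup.mem_center_iff]
    intro g
    have hg : orderOf (g * q * g⁻¹) = 2 := by rw [orderOf_conj', hq]
    have hcom : Commute (g * q * g⁻¹) q := by
      have := mul_comm' (⟨_, hΩn.conj_mem _ hqΩ g⟩ : Ω) ⟨q, hqΩ⟩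
      exact congrArg Subtype.val this
    exact mul_inv_eq_iff_eq_mul.1 (eq_of_commute_involutions S (by omega) e hg hq hcom)
  have h2 : IsPGroup 2 (Subgroup.center G) := by
    refine IsPGroup.iff_orderOf.2 fun z => ?_
    obtain ⟨a, m, hm, hzo⟩ := Nat.exists_eq_pow_mul_and_not_dvd (orderOf_pos z).ne' 2 (by norm_num)
    refine ⟨a, ?_⟩
    have ho : orderOf (z ^ 2 ^ a) = m := by
      rw [orderOf_pow, hzo, Nat.gcd_mul_right_left, Nat.mul_div_cancel_left _ (by positivity)]
    have hN : (Subgroup.zpowers ((z ^ 2 ^ a : Subgroup.center G) : G)).Normal :=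
      ⟨fun x hx h => by
        have hx' := Subgroup.zpowers_le.2 (z ^ 2 ^ a).2 hx
        rw [Subgroup.mem_center_iff.1 hx' h, mul_inv_cancel_right]; exact hx⟩
    have h := hO _ hN (by
      rw [Nat.card_zpowers, Subgroup.orderOf_coe, ho, Nat.odd_iff, ← Nat.two_dvd_ne_zero]
      exact hm)
    rw [Subgroup.zpowers_eq_bot, OneMemClass.coe_eq_one] at h
    rw [h, orderOf_one] at ho
    rw [hzo, ← ho, mul_one]
  obtain ⟨g, hg⟩ := exists_conj_mem_sylow S h2
  have hZS : ∀ z ∈ Subgroup.center G, z ∈ (S : Subgroup G) := fun z hz => by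
    have := hg z hz
    rwa [Subgroup.mem_center_iff.1 hz g, mul_inv_cancel_right] at this
  have hZ : Subgroup.center G = Subgroup.zpowers q := by
    refine le_antisymm (fun z hz => ?_) (Subgroup.zpowers_le.2 hqc)
    have hz1 : z ∈ Subgroup.zpowers c := by
      refine (hcase z (hZS z hz)).resolve_right fun h => ?_
      have h1 := h c (Subgroup.mem_zpowers c)
      rw [← Subgroup.mem_center_iff.1 hz c, mul_inv_cancel_right] at h1
      have hdvd : orderOf c ∣ 2 := orderOf_dvd_of_pow_eq_one (by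
        rw [sq]; nth_rw 2 [h1]; exact mul_inv_cancel _)
      rw [hc] at hdvd
      have := Nat.le_of_dvd two_pos hdvd
      have : 2 ^ (n + 3) ≥ 2 ^ 3 := Nat.pow_le_pow_right two_pos (by omega)
      omega
    have h3 := hti z hz1
    rw [Subgroup.mem_center_iff.1 hz t, mul_inv_cancel_right] at h3
    rcases huniq z (hZS z hz) (by rw [sq]; nth_rw 2 [h3]; exact mul_inv_cancel _) with h | h
    · rw [h]; exact one_mem _
    · rw [h]; exact Subgroup.mem_zpowers q
  rw [hZ, Nat.card_zpowers, hq]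

/-- The centralizer and normalizer of the commutator subgroup of the quaternion Sylow
2-subgroup. -/
theorem exists_complement_centralizer_commutator (S : Sylow 2 G) (n : ℕ)
    (e : (S : Subgroup G) ≃* QuaternionGroup (2 ^ (n + 2))) (D : Subgroup G)
    (hD : D = ⁅(S : Subgroup G), (S : Subgroup G)⁆) :
    ∃ K : Subgroup G, Odd (Nat.card K) ∧ K ≤ Subgroup.centralizer (D : Set G) ∧
      Subgroup.normalizer (D : Set G) ≤ Subgroup.normalizer (K : Set G) ∧
      K ⊔ (S : Subgroup G) = Subgroup.normalizer (D : Set G) ∧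
      K ⊔ ((S : Subgroup G) ⊓ Subgroup.centralizer (D : Set G)) =
        Subgroup.centralizer (D : Set G) ∧
      ((Subgroup.centralizer (D : Set G)).subgroupOf
        (Subgroup.normalizer (D : Set G))).index = 2 ∧
      ∀ R : Subgroup G, R ≤ Subgroup.centralizer (D : Set G) → IsPGroup 2 R → IsCyclic R := by
  haveI : Fact (Nat.Prime 2) := ⟨Nat.prime_two⟩
  obtain ⟨c, d, hcS, hdc, hc, hd, hScard, hS', hcase, ⟨t, htS, htc, hti⟩, -⟩ := quat16_facts e
  rw [hS'] at hD
  subst hD
  set C := Subgroup.centralizer ((Subgroup.zpowers d : Subgroup G) : Set G) with hC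
  set N := Subgroup.normalizer ((Subgroup.zpowers d : Subgroup G) : Set G) with hN
  have hCmem : ∀ x, x ∈ C ↔ x * d = d * x := fun x => by
    rw [hC, Subgroup.zpowers_eq_closure, Subgroup.centralizer_closure]
    simp [Subgroup.mem_centralizer_iff, eq_comm]
  have hcC : Subgroup.zpowers c ≤ C := by
    rw [Subgroup.zpowers_le, hCmem, hdc]
    exact (Commute.self_pow c 2).eq
  have hinf : (S : Subgroup G) ⊓ C = Subgroup.zpowers c := by
    refine le_antisymm (fun x hx => ?_) (le_inf (Subgroup.zpowers_le.2 hcS) hcC)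
    refine (hcase x hx.1).resolve_right fun h => ?_
    have h1 := h d (hdc ▸ pow_mem (Subgroup.mem_zpowers c) 2)
    rw [(hCmem x).1 hx.2, mul_inv_cancel_right] at h1
    have hdvd : orderOf d ∣ 2 := orderOf_dvd_of_pow_eq_one (by
      rw [sq]; nth_rw 2 [h1]; exact mul_inv_cancel _)
    rw [hd] at hdvd
    have := Nat.le_of_dvd two_pos hdvd
    have : 2 ^ (n + 2) ≥ 2 ^ 2 := Nat.pow_le_pow_right two_pos (by omega)
    omega
  have hSN : (S : Subgroup G) ≤ N := by
    have h : ∀ s ∈ (S : Subgroup G), ∀ y ∈ Subgroup.zpowers d,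
        s * y * s⁻¹ ∈ Subgroup.zpowers d := by
      intro s hs y hy
      rcases hcase s hs with h | h
      · have hm : s * y = y * s :=
          ((Subgroup.mem_centralizer_iff.1 (hcC h)) y hy).symm
        rw [hm, mul_inv_cancel_right]; exact hy
      · rw [h y (Subgroup.zpowers_le.2 (hdc ▸ pow_mem (Subgroup.mem_zpowers c) 2) hy)]
        exact inv_mem hy
    intro s hs
    refine Subgroup.mem_normalizer_iff.2 fun y => ⟨h s hs y, fun hy => ?_⟩
    have := h s⁻¹ (inv_mem hs) _ hy
    simpa [mul_assoc] using this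
  have hCN : C ≤ N := Subgroup.centralizer_le_normalizer _
  haveI hCn : (C.subgroupOf N).Normal := by
    rw [hC, hN, ← Subgroup.normalizerMonoidHom_ker]; infer_instance
  obtain ⟨k, hk⟩ : ∃ k, (C.subgroupOf N).index = 2 ^ k := by
    have h1 : (C.subgroupOf N).index ∣ 2 ^ (n + 1) := by
      have key := Subgroup.card_dvd_of_injective _
        (QuotientGroup.kerLift_injective (Subgroup.zpowers d).normalizerMonoidHom)
      rw [IsCyclic.card_mulAut, Nat.card_zpowers, hd, Nat.totient_prime_pow Nat.prime_two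
        (by omega), show (2 : ℕ) - 1 = 1 from rfl, mul_one] at key
      rw [Subgroup.normalizerMonoidHom_ker] at key
      simpa [Subgroup.index] using key
    obtain ⟨k, -, hk⟩ := (Nat.dvd_prime_pow Nat.prime_two).1 h1
    exact ⟨k, hk⟩
  have hsup : C.subgroupOf N ⊔ (S : Subgroup G).subgroupOf N = ⊤ := by
    rw [← Subgroup.index_eq_one]
    refine Nat.eq_one_of_dvd_coprimes ?_ (Subgroup.index_dvd_of_le le_sup_left)
      (Subgroup.index_dvd_of_le le_sup_right)
    rw [hk]
    exact Nat.Coprime.pow_left k ((Nat.Prime.coprime_iff_not_dvd Nat.prime_two).2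
      (S.subtype hSN).not_dvd_index)
  have hidx : (C.subgroupOf N).index = 2 := by
    rw [← Subgroup.relIndex_top_right, ← hsup, sup_comm, Subgroup.relIndex_sup_right,
      Subgroup.relIndex_subgroupOf hSN, ← Subgroup.inf_relIndex_right, inf_comm, hinf]
    have h := Subgroup.relIndex_mul_relIndex ⊥ (Subgroup.zpowers c) (S : Subgroup G) bot_le
      (Subgroup.zpowers_le.2 hcS)
    rw [Subgroup.relIndex_bot_left, Subgroup.relIndex_bot_left, Nat.card_zpowers, hc, hScard,
      pow_succ 2 (n + 3)] at h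
    exact Nat.eq_of_mul_eq_mul_left (by positivity) h
  -- the cyclic Sylow 2-subgroup of `C`
  have hcardC : Nat.card C * 2 = Nat.card N := by
    rw [← hidx, Nat.card_congr (Subgroup.subgroupOfEquivOfLe hCN).symm.toEquiv,
      Subgroup.card_mul_index]
  have hfac : (Nat.card C).factorization 2 = n + 3 := by
    have h1 := (S.subtype hSN).card_eq_multiplicity
    rw [Sylow.coe_subtype, Nat.card_congr (Subgroup.subgroupOfEquivOfLe hSN).toEquiv, hScard] at h1
    have h2 := Nat.pow_right_injective (le_refl 2) h1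
    rw [← hcardC, Nat.factorization_mul Nat.card_pos.ne' two_ne_zero] at h2
    simp [Nat.prime_two.factorization_self] at h2
    omega
  let P : Sylow 2 C := Sylow.ofCard ((Subgroup.zpowers c).subgroupOf C) (by
    rw [Nat.card_congr (Subgroup.subgroupOfEquivOfLe hcC).toEquiv, Nat.card_zpowers, hc, hfac])
  have hP : IsCyclic P :=
    isCyclic_of_surjective (Subgroup.subgroupOfEquivOfLe hcC).symm
      (Subgroup.subgroupOfEquivOfLe hcC).symm.surjective
  obtain ⟨K, hKn, hKodd, hKc, hKmem⟩ := transferKernel_of_isCyclic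
    ((dvd_pow_self 2 (by omega : n + 3 ≠ 0)).trans (hfac ▸ Nat.ordProj_dvd (Nat.card C) 2)) P hP
  have hKsup : K.map C.subtype ⊔ Subgroup.zpowers c = C := by
    have := congrArg (Subgroup.map C.subtype) hKc.sup_eq_top
    rw [Subgroup.map_sup, ← MonoidHom.range_eq_map, Subgroup.range_subtype] at this
    rwa [show (P : Subgroup C) = (Subgroup.zpowers c).subgroupOf C from rfl,
      Subgroup.map_subgroupOf_eq_of_le hcC] at this
  have hCSN : C ⊔ (S : Subgroup G) = N := by
    have := congrArg (Subgroup.map N.subtype) hsup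
    rwa [Subgroup.map_sup, ← MonoidHom.range_eq_map, Subgroup.range_subtype,
      Subgroup.map_subgroupOf_eq_of_le hCN, Subgroup.map_subgroupOf_eq_of_le hSN] at this
  refine ⟨K.map C.subtype, ?_, Subgroup.map_subtype_le K, ?_, ?_, ?_, hidx, ?_⟩
  · rw [Subgroup.card_map_of_injective C.subtype_injective]; exact hKodd
  · have h : ∀ g ∈ N, ∀ x ∈ K.map C.subtype, g * x * g⁻¹ ∈ K.map C.subtype := by
      rintro g hg _ ⟨y, hy, rfl⟩
      have hm : g * (y : G) * g⁻¹ ∈ C := by
        simpa [Subgroup.mem_subgroupOf] using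
          hCn.conj_mem ⟨(y : G), hCN y.2⟩ y.2 ⟨g, hg⟩
      refine ⟨⟨_, hm⟩, (hKmem _).2 ?_, rfl⟩
      rw [Subgroup.orderOf_mk, orderOf_conj', Subgroup.orderOf_coe]
      exact (hKmem y).1 hy
    intro g hg
    refine Subgroup.mem_normalizer_iff.2 fun x => ⟨h g hg x, fun hx => ?_⟩
    have := h g⁻¹ (inv_mem hg) _ hx
    simpa [mul_assoc] using this
  · refine le_antisymm (sup_le ((Subgroup.map_subtype_le K).trans hCN) hSN) ?_
    calc N = C ⊔ (S : Subgroup G) := hCSN.symm
      _ = (K.map C.subtype ⊔ Subgroup.zpowers c) ⊔ (S : Subgroup G) := by rw [hKsup]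
      _ ≤ _ := sup_le (sup_le le_sup_left ((Subgroup.zpowers_le.2 hcS).trans le_sup_right)) le_sup_right
  · rw [hinf]; exact hKsup
  · intro R hR hR2
    obtain ⟨P', hP'⟩ := (hR2.comap_of_injective C.subtype C.subtype_injective :
      IsPGroup 2 (R.comap C.subtype)).exists_le_sylow
    haveI : IsCyclic P' :=
      isCyclic_of_surjective (Sylow.equiv P P') (Sylow.equiv P P').surjective
    haveI : IsCyclic ↥(R.subgroupOf C) :=
      isCyclic_of_injective (Subgroup.inclusion hP') (Subgroup.inclusion_injective hP')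
    exact isCyclic_of_surjective (Subgroup.subgroupOfEquivOfLe hR)
      (Subgroup.subgroupOfEquivOfLe hR).surjective

/-- Elements of the centralizer of `D` of order divisible by `|D|`. -/
theorem exceptional_set_facts (S : Sylow 2 G) (n : ℕ)
    (e : (S : Subgroup G) ≃* QuaternionGroup (2 ^ (n + 2))) (D : Subgroup G)
    (hD : D = ⁅(S : Subgroup G), (S : Subgroup G)⁆) :
    (∀ y : G, y ∈ Subgroup.centralizer (D : Set G) → Nat.card D ∣ orderOf y →
        D ≤ Subgroup.zpowers y) ∧
      (∀ g y : G, y ∈ Subgroup.centralizer (D : Set G) → Nat.card D ∣ orderOf y →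
        g * y * g⁻¹ ∈ Subgroup.centralizer (D : Set G) →
        g ∈ Subgroup.normalizer (D : Set G)) ∧
      ∀ g y : G, g ∈ Subgroup.normalizer (D : Set G) → y ∈ Subgroup.centralizer (D : Set G) →
        Nat.card D ∣ orderOf y → g * y * g⁻¹ ∈ Subgroup.centralizer (D : Set G) ∧
          Nat.card D ∣ orderOf (g * y * g⁻¹) := by
  haveI : Fact (Nat.Prime 2) := ⟨Nat.prime_two⟩
  obtain ⟨K, -, -, -, -, -, -, hcyc⟩ := exists_complement_centralizer_commutator S n e D hD
  obtain ⟨c, d, -, -, -, hd, -, hS', -, -, -⟩ := quat16_facts e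
  rw [hS'] at hD
  subst hD
  set C := Subgroup.centralizer ((Subgroup.zpowers d : Subgroup G) : Set G) with hC
  have horder : ∀ g y : G, orderOf (g * y * g⁻¹) = orderOf y := orderOf_conj'
  rw [Nat.card_zpowers, hd]
  have h1 : ∀ y : G, y ∈ C → 2 ^ (n + 2) ∣ orderOf y →
      Subgroup.zpowers (y ^ (orderOf y / 2 ^ (n + 2))) = Subgroup.zpowers d := by
    intro y hy hdvd
    set w := y ^ (orderOf y / 2 ^ (n + 2)) with hw
    have hwo : orderOf w = 2 ^ (n + 2) :=
      orderOf_pow_orderOf_div (orderOf_pos y).ne' hdvd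
    have hdC : Subgroup.zpowers d ≤ C := by
      refine Subgroup.le_centralizer_iff_isMulCommutative.2 ?_
      infer_instance
    have h2 : ∀ {x : G}, orderOf x = 2 ^ (n + 2) → IsPGroup 2 (Subgroup.zpowers x) :=
      fun {x} hx => IsPGroup.of_card (n := n + 2) (by rw [Nat.card_zpowers, hx])
    have hwC : Subgroup.zpowers w ≤ C := Subgroup.zpowers_le.2 (pow_mem hy _)
    have hR := hcyc (Subgroup.zpowers w ⊔ Subgroup.zpowers d) (sup_le hwC hdC)
      (IsPGroup.to_sup_of_normal_right' (h2 hwo) (h2 hd)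
        (hwC.trans (Subgroup.centralizer_le_normalizer _)))
    haveI := hR
    have hequal : Nat.card (Subgroup.zpowers w) = Nat.card (Subgroup.zpowers d) := by
      rw [Nat.card_zpowers, Nat.card_zpowers, hwo, hd]
    have := eq_of_card_eq_of_isCyclic
      (H := (Subgroup.zpowers w).subgroupOf (Subgroup.zpowers w ⊔ Subgroup.zpowers d))
      (K := (Subgroup.zpowers d).subgroupOf (Subgroup.zpowers w ⊔ Subgroup.zpowers d))
      (by rw [Nat.card_congr (Subgroup.subgroupOfEquivOfLe le_sup_left).toEquiv,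
        Nat.card_congr (Subgroup.subgroupOfEquivOfLe le_sup_right).toEquiv, hequal])
    have := congrArg (Subgroup.map (Subgroup.zpowers w ⊔ Subgroup.zpowers d).subtype) this
    rwa [Subgroup.map_subgroupOf_eq_of_le le_sup_left,
      Subgroup.map_subgroupOf_eq_of_le le_sup_right] at this
  refine ⟨fun y hy hdvd => ?_, fun g y hy hdvd hgy => ?_, fun g y hg hy hdvd => ?_⟩
  · rw [← h1 y hy hdvd]
    exact Subgroup.zpowers_le.2 (Subgroup.npow_mem_zpowers y _)
  · have ha := h1 y hy hdvd
    have hb := h1 _ hgy (by rw [horder]; exact hdvd)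
    rw [horder, conj_pow] at hb
    have hmap : (Subgroup.zpowers d).map (MulAut.conj g).toMonoidHom = Subgroup.zpowers d := by
      conv_lhs => rw [← ha, MonoidHom.map_zpowers]
      exact hb
    refine Subgroup.mem_normalizer_iff.2 fun x => ?_
    conv_rhs => rw [← hmap]
    exact (Subgroup.mem_map_iff_mem (MulAut.conj g).injective).symm
  · refine ⟨?_, by rw [horder]; exact hdvd⟩
    rw [hC, Subgroup.mem_centralizer_iff]
    intro x hx
    have hx' := (Subgroup.mem_normalizer_iff''.1 hg x).1 hx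
    have h := Subgroup.mem_centralizer_iff.1 hy _ hx'
    calc x * (g * y * g⁻¹) = g * ((g⁻¹ * x * g) * y) * g⁻¹ := by group
      _ = g * (y * (g⁻¹ * x * g)) * g⁻¹ := by rw [h]
      _ = g * y * g⁻¹ * x := by group

end Cfsg.Agent.CharInt
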