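import Cfsg.Agent.Lib.Blocks.Core
import Cfsg.Agent.Lib.CharInt.Burnside
import Cfsg.Agent.Lib.Char.Linear
import Cfsg.Agent.Lib.Char.Monomial
import Cfsg.Agent.Lib.Components.Fitting
import Cfsg.Agent.Lib.SylowCount.Basic
import Cfsg.Agent.Lib.Coprime.Basic

/-!
# Kazarin's theorem on classes of prime power size

For a prime `q` not dividing `|K|`, `K` the class of `x`, no character of the principal `q`-block
vanishes at `x`; weak block orthogonality then contradicts Burnside's vanishing lemma.

* `commute_of_fitting_eq_bot`: a primary element `z` with prime power index centralises every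
  normal subgroup with trivial Fitting subgroup.
* `isSolvable_normalClosure_of_class_prime_pow`: Kazarin's theorem.
-/

set_option linter.style.haveILetI false

namespace Cfsg.Agent.CharInt

open Cfsg
open scoped ComplexConjugate

universe u

/-- Every prime lies below a maximal ideal of the algebraic integers. -/
theorem exists_isPModular_of_prime {q : ℕ} (hq : q.Prime) : ∃ M : Ideal AlgInt, IsPModular q M := by
  obtain ⟨M, hM, hle⟩ := Ideal.exists_le_maximal (Ideal.span {((q : ℕ) : AlgInt)}) (fun h => by
    rw [Ideal.span_singleton_eq_top] at h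
    obtain ⟨c, hc⟩ := h.exists_left_inv
    have hc' : (c : ℂ) * (q : ℂ) = 1 := by
      have h2 : (((q : ℕ) : AlgInt) : ℂ) = (q : ℂ) := map_natCast (algebraMap AlgInt ℂ) q
      rw [← h2]
      exact congrArg (fun t : AlgInt => (t : ℂ)) hc
    have hq0 : (q : ℂ) ≠ 0 := Nat.cast_ne_zero.2 hq.ne_zero
    have hi : IsIntegral ℤ ((1 / q : ℚ) : ℂ) := by
      have : ((1 / q : ℚ) : ℂ) = (c : ℂ) := by
        push_cast
        field_simp
        linear_combination -hc'
      rw [this]
      exact c.2
    obtain ⟨n, hn⟩ := IsIntegrallyClosed.isIntegral_iff.mp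
      ((isIntegral_algebraMap_iff (A := ℚ) (B := ℂ) (algebraMap ℚ ℂ).injective).mp hi)
    have hn' : (n : ℚ) * q = 1 := by
      rw [show (n : ℚ) = 1 / q from hn]
      exact one_div_mul_cancel (Nat.cast_ne_zero.2 hq.ne_zero)
    have hn2 : n * (q : ℤ) = 1 := by exact_mod_cast hn'
    have : (q : ℤ) ∣ 1 := ⟨n, by linarith [hn2]⟩
    exact hq.not_dvd_one (by exact_mod_cast this))
  exact ⟨M, hq, hM, hle (Ideal.mem_span_singleton_self _)⟩

/-- An `r`-power root of unity congruent to `1` at a prime `q ≠ r` is `1`. -/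
theorem eq_one_of_rootsOfUnity_congr {q r f : ℕ} [Fact q.Prime] (hr : r.Prime) (hqr : q ≠ r)
    {M : Ideal AlgInt} [M.IsMaximal] (hqM : (q : AlgInt) ∈ M) {ζ : ℂ} (hζ : ζ ^ r ^ f = 1)
    (hint : IsIntegral ℤ ζ) (h : MemLocalIdeal M (ζ - 1)) : ζ = 1 := by
  induction f generalizing ζ with
  | zero => simpa using hζ
  | succ f ih =>
    have hr1 : ζ ^ r = 1 := by
      refine ih (ζ := ζ ^ r) (by rw [← pow_mul, ← pow_succ']; exact hζ) (hint.pow r) ?_
      rw [← geom_sum_mul ζ r]
      exact Blocks.MemLocalIdeal.mul_left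
        (Blocks.memLocalRing_of_isIntegral (IsIntegral.sum _ fun i _ => hint.pow i)) h
    by_contra hne
    have h0 : (∑ i ∈ Finset.range r, ζ ^ i) = 0 := by
      have := geom_sum_mul ζ r
      rw [hr1, sub_self, mul_eq_zero] at this
      exact this.resolve_right (sub_ne_zero.2 hne)
    have h1 : MemLocalIdeal M ((r : ℂ)) := by
      have hsum : (r : ℂ) = -∑ i ∈ Finset.range r, (ζ ^ i - 1) := by
        rw [Finset.sum_sub_distrib, h0]; simp
      rw [hsum]
      refine Blocks.MemLocalIdeal.neg (Blocks.MemLocalIdeal.sum _ fun i _ => ?_)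
      rw [← geom_sum_mul ζ i]
      exact Blocks.MemLocalIdeal.mul_left
        (Blocks.memLocalRing_of_isIntegral (IsIntegral.sum _ fun i _ => hint.pow i)) h
    exact hqr ((Nat.prime_dvd_prime_iff_eq Fact.out hr).1
      ((Blocks.memLocalIdeal_natCast_iff hqM r).1 h1))

/-- The main step: `H = M⟨z⟩` with `M` minimal normal and non-solvable. -/
theorem commute_of_minimal {H : Type u} [Group H] [Finite H] (M : Subgroup H) [hMn : M.Normal]
    (hnsol : ¬ Group.IsSolvable M)
    (hmin : ∀ N : Subgroup H, N.Normal → N ≤ M → N = ⊥ ∨ N = M)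
    (z : H) {r f : ℕ} (hr : r.Prime) (hz : orderOf z = r ^ f)
    (hgen : M ⊔ Subgroup.zpowers z = ⊤) {p a : ℕ} (hp : p.Prime)
    (hidx : (Subgroup.centralizer ({z} : Set H)).index = p ^ a) :
    ∀ m ∈ M, z * m = m * z := by
  classical
  by_contra hcon
  -- a third prime
  obtain ⟨q, hq, hqM, hqp, hqr⟩ : ∃ q : ℕ, q.Prime ∧ q ∣ Nat.card M ∧ q ≠ p ∧ q ≠ r := by
    by_contra hh
    push Not at hh
    apply hnsol
    have hn0 : Nat.card M ≠ 0 := Nat.card_pos.ne'
    have hsub : (Nat.card M).primeFactors ⊆ {p, r} := fun q hq => by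
      have h1 := Nat.prime_of_mem_primeFactors hq
      have h2 := Nat.dvd_of_mem_primeFactors hq
      rw [Finset.mem_insert, Finset.mem_singleton]
      by_cases hqp : q = p
      · exact Or.inl hqp
      · exact Or.inr (hh q h1 h2 hqp)
    by_cases hpr : p = r
    · subst hpr
      obtain ⟨e, he⟩ : ∃ e, Nat.card M = p ^ e := ⟨_, Nat.eq_prime_pow_of_unique_prime_dvd hn0
        fun {d} hd hdvd => by simpa using hsub (Nat.mem_primeFactors.2 ⟨hd, hdvd, hn0⟩)⟩
      refine isSolvable_of_card_eq (a := e) (b := 0) hp hp ?_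
      rw [pow_zero, mul_one, he]
    · refine isSolvable_of_card_eq (a := (Nat.card M).factorization p)
        (b := (Nat.card M).factorization r) hp hr ?_
      conv_lhs => rw [← Nat.prod_factorization_pow_eq_self hn0]
      rw [Nat.prod_factorization_eq_prod_primeFactors,
        Finset.prod_subset hsub (fun x _ hx => ?_), Finset.prod_pair hpr]
      rw [← Nat.support_factorization, Finsupp.notMem_support_iff] at hx
      rw [hx, pow_zero]
  haveI : Fact q.Prime := ⟨hq⟩
  obtain ⟨I, -, hI, hqI⟩ := exists_isPModular_of_prime hq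
  haveI := hI
  obtain ⟨y, hy⟩ := exists_prime_orderOf_dvd_card' (G := M) q hqM
  haveI : Fintype H := Fintype.ofFinite H
  set B := principalBlock I H with hB
  have hBblock : IsPBlock I B := Blocks.isPBlock_principalBlock hqI
  have horth := Blocks.weak_orthogonality (p := q) hqI hBblock (x := 1) (y := (y : H))
    (by simp [IsPRegular, hq.ne_one]) (by
      intro h
      exact h (by rw [Subgroup.orderOf_coe, hy]))
  -- no character of the principal block vanishes at `z`
  have hnz : ∀ χ : IrrCharacter H, χ ∈ B → χ.1 z ≠ 0 := by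
    intro χ hχ h0
    have h1 : MemLocalIdeal I (centralChar (fun _ : H => (1 : ℂ)) z - centralChar χ.1 z) := hχ z
    have h2 : centralChar (fun _ : H => (1 : ℂ)) z - centralChar χ.1 z = ((p ^ a : ℕ) : ℂ) := by
      simp [centralChar, h0, hidx]
    rw [h2, Blocks.memLocalIdeal_natCast_iff hqI] at h1
    exact hqp ((Nat.prime_dvd_prime_iff_eq hq hp).1 (hq.dvd_of_dvd_pow h1))
  -- non-linear members have degree divisible by `p`
  have hdiv : ∀ χ : IrrCharacter H, χ ∈ B → χ ≠ Char.trivialChar H → p ∣ Char.degree χ := by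
    intro χ hχ hne
    obtain ⟨n, ρ, hρ, hρχ⟩ := χ.2
    have hn : Char.degree χ = n := by
      have := Char.apply_one_eq_degree χ
      rw [← hρχ, ρ.char_one, Module.finrank_fin_fun] at this
      exact_mod_cast this.symm
    haveI := hρ
    by_contra hpd
    rcases character_eq_zero_or_norm_eq ρ z (by
      rw [natCard_isConj, hidx, Module.finrank_fin_fun, ← hn]
      exact Nat.Coprime.pow_right a ((hp.coprime_iff_not_dvd.2 hpd).symm)) with h | h
    · exact hnz χ hχ (hρχ ▸ h)
    · obtain ⟨c, hc⟩ := (norm_eq_iff_scalar ρ z).1 (by rw [h, ρ.char_one, Complex.norm_natCast])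
      rcases hmin (ρ.ker ⊓ M) inferInstance inf_le_right with hK | hK
      · apply hcon
        intro m hm
        have hw : z * m * z⁻¹ * m⁻¹ ∈ ρ.ker ⊓ M := by
          refine ⟨?_, ?_⟩
          · show ρ (z * m * z⁻¹ * m⁻¹) = 1
            have h1 : ρ (z * m) = ρ (m * z) := by
              rw [map_mul, map_mul, hc, smul_mul_assoc, one_mul, mul_smul_comm, mul_one]
            rw [mul_assoc (z * m) z⁻¹ m⁻¹, ← mul_inv_rev, map_mul, h1, ← map_mul, mul_inv_cancel,
              map_one]
          · show z * m * z⁻¹ * m⁻¹ ∈ M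
            exact mul_mem (hMn.conj_mem m hm z) (inv_mem hm)
        rw [hK, Subgroup.mem_bot, mul_inv_eq_one, mul_inv_eq_iff_eq_mul] at hw
        exact hw
      · -- a linear character
        have hker : ∀ m ∈ M, ρ m = 1 := fun m hm => (hK.ge hm).1
        have hscal : ∀ g : H, ∃ d : ℂ, ρ g = d • (1 : Module.End ℂ (Fin n → ℂ)) := by
          intro g
          have : g ∈ (M ⊔ Subgroup.zpowers z : Subgroup H) := hgen ▸ Subgroup.mem_top g
          rw [Subgroup.sup_eq_closure] at this
          induction this using Subgroup.closure_induction with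
          | mem g hg =>
            rcases hg with hg | hg
            · exact ⟨1, by rw [hker g hg, one_smul]⟩
            · obtain ⟨i, rfl⟩ := (Submonoid.mem_powers_iff _ _).1
                ((isOfFinOrder_of_finite z).mem_powers_iff_mem_zpowers.2 hg)
              exact ⟨c ^ i, by rw [map_pow, hc, smul_pow, one_pow]⟩
          | one => exact ⟨1, by rw [map_one, one_smul]⟩
          | mul x y _ _ hx hy =>
            obtain ⟨d1, h1⟩ := hx
            obtain ⟨d2, h2⟩ := hy
            exact ⟨d1 * d2, by rw [map_mul, h1, h2, smul_mul_smul_comm, one_mul]⟩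
          | inv x _ hx =>
            obtain ⟨d, hd⟩ := hx
            refine ⟨d⁻¹, ?_⟩
            have h1 : ρ x⁻¹ * ρ x = 1 := by rw [← map_mul, inv_mul_cancel, map_one]
            rw [hd, mul_smul_comm, mul_one] at h1
            have hd0 : d ≠ 0 := by
              rintro rfl
              rw [zero_smul] at h1
              haveI := nontrivial_of_irreducible ρ
              exact zero_ne_one h1
            rw [← h1, smul_smul, inv_mul_cancel₀ hd0, one_smul]
        have hn1 : n = 1 := by
          have := Char.finrank_eq_one_of_commute ρ (fun x y => by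
            obtain ⟨d1, h1⟩ := hscal x
            obtain ⟨d2, h2⟩ := hscal y
            rw [h1, h2, smul_mul_smul_comm, smul_mul_smul_comm, mul_comm d1 d2])
          rwa [Module.finrank_fin_fun] at this
        subst hn1
        apply hne
        -- `χ z = 1`, so `χ` is trivial
        have hχc : χ.1 z = c := by
          rw [← hρχ, Representation.character, hc, map_smul, LinearMap.trace_one,
            Module.finrank_fin_fun, Nat.cast_one, smul_eq_mul, mul_one]
        have hone : (1 : Module.End ℂ (Fin 1 → ℂ)) ≠ 0 := one_ne_zero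
        have hcpow : c ^ r ^ f = 1 := by
          have h1 : (c • (1 : Module.End ℂ (Fin 1 → ℂ))) ^ r ^ f = 1 := by
            rw [← hc, ← map_pow, ← hz, pow_orderOf_eq_one, map_one]
          rw [smul_pow, one_pow] at h1
          exact smul_left_injective ℂ hone (h1.trans (one_smul ℂ _).symm)
        have hc1 : c = 1 := by
          refine eq_one_of_rootsOfUnity_congr hr hqr hqI hcpow
            (hχc ▸ isIntegral_char (Char.irr_isCharacter χ) z) ?_
          have h1 : MemLocalIdeal I (centralChar (fun _ : H => (1 : ℂ)) z - centralChar χ.1 z) := hχ z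
          have h2 : centralChar (fun _ : H => (1 : ℂ)) z - centralChar χ.1 z =
              -(((p ^ a : ℕ) : ℂ) * (c - 1)) := by
            have hd : χ.1 1 = 1 := by rw [Char.apply_one_eq_degree, hn, Nat.cast_one]
            simp [centralChar, hidx, hχc, hd]
            ring
          rw [h2] at h1
          have h3 := Blocks.MemLocalIdeal.neg h1
          rw [neg_neg] at h3
          rcases Blocks.MemLocalIdeal.mem_or_mem (Blocks.memLocalRing_natCast (p ^ a))
            (Blocks.memLocalRing_of_isIntegral
              ((hχc ▸ isIntegral_char (Char.irr_isCharacter χ) z).sub isIntegral_one)) h3 with h4 | h4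
          · exact absurd ((Blocks.memLocalIdeal_natCast_iff hqI _).1 h4)
              (fun hd => hqp ((Nat.prime_dvd_prime_iff_eq hq hp).1 (hq.dvd_of_dvd_pow hd)))
          · exact h4
        have hall : ∀ g : H, ρ g = 1 := by
          intro g
          have : g ∈ (M ⊔ Subgroup.zpowers z : Subgroup H) := hgen ▸ Subgroup.mem_top g
          have hle : M ⊔ Subgroup.zpowers z ≤ ρ.ker :=
            sup_le (fun m hm => hker m hm) (Subgroup.zpowers_le.2 (by
              show ρ z = 1
              rw [hc, hc1, one_smul]))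
          exact hle this
        apply Subtype.ext
        funext g
        rw [← hρχ, Representation.character, hall, LinearMap.trace_one, Module.finrank_fin_fun]
        simp
  -- sum over the block
  rw [← Finset.add_sum_erase _ _ (show Char.trivialChar H ∈ Finset.univ.filter (· ∈ B) by
    simp only [Finset.mem_filter, Finset.mem_univ, true_and]
    exact Blocks.sameBlock_refl _)] at horth
  simp only [Char.trivialChar_apply, map_one, mul_one] at horth
  let w : IrrCharacter H → ℂ := fun χ => ((Char.degree χ / p : ℕ) : ℂ) * conj (χ.1 (y : H))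
  have hw : ∀ χ ∈ (Finset.univ.filter (· ∈ B)).erase (Char.trivialChar H),
      χ.1 1 * conj (χ.1 (y : H)) = (p : ℂ) * w χ := by
    intro χ hχ
    rw [Finset.mem_erase, Finset.mem_filter] at hχ
    simp only [w, Char.apply_one_eq_degree]
    rw [← mul_assoc, ← Nat.cast_mul, Nat.mul_div_cancel' (hdiv χ hχ.2.2 hχ.1)]
  rw [Finset.sum_congr rfl hw, ← Finset.mul_sum] at horth
  set s := ∑ χ ∈ (Finset.univ.filter (· ∈ B)).erase (Char.trivialChar H), w χ
  have hint : IsIntegral ℤ s := by
    refine IsIntegral.sum _ fun χ _ => ?_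
    refine (isIntegral_algebraMap (R := ℤ) (A := ℂ) (x := ((Char.degree χ / p : ℕ) : ℤ))).mul ?_
    rw [← char_inv (Char.irr_isCharacter χ)]
    exact isIntegral_char (Char.irr_isCharacter χ) _
  have hs : s = algebraMap ℚ ℂ (-1 / (p : ℚ)) := by
    have hp0 : (p : ℂ) ≠ 0 := Nat.cast_ne_zero.2 hp.ne_zero
    rw [eq_ratCast]
    push_cast
    field_simp
    linear_combination horth
  rw [hs, isIntegral_algebraMap_iff (algebraMap ℚ ℂ).injective] at hint
  obtain ⟨v, hv⟩ := IsIntegrallyClosed.isIntegral_iff.1 hint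
  rw [eq_intCast, eq_div_iff (Nat.cast_ne_zero.2 hp.ne_zero)] at hv
  have hv' : v * (p : ℤ) = -1 := by exact_mod_cast hv
  have : (p : ℤ) ∣ 1 := ⟨-v, by linear_combination hv'⟩
  exact hp.not_dvd_one (by exact_mod_cast this)

/-- For `N` normal, the index of `z` in `N⟨z⟩` divides its index in `G`. -/
theorem index_centralizer_sup_zpowers_dvd {G : Type u} [Group G] [Finite G] (N : Subgroup G)
    [N.Normal] (z : G) :
    (Subgroup.centralizer
      ({(⟨z, Subgroup.mem_sup_right (Subgroup.mem_zpowers z)⟩ : ↥(N ⊔ Subgroup.zpowers z))} :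
        Set ↥(N ⊔ Subgroup.zpowers z))).index ∣ (Subgroup.centralizer ({z} : Set G)).index := by
  set C := Subgroup.centralizer ({z} : Set G)
  set H := N ⊔ Subgroup.zpowers z
  have h1 : Subgroup.centralizer
      ({(⟨z, Subgroup.mem_sup_right (Subgroup.mem_zpowers z)⟩ : H)} : Set H) = C.subgroupOf H := by
    ext w
    rw [Subgroup.mem_subgroupOf, Subgroup.mem_centralizer_singleton_iff,
      Subgroup.mem_centralizer_singleton_iff, Subtype.ext_iff]
    simp
  rw [h1]
  show C.relIndex H ∣ _
  have h2 : (C ⊓ H) ⊔ N = H := by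
    refine le_antisymm (sup_le inf_le_right le_sup_left) (sup_le le_sup_right ?_)
    refine le_trans (le_inf ?_ le_sup_right) le_sup_left
    exact Subgroup.zpowers_le.2 (Subgroup.mem_centralizer_singleton_iff.2 rfl)
  have h3 : (C ⊓ H).relIndex N = C.relIndex N := by
    rw [← Subgroup.inf_relIndex_right, inf_assoc, inf_eq_right.2 (le_sup_left : N ≤ H),
      Subgroup.inf_relIndex_right]
  have h4 := SylowCount.relIndex_self_sup (C ⊓ H) N
  rw [h2, h3, Subgroup.inf_relIndex_right] at h4
  rw [h4, ← SylowCount.relIndex_self_sup C N]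
  exact ⟨_, (Subgroup.relIndex_mul_index le_sup_left).symm⟩

/-- A normal nilpotent subgroup of a group with trivial Fitting subgroup is trivial. -/
theorem eq_bot_of_commutative_normal {G : Type u} [Group G] [Finite G]
    (hF : fittingSubgroup G = ⊥) (A : Subgroup G) (hA : A.Normal)
    (hc : ∀ a ∈ A, ∀ b ∈ A, a * b = b * a) : A = ⊥ := by
  letI : CommGroup A := { (inferInstance : Group A) with
    mul_comm := fun a b => Subtype.ext (hc a a.2 b b.2) }
  exact le_bot_iff.1 (hF ▸ Components.le_fittingSubgroup hA)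

/-- A primary element with prime power index centralises a normal subgroup with trivial Fitting
subgroup (by induction on the subgroup). -/
theorem commute_of_fitting_eq_bot {p : ℕ} (hp : p.Prime) (n : ℕ) :
    ∀ {G : Type u} [Group G] [Finite G] (M : Subgroup G) [M.Normal], Nat.card M ≤ n →
      fittingSubgroup M = ⊥ → ∀ (z : G) {r f : ℕ}, r.Prime → orderOf z = r ^ f →
      (∃ a, (Subgroup.centralizer ({z} : Set G)).index = p ^ a) → ∀ m ∈ M, z * m = m * z := by
  induction n using Nat.strong_induction_on with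
  | _ n ih =>
  intro G _ _ M _ hn hF z r f hr hz hidx m hm
  -- pass to `H = M⟨z⟩`
  set H := M ⊔ Subgroup.zpowers z with hH
  set z' : H := ⟨z, Subgroup.mem_sup_right (Subgroup.mem_zpowers z)⟩ with hz'
  set M' := M.subgroupOf H with hM'
  have hidx' : ∃ a, (Subgroup.centralizer ({z'} : Set H)).index = p ^ a := by
    obtain ⟨a, ha⟩ := hidx
    obtain ⟨b, -, hb⟩ := (Nat.dvd_prime_pow hp).1 (ha ▸ index_centralizer_sup_zpowers_dvd M z)
    exact ⟨b, hb⟩
  have hz'o : orderOf z' = r ^ f := by rw [hz', Subgroup.orderOf_mk, hz]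
  have hF' : fittingSubgroup M' = ⊥ := by
    have e : M' ≃* M := Subgroup.subgroupOfEquivOfLe le_sup_left
    rw [← Components.map_fittingSubgroup e.symm, hF, Subgroup.map_bot]
  have hgen : M' ⊔ Subgroup.zpowers z' = ⊤ := by
    apply Subgroup.map_injective H.subtype_injective
    rw [Subgroup.map_sup, MonoidHom.map_zpowers, hM', Subgroup.subgroupOf_map_subtype,
      inf_eq_left.2 (le_sup_left : M ≤ H), ← MonoidHom.range_eq_map, Subgroup.range_subtype]
    rfl
  suffices hmain : ∀ m' ∈ M', z' * m' = m' * z' by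
    exact congrArg Subtype.val (hmain ⟨m, Subgroup.mem_sup_left hm⟩ hm)
  have hcard : Nat.card M' = Nat.card M :=
    Nat.card_congr (Subgroup.subgroupOfEquivOfLe (le_sup_left : M ≤ H)).toEquiv
  by_cases hmin : ∀ N : Subgroup H, N.Normal → N ≤ M' → N = ⊥ ∨ N = M'
  · by_cases hbot : M' = ⊥
    · intro m' hm'
      rw [hbot, Subgroup.mem_bot] at hm'
      simp [hm']
    obtain ⟨a, ha⟩ := hidx'
    refine commute_of_minimal M' (fun hs => ?_) hmin z' hr hz'o hgen hp ha
    haveI := hs
    haveI : Nontrivial M' := (Subgroup.nontrivial_iff_ne_bot M').2 hbot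
    exact Components.fittingSubgroup_ne_bot (G := M') hF'
  push Not at hmin
  obtain ⟨N, hN, hNM, hNbot, hNne⟩ := hmin
  haveI := hN
  have hFsub : ∀ L : Subgroup H, L.Normal → L ≤ M' → fittingSubgroup L = ⊥ := by
    intro L hL hLM
    haveI : (L.subgroupOf M').Normal := Subgroup.Normal.subgroupOf hL M'
    have h1 : fittingSubgroup (L.subgroupOf M') = ⊥ := by
      rw [Components.fittingSubgroup_subgroupOf_of_normal, hF', Subgroup.bot_subgroupOf]
    rw [← Components.map_fittingSubgroup (Subgroup.subgroupOfEquivOfLe hLM), h1, Subgroup.map_bot]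
  have hlt : ∀ L : Subgroup H, L ≤ M' → L ≠ M' → Nat.card L < n := by
    intro L hLM hne
    refine lt_of_lt_of_le ?_ hn
    rw [← hcard]
    exact lt_of_le_of_ne (Subgroup.card_le_of_le hLM) fun he =>
      hne (Subgroup.eq_of_le_of_card_ge hLM he.ge)
  have hzN := ih (Nat.card N) (hlt N hNM hNne) N le_rfl (hFsub N hN hNM) z' hr hz'o hidx'
  set C := M' ⊓ Subgroup.centralizer (N : Set H) with hC
  haveI hCn : C.Normal := inferInstance
  have hCne : C ≠ M' := fun h => hNbot (by
    have h1 : N.subgroupOf M' = ⊥ := by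
      refine eq_bot_of_commutative_normal hF' _ (Subgroup.Normal.subgroupOf hN M') fun a ha b hb => ?_
      apply Subtype.ext
      have hbC : (b : H) ∈ C := h.symm ▸ b.2
      exact Subgroup.mem_centralizer_iff.1 hbC.2 a ha
    rw [Subgroup.subgroupOf_eq_bot, disjoint_iff, inf_eq_left.2 hNM] at h1
    exact h1)
  have hzC := ih (Nat.card C) (hlt C inf_le_left hCne) C le_rfl (hFsub C hCn inf_le_left) z' hr hz'o hidx'
  intro m' hm'
  set w := z' * m' * z'⁻¹ * m'⁻¹ with hw
  have hwM : w ∈ M' := mul_mem ((inferInstance : M'.Normal).conj_mem m' hm' z') (inv_mem hm')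
  have hwfix : ∀ L : Subgroup H, L.Normal → (∀ u ∈ L, z' * u = u * z') →
      ∀ u ∈ L, w * u = u * w := by
    intro L hL hz u hu
    have h1 := hz _ hu
    have h2 := hz _ (hL.conj_mem u hu m'⁻¹)
    rw [inv_inv] at h2
    calc w * u = z' * m' * (z'⁻¹ * (m'⁻¹ * u * m')) * m'⁻¹ := by rw [hw]; group
      _ = z' * m' * (z'⁻¹ * (m'⁻¹ * u * m') * z') * z'⁻¹ * m'⁻¹ := by group
      _ = z' * m' * (z'⁻¹ * (z' * (m'⁻¹ * u * m'))) * z'⁻¹ * m'⁻¹ := by rw [mul_assoc z'⁻¹, ← h2]
      _ = (z' * u) * (m' * z'⁻¹ * m'⁻¹) := by group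
      _ = (u * z') * (m' * z'⁻¹ * m'⁻¹) := by rw [h1]
      _ = _ := by rw [hw]; group
  have hwC : w ∈ C := by
    refine Subgroup.mem_inf.2 ⟨hwM, ?_⟩
    rw [Subgroup.mem_centralizer_iff]
    exact fun u hu => (hwfix N hN hzN u hu).symm
  have hZ : (C ⊓ Subgroup.centralizer (C : Set H)).subgroupOf M' = ⊥ := by
    refine eq_bot_of_commutative_normal hF' _
      (Subgroup.Normal.subgroupOf inferInstance M') fun a ha b hb => ?_
    apply Subtype.ext
    exact Subgroup.mem_centralizer_iff.1 hb.2 a ha.1
  have hw1 : w = 1 := by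
    have hmem : (⟨w, hwM⟩ : M') ∈ (C ⊓ Subgroup.centralizer (C : Set H)).subgroupOf M' := by
      refine Subgroup.mem_subgroupOf.2 (Subgroup.mem_inf.2 ⟨hwC, ?_⟩)
      rw [Subgroup.mem_centralizer_iff]
      exact fun u hu => (hwfix C hCn hzC u hu).symm
    rw [hZ, Subgroup.mem_bot] at hmem
    exact congrArg Subtype.val hmem
  rw [hw, mul_inv_eq_one, mul_inv_eq_iff_eq_mul] at hw1
  exact hw1

/-- **Kazarin's theorem**: a class of prime power size generates a solvable subgroup. -/
theorem isSolvable_normalClosure_of_class_prime_pow (n : ℕ) :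
    ∀ {G : Type u} [Group G] [Finite G], Nat.card G ≤ n → ∀ (x : G) {p : ℕ}, p.Prime →
      (∃ a, (Subgroup.centralizer ({x} : Set G)).index = p ^ a) →
      Group.IsSolvable (Subgroup.normalClosure ({x} : Set G)) := by
  induction n using Nat.strong_induction_on with
  | _ n ih =>
  intro G _ _ hn x p hp hidx
  set M := Subgroup.normalClosure ({x} : Set G) with hM
  by_cases hS : fittingSubgroup G = ⊥
  · -- every primary part of `x` is trivial
    have hFM : fittingSubgroup M = ⊥ := by
      rw [Components.fittingSubgroup_subgroupOf_of_normal, hS, Subgroup.bot_subgroupOf]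
    have hxM : x ∈ M := Subgroup.subset_normalClosure rfl
    have hx1 : x = 1 := by
      by_contra hne
      set k := orderOf x with hk
      obtain ⟨r, hr, hrk⟩ := Nat.exists_prime_and_dvd (n := k)
        (fun h => hne (orderOf_eq_one_iff.1 h))
      set v := k.factorization r with hv
      set z := x ^ (k / r ^ v) with hz
      have hdvd : r ^ v ∣ k := Nat.ordProj_dvd k r
      have hk0 : 0 < k := orderOf_pos x
      have hzo : orderOf z = r ^ v :=
        orderOf_pow_orderOf_div hk0.ne' hdvd
      have hzidx : ∃ a, (Subgroup.centralizer ({z} : Set G)).index = p ^ a := by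
        obtain ⟨a, ha⟩ := hidx
        have hle : Subgroup.centralizer ({x} : Set G) ≤ Subgroup.centralizer ({z} : Set G) := by
          intro g hg
          rw [Subgroup.mem_centralizer_singleton_iff] at hg ⊢
          exact ((show Commute g x from hg).pow_right _).eq
        obtain ⟨b, -, hb⟩ := (Nat.dvd_prime_pow hp).1 (ha ▸ Subgroup.index_dvd_of_le hle)
        exact ⟨b, hb⟩
      have hcomm := commute_of_fitting_eq_bot hp (Nat.card M) M le_rfl hFM z hr hzo hzidx
      have hzM : z ∈ M := pow_mem hxM _
      have hZ : Subgroup.center M = ⊥ :=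
        eq_bot_of_commutative_normal hFM _ inferInstance fun a _ b hb =>
          Subgroup.mem_center_iff.1 hb a
      have : (⟨z, hzM⟩ : M) ∈ Subgroup.center M :=
        Subgroup.mem_center_iff.2 fun g => Subtype.ext (hcomm g g.2).symm
      rw [hZ, Subgroup.mem_bot] at this
      have hz1 : z = 1 := congrArg Subtype.val this
      rw [hz1, orderOf_one] at hzo
      have hv1 : 1 ≤ v := hr.factorization_pos_of_dvd hk0.ne' hrk
      exact absurd hzo.symm (Nat.one_lt_pow (by omega) hr.one_lt).ne'
    rw [hM, hx1]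
    have hb : Subgroup.normalClosure ({1} : Set G) = ⊥ :=
      le_bot_iff.1 (Subgroup.normalClosure_le_normal (by simp))
    haveI : Subsingleton (Subgroup.normalClosure ({1} : Set G)) := by rw [hb]; infer_instance
    infer_instance
  · set F := fittingSubgroup G with hFdef
    haveI : F.Normal := Subgroup.sSup_normal _ fun _ h => h.1
    have hlt : Nat.card (G ⧸ F) < n := by
      refine lt_of_lt_of_le ?_ hn
      have h1 := Subgroup.card_mul_index F
      have h2 : 1 < Nat.card F := (Subgroup.one_lt_card_iff_ne_bot _).2 hS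
      have h3 : 0 < F.index := Nat.pos_of_ne_zero Subgroup.index_ne_zero_of_finite
      rw [← Subgroup.index_eq_card, ← h1]
      exact (lt_mul_iff_one_lt_left h3).2 h2
    set π := QuotientGroup.mk' F
    have hidx' : ∃ a, (Subgroup.centralizer ({π x} : Set (G ⧸ F))).index = p ^ a := by
      obtain ⟨a, ha⟩ := hidx
      have hle : (Subgroup.centralizer ({x} : Set G)).map π ≤ Subgroup.centralizer ({π x} : Set (G ⧸ F)) := by
        rintro _ ⟨g, hg, rfl⟩
        rw [SetLike.mem_coe, Subgroup.mem_centralizer_singleton_iff] at hg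
        rw [Subgroup.mem_centralizer_singleton_iff, ← map_mul, hg, map_mul]
      obtain ⟨b, -, hb⟩ := (Nat.dvd_prime_pow hp).1 (ha ▸ (Subgroup.index_dvd_of_le hle).trans
        (Subgroup.index_map_dvd _ (QuotientGroup.mk'_surjective F)))
      exact ⟨b, hb⟩
    have hmap : M.map π = Subgroup.normalClosure ({π x} : Set (G ⧸ F)) := by
      rw [hM, Subgroup.map_normalClosure _ _ (QuotientGroup.mk'_surjective F), Set.image_singleton]
    haveI : Group.IsSolvable (M.map π) := by
      rw [hmap]
      exact ih _ hlt le_rfl (π x) hp hidx'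
    haveI : Group.IsSolvable ↥(M ⊓ F : Subgroup G) :=
      Coprime.isSolvable_of_le inf_le_right inferInstance
    refine Group.isSolvable_of_ker_le_range (Subgroup.inclusion (inf_le_left : M ⊓ F ≤ M))
      (π.subgroupMap M) ?_
    intro m hm
    have hmF : (m : G) ∈ F := by
      rw [MonoidHom.mem_ker] at hm
      have := congrArg Subtype.val hm
      exact (QuotientGroup.eq_one_iff _).1 this
    exact ⟨⟨m, m.2, hmF⟩, Subtype.ext rfl⟩

end Cfsg.Agent.CharInt
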