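import Mathlib
import Cfsg.Agent.Lib.CharInt.Basic

/-!
# Galois averages of sums of roots of unity

If an integral combination of `N`-th roots of unity is nonzero, the average over its Galois twists
`μ ↦ μ ^ k` of the squared absolute value is at least `1`.  Consequently, on a set `S` of group
elements closed under `g ↦ g ^ k` (`k` prime to the group order) on which a character does not
vanish, the sum of the squared absolute values of the character is at least `#S`.
-/

set_option autoImplicit false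

namespace Cfsg.Agent.CharInt

open Finset

universe u

/-- If positive reals have product at least one, their sum is at least their number. -/
theorem card_le_sum_of_one_le_prod {ι : Type*} [Fintype ι] (c : ι → ℝ) (h0 : ∀ i, 0 < c i)
    (h : 1 ≤ ∏ i, c i) : (Fintype.card ι : ℝ) ≤ ∑ i, c i := by
  have h1 : 0 ≤ ∑ i, Real.log (c i) := by
    rw [← Real.log_prod (fun i _ => (h0 i).ne')]
    exact Real.log_nonneg h
  have h2 : ∑ i, Real.log (c i) ≤ ∑ i, (c i - 1) :=
    sum_le_sum fun i _ => Real.log_le_sub_one_of_pos (h0 i)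
  rw [sum_sub_distrib, sum_const, card_univ, nsmul_eq_mul, mul_one] at h2
  linarith

/-- For a nonzero algebraic integer of a number field, the squared absolute values of its
conjugates average to at least one. -/
theorem card_le_sum_norm_sq_embeddings {K : Type*} [Field K] [Algebra ℚ K] [FiniteDimensional ℚ K]
    {x : K} (hx : IsIntegral ℤ x) (h0 : x ≠ 0) :
    (Fintype.card (K →ₐ[ℚ] ℂ) : ℝ) ≤ ∑ σ : K →ₐ[ℚ] ℂ, ‖σ x‖ ^ 2 := by
  refine card_le_sum_of_one_le_prod _ (fun σ => ?_) ?_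
  · have : σ x ≠ 0 := by simpa using h0
    positivity
  · obtain ⟨z, hz⟩ : ∃ z : ℤ, (z : ℚ) = Algebra.norm ℚ x := by
      obtain ⟨z, hz⟩ := IsIntegrallyClosed.isIntegral_iff.1 (Algebra.isIntegral_norm ℚ hx)
      exact ⟨z, by simpa using hz⟩
    have hz0 : z ≠ 0 := by
      rintro rfl
      exact h0 (by simpa using hz.symm)
    have hp := Algebra.norm_eq_prod_embeddings ℚ ℂ x
    rw [prod_pow, ← norm_prod, ← hp, ← hz]
    have h1 : (1 : ℝ) ≤ ‖(algebraMap ℚ ℂ) (z : ℚ)‖ := by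
      simp only [eq_ratCast, Rat.cast_intCast, Complex.norm_intCast]
      exact_mod_cast Int.one_le_abs hz0
    nlinarith

/-- The Galois twists of the `N`-th roots of unity: exponents `k j` prime to `N` such that, for any
integral combination of `N`-th roots of unity which is nonzero, the squared absolute values of the
twisted combinations average to at least one. -/
theorem exists_twists (N : ℕ) [NeZero N] :
    ∃ (m : ℕ) (k : Fin m → ℕ), 0 < m ∧ (∀ j, (k j).Coprime N) ∧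
      ∀ (ι : Type u) [Fintype ι] (c : ι → ℤ) (μ : ι → ℂ), (∀ i, μ i ^ N = 1) →
        (∑ i, (c i : ℂ) * μ i) ≠ 0 →
          (m : ℝ) ≤ ∑ j, ‖∑ i, (c i : ℂ) * μ i ^ k j‖ ^ 2 := by
  classical
  obtain ⟨ζ, hζ⟩ : ∃ ζ : ℂ, IsPrimitiveRoot ζ N := ⟨_, Complex.isPrimitiveRoot_exp N (NeZero.ne N)⟩
  let K : IntermediateField ℚ ℂ := IntermediateField.adjoin ℚ {ζ}
  have : FiniteDimensional ℚ K :=
    IntermediateField.adjoin.finiteDimensional (hζ.isIntegral (NeZero.pos N)).tower_top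
  let g : K := ⟨ζ, IntermediateField.subset_adjoin ℚ _ rfl⟩
  have hg : IsPrimitiveRoot g N :=
    IsPrimitiveRoot.of_map_of_injective (f := K.val) hζ K.val.injective
  have hσ : ∀ σ : K →ₐ[ℚ] ℂ, ∃ k : ℕ, k.Coprime N ∧ σ g = ζ ^ k := by
    intro σ
    have h1 : IsPrimitiveRoot (σ g) N := hg.map_of_injective σ.injective
    obtain ⟨k, -, hk, hk'⟩ := hζ.isPrimitiveRoot_iff.1 h1
    exact ⟨k, hk, hk'.symm⟩
  choose k hk hk' using hσ
  let e := Fintype.equivFin (K →ₐ[ℚ] ℂ)
  refine ⟨Fintype.card (K →ₐ[ℚ] ℂ), fun j => k (e.symm j),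
    Fintype.card_pos_iff.2 ⟨K.val⟩, fun j => hk _, fun ι _ c μ hμ hne => ?_⟩
  choose a ha ha' using fun i => hζ.eq_pow_of_pow_eq_one (hμ i)
  let x : K := ∑ i, (c i : K) * g ^ a i
  have hval : ∀ σ : K →ₐ[ℚ] ℂ, σ x = ∑ i, (c i : ℂ) * μ i ^ k σ := by
    intro σ
    simp only [x, map_sum, map_mul, map_intCast, map_pow, hk', ← ha', ← pow_mul, mul_comm]
  have hint : IsIntegral ℤ x :=
    IsIntegral.sum _ fun i _ => ((isIntegral_algebraMap (x := c i))).mul
      ((hg.isIntegral (NeZero.pos N)).pow _)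
  have hx0 : x ≠ 0 := by
    intro h
    apply hne
    have := congrArg K.val h
    simpa [x, g, ha'] using this
  calc (Fintype.card (K →ₐ[ℚ] ℂ) : ℝ) ≤ ∑ σ : K →ₐ[ℚ] ℂ, ‖σ x‖ ^ 2 :=
        card_le_sum_norm_sq_embeddings hint hx0
    _ = ∑ j, ‖∑ i, (c i : ℂ) * μ i ^ k (e.symm j)‖ ^ 2 := by
        rw [← e.symm.sum_comp]
        simp only [hval]

/-- An integral combination of `N`-th roots of unity vanishes after a twist `μ ↦ μ ^ j`, `j` prime to
`N`, only if it vanishes. -/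
theorem sum_eq_zero_of_twist_eq_zero {N : ℕ} [NeZero N] {ι : Type u} [Fintype ι] (c : ι → ℤ)
    (μ : ι → ℂ) (hμ : ∀ i, μ i ^ N = 1) {j : ℕ} (hj : j.Coprime N)
    (h : (∑ i, (c i : ℂ) * μ i ^ j) = 0) : (∑ i, (c i : ℂ) * μ i) = 0 := by
  obtain ⟨ζ, hζ⟩ : ∃ ζ : ℂ, IsPrimitiveRoot ζ N := ⟨_, Complex.isPrimitiveRoot_exp N (NeZero.ne N)⟩
  choose a ha ha' using fun i => hζ.eq_pow_of_pow_eq_one (hμ i)
  let f : Polynomial ℤ := ∑ i, Polynomial.C (c i) * Polynomial.X ^ a i
  have hev : ∀ z : ℂ, Polynomial.aeval z f = ∑ i, (c i : ℂ) * z ^ a i := by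
    intro z; simp [f]
  have h0 : Polynomial.aeval (ζ ^ j) f = 0 := by
    rw [hev, ← h]
    refine sum_congr rfl fun i _ => ?_
    rw [← ha' i, ← pow_mul, ← pow_mul, mul_comm j]
  have hdvd := minpoly.isIntegrallyClosed_dvd ((hζ.isIntegral (NeZero.pos N)).pow j) h0
  rw [← hζ.minpoly_eq_pow_coprime hj] at hdvd
  obtain ⟨q, hq⟩ := hdvd
  have h1 : Polynomial.aeval ζ f = 0 := by rw [hq, map_mul, minpoly.aeval, zero_mul]
  rw [hev] at h1
  simpa [ha'] using h1

variable {G : Type u} [Group G] [Finite G] {χ : G → ℂ}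

/-- A character which does not vanish at `x` does not vanish at the powers of `x` prime to the
group order. -/
theorem char_pow_ne_zero (h : Cfsg.IsCharacter G χ) (x : G) {j : ℕ}
    (hj : j.Coprime (Nat.card G)) (hx : χ x ≠ 0) : χ (x ^ j) ≠ 0 := by
  have : NeZero (Nat.card G) := ⟨Nat.card_pos.ne'⟩
  obtain ⟨n, μ, -, hμ, hval⟩ := exists_roots h x
  have hN : ∀ i, μ i ^ Nat.card G = 1 := fun i => by
    obtain ⟨d, hd⟩ := orderOf_dvd_natCard x
    rw [hd, pow_mul, hμ i, one_pow]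
  intro h0
  apply hx
  have h1 := hval 1
  rw [pow_one] at h1
  have := sum_eq_zero_of_twist_eq_zero (ι := Fin n) (fun _ => 1) μ hN hj
    (by simpa [hval] using h0)
  simpa [h1] using this

/-- On a set closed under the power maps prime to the group order, on which a character does not
vanish, the squared absolute values of the character sum to at least the number of elements. -/
theorem card_le_sum_norm_sq (h : Cfsg.IsCharacter G χ) (S : Finset G)
    (hS : ∀ g ∈ S, ∀ k : ℕ, k.Coprime (Nat.card G) → g ^ k ∈ S) (hne : ∀ g ∈ S, χ g ≠ 0) :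
    (S.card : ℝ) ≤ ∑ g ∈ S, ‖χ g‖ ^ 2 := by
  classical
  have : NeZero (Nat.card G) := ⟨Nat.card_pos.ne'⟩
  obtain ⟨m, k, hm, hk, hmain⟩ := exists_twists.{0} (Nat.card G)
  have hpoint : ∀ g ∈ S, (m : ℝ) ≤ ∑ j, ‖χ (g ^ k j)‖ ^ 2 := by
    intro g hg
    obtain ⟨n, μ, -, hμ, hval⟩ := exists_roots h g
    have hN : ∀ i, μ i ^ Nat.card G = 1 := fun i => by
      obtain ⟨d, hd⟩ := orderOf_dvd_natCard g
      rw [hd, pow_mul, hμ i, one_pow]
    have h1 := hval 1
    rw [pow_one] at h1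
    have := hmain (Fin n) (fun _ => 1) μ hN (by simpa [h1] using hne g hg)
    simpa [hval] using this
  have hinv : ∀ j, ∑ g ∈ S, ‖χ (g ^ k j)‖ ^ 2 = ∑ g ∈ S, ‖χ g‖ ^ 2 := by
    intro j
    have hc : (Nat.card G).Coprime (k j) := (hk j).symm
    have hinj : Set.InjOn (fun g : G => g ^ k j) S := (powCoprime hc).injective.injOn
    have himg : S.image (fun g : G => g ^ k j) = S :=
      Finset.eq_of_subset_of_card_le
        (Finset.image_subset_iff.2 fun g hg => hS g hg _ (hk j))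
        (le_of_eq (Finset.card_image_of_injOn hinj).symm)
    conv_rhs => rw [← himg, Finset.sum_image hinj]
  have h1 : (S.card : ℝ) * m ≤ (m : ℝ) * ∑ g ∈ S, ‖χ g‖ ^ 2 := by
    calc (S.card : ℝ) * m = ∑ _g ∈ S, (m : ℝ) := by rw [sum_const, nsmul_eq_mul]
      _ ≤ ∑ g ∈ S, ∑ j, ‖χ (g ^ k j)‖ ^ 2 := sum_le_sum hpoint
      _ = ∑ j : Fin m, ∑ g ∈ S, ‖χ (g ^ k j)‖ ^ 2 := sum_comm
      _ = (m : ℝ) * ∑ g ∈ S, ‖χ g‖ ^ 2 := by simp [hinv]
  have hm' : (0 : ℝ) < m := by exact_mod_cast hm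
  nlinarith

end Cfsg.Agent.CharInt
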