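import Mathlib
import Cfsg.Agent.Lib.CharInt.Basic
import Cfsg.Agent.Lib.Char.Orthogonality
import Cfsg.Agent.Lib.Char.Linear

/-!
# Congruences of character values

* `dvd_sum_pow_prime_pow_sub`: `(∑ a i) ^ p ^ j ≡ ∑ a i ^ p ^ j` modulo `p`;
* `isIntegral_nat_div_iff`: `n / p` is an algebraic integer iff `p ∣ n`;
* `char_pow_sub_isIntegral`: `(χ g ^ p^j - χ (g ^ p^j)) / p` is an algebraic integer;
* `genChar_mul_sub_eq`: `χ (x y) - χ y ∈ (1 - ε)` for `x` of order dividing `p` commuting with `y`.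
-/

set_option linter.unusedSectionVars false

namespace Cfsg.Agent.CharInt

open scoped ComplexConjugate

theorem dvd_sum_pow_prime_sub {R : Type*} [CommRing R] {p : ℕ} (hp : p.Prime) {ι : Type*}
    (s : Finset ι) (a : ι → R) : (p : R) ∣ (∑ i ∈ s, a i) ^ p - ∑ i ∈ s, a i ^ p := by
  classical
  induction s using Finset.induction with
  | empty => simp [zero_pow hp.ne_zero]
  | insert i s hi ih =>
    obtain ⟨r, hr⟩ := ih
    rw [Finset.sum_insert hi, Finset.sum_insert hi, add_pow_prime_eq hp (a i)]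
    exact ⟨r + a i * (∑ j ∈ s, a j) * (∑ k ∈ Finset.Ioo 0 p,
      a i ^ (k - 1) * (∑ j ∈ s, a j) ^ (p - k - 1) * ↑(p.choose k / p)), by linear_combination hr⟩

theorem dvd_sum_pow_prime_pow_sub {R : Type*} [CommRing R] {p : ℕ} (hp : p.Prime) {ι : Type*}
    (s : Finset ι) (a : ι → R) (j : ℕ) :
    (p : R) ∣ (∑ i ∈ s, a i) ^ p ^ j - ∑ i ∈ s, a i ^ p ^ j := by
  induction j with
  | zero => simp
  | succ j ih =>
    have h1 := ih.trans (sub_dvd_pow_sub_pow _ _ p)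
    have h2 := dvd_sum_pow_prime_sub hp s (fun i => a i ^ p ^ j)
    simp only [← pow_mul, ← pow_succ] at h1 h2
    have := dvd_add h1 h2
    rwa [sub_add_sub_cancel] at this

theorem isIntegral_intCast (z : ℤ) : IsIntegral ℤ (z : ℂ) := by
  simpa using (isIntegral_algebraMap : IsIntegral ℤ (algebraMap ℤ ℂ z))

theorem dvd_of_isIntegral_div {z : ℤ} {p : ℕ} (hp : p ≠ 0)
    (h : IsIntegral ℤ ((z : ℂ) / (p : ℂ))) : (p : ℤ) ∣ z := by
  have hq : IsIntegral ℤ ((z : ℚ) / (p : ℚ)) :=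
    (isIntegral_algebraMap_iff (algebraMap ℚ ℂ).injective).1 (by simpa using h)
  obtain ⟨k, hk⟩ := IsIntegrallyClosed.isIntegral_iff.1 hq
  rw [eq_intCast, eq_div_iff (Nat.cast_ne_zero.2 hp)] at hk
  exact ⟨k, by rw [mul_comm]; exact_mod_cast hk.symm⟩

theorem isIntegral_pow_sum_sub_div {ι : Type*} [Fintype ι] {m p : ℕ} (hm : m ≠ 0) (hp : p.Prime)
    (μ : ι → ℂ) (hμ : ∀ i, μ i ^ m = 1) (j : ℕ) :
    IsIntegral ℤ (((∑ i, μ i) ^ p ^ j - ∑ i, μ i ^ p ^ j) / (p : ℂ)) := by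
  let a : ι → integralClosure ℤ ℂ := fun i => ⟨μ i, isIntegral_of_pow_eq_one hm (hμ i)⟩
  obtain ⟨r, hr⟩ := dvd_sum_pow_prime_pow_sub hp Finset.univ a j
  have h := congrArg Subtype.val hr
  simp only [a, AddSubgroupClass.coe_sub, SubmonoidClass.coe_pow, AddSubmonoidClass.coe_finsetSum,
    Subalgebra.coe_mul] at h
  rw [show (((p : integralClosure ℤ ℂ)) : ℂ) = (p : ℂ) from map_natCast (integralClosure ℤ ℂ).val p] at h
  rw [h, mul_div_cancel_left₀ _ (Nat.cast_ne_zero.2 hp.ne_zero)]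
  exact r.2

universe u

variable {G : Type u} [Group G] [Finite G] {χ : G → ℂ}

theorem char_pow_sub_isIntegral (h : Cfsg.IsCharacter G χ) (g : G) {p : ℕ} (hp : p.Prime) (j : ℕ) :
    IsIntegral ℤ ((χ g ^ p ^ j - χ (g ^ p ^ j)) / (p : ℂ)) := by
  obtain ⟨n, μ, -, hμ, hval⟩ := exists_roots h g
  have h1 := hval 1
  simp only [pow_one] at h1
  rw [h1, hval]
  exact isIntegral_pow_sum_sub_div (orderOf_pos g).ne' hp μ hμ j

theorem genChar_mul_sub_eq {θ : G → ℂ} (h : Cfsg.IsGeneralizedCharacter G θ) {p : ℕ} (hp : p ≠ 0)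
    {ε : ℂ} (hε : IsPrimitiveRoot ε p) {x y : G} (hx : x ^ p = 1) (hxy : x * y = y * x) :
    ∃ ω : ℂ, IsIntegral ℤ ω ∧ θ (x * y) - θ y = (1 - ε) * ω := by
  have : NeZero p := ⟨hp⟩
  suffices H : ∀ χ : G → ℂ, Cfsg.IsCharacter G χ →
      ∃ ω : ℂ, IsIntegral ℤ ω ∧ χ (x * y) - χ y = (1 - ε) * ω by
    obtain ⟨a, b, ha, hb, rfl⟩ := h
    obtain ⟨wa, ha1, ha2⟩ := H a ha
    obtain ⟨wb, hb1, hb2⟩ := H b hb
    exact ⟨wa - wb, ha1.sub hb1, by simp only [Pi.sub_apply]; linear_combination ha2 - hb2⟩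
  intro χ hχ
  let A : Subgroup G := Subgroup.closure {x, y}
  have hA : ∀ a b : A, a * b = b * a := by
    have hc : IsMulCommutative A := Subgroup.isMulCommutative_closure fun a ha b hb => by
      simp only [Set.mem_insert_iff, Set.mem_singleton_iff] at ha hb
      rcases ha with rfl | rfl <;> rcases hb with rfl | rfl <;>
        first | rfl | exact hxy | exact hxy.symm
    exact fun a b => hc.is_comm.comm a b
  let x' : A := ⟨x, Subgroup.subset_closure (by simp)⟩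
  let y' : A := ⟨y, Subgroup.subset_closure (by simp)⟩
  refine Char.IsCharacter.induction_on
    (P := fun φ => ∃ ω : ℂ, IsIntegral ℤ ω ∧ φ (x' * y') - φ y' = (1 - ε) * ω)
    (Char.IsCharacter.restrict hχ A) ⟨0, isIntegral_zero, by simp⟩ ?_ ?_
  · rintro φ ψ - - ⟨a, ha1, ha2⟩ ⟨b, hb1, hb2⟩
    exact ⟨a + b, ha1.add hb1, by simp only [Pi.add_apply]; linear_combination ha2 + hb2⟩
  · intro φ hφ
    obtain ⟨lam, rfl⟩ := Char.IsCharacter.exists_monoidHom (isCharacter_of_isIrr hφ)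
      (Char.apply_one_of_comm hA ⟨φ, hφ⟩)
    have hlx : lam x' ^ p = 1 := by
      have hxp : x' ^ p = 1 := Subtype.ext (by simpa [x'] using hx)
      rw [← map_pow, hxp, map_one]
    obtain ⟨i, -, hi⟩ := hε.eq_pow_of_pow_eq_one hlx
    refine ⟨-(lam y' * ∑ l ∈ Finset.range i, ε ^ l),
      (((isIntegral_char (isCharacter_of_isIrr hφ) y').mul
        (IsIntegral.sum _ fun l _ => (hε.isIntegral (NeZero.pos p)).pow _))).neg, ?_⟩
    rw [map_mul, ← hi]
    linear_combination (-lam y') * geom_sum_mul ε i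

end Cfsg.Agent.CharInt
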