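import Mathlib
import Cfsg.Agent.Lib.CharInt.Basic
import Cfsg.Agent.Lib.Char.Orthogonality

/-!
# The Galois action on character values

* `exists_ringHom_pow`: for `k` prime to `N` there is a ring endomorphism of `ℂ` raising the `N`-th
  roots of unity to the power `k`;
* `map_char_eq_pow`, `isIrrCharacter_map`, `isIrrCharacter_pow`: Galois twists of characters;
* `exists_rat_of_forall_pow`: a character value fixed by all the twists is rational.
-/

set_option linter.unusedSectionVars false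

namespace Cfsg.Agent.CharInt

open scoped ComplexConjugate

/-- Extension of an embedding along an algebraic extension into an algebraically closed field. -/
theorem exists_ringHom_extend {R S M : Type*} [CommRing R] [IsDomain R] [Field S] [Field M]
    [IsAlgClosed M] (i : R →+* S) (hi : Function.Injective i) (j : R →+* M)
    (hj : Function.Injective j)
    (halg : ∀ s : S, ∃ p : Polynomial R, p ≠ 0 ∧ p.eval₂ i s = 0) :
    ∃ f : S →+* M, ∀ r, f (i r) = j r := by
  letI : Algebra R S := i.toAlgebra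
  letI : Algebra R M := j.toAlgebra
  have : FaithfulSMul R S := (faithfulSMul_iff_algebraMap_injective R S).2 hi
  have : FaithfulSMul R M := (faithfulSMul_iff_algebraMap_injective R M).2 hj
  have : Algebra.IsAlgebraic R S :=
    ⟨fun s => (halg s).imp fun p hp => ⟨hp.1, by rw [Polynomial.aeval_def]; exact hp.2⟩⟩
  let f : S →ₐ[R] M := IsAlgClosed.lift
  exact ⟨f.toRingHom, fun r => f.commutes r⟩

/-- An endomorphism of the algebraic numbers extends to the complex numbers. -/
theorem exists_ringHom_complex_extend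
    (σ : algebraicClosure ℚ ℂ →+* algebraicClosure ℚ ℂ) :
    ∃ f : ℂ →+* ℂ, ∀ x : algebraicClosure ℚ ℂ, f x = σ x := by
  obtain ⟨s, hs⟩ := exists_isTranscendenceBasis (algebraicClosure ℚ ℂ) ℂ
  let ev : MvPolynomial s (algebraicClosure ℚ ℂ) →+* ℂ :=
    (MvPolynomial.aeval (R := algebraicClosure ℚ ℂ) ((↑) : s → ℂ)).toRingHom
  have hev : Function.Injective ev := hs.1
  let R := Algebra.adjoin (algebraicClosure ℚ ℂ) (Set.range ((↑) : s → ℂ))
  let e := hs.1.aevalEquiv
  let j : R →+* ℂ := (ev.comp (MvPolynomial.map σ)).comp (e.symm.toRingEquiv.toRingHom)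
  have hj : Function.Injective j :=
    (hev.comp (MvPolynomial.map_injective σ σ.injective)).comp e.symm.injective
  have halg := hs.isAlgebraic
  obtain ⟨f, hf⟩ := exists_ringHom_extend (R.val.toRingHom) Subtype.val_injective j hj
    (fun z => (halg.isAlgebraic z).imp fun p hp => ⟨hp.1, by
      have h2 := hp.2
      rw [Polynomial.aeval_def] at h2
      exact h2⟩)
  refine ⟨f, fun x => ?_⟩
  have h1 : e.symm (algebraMap (algebraicClosure ℚ ℂ) R x) = MvPolynomial.C x := by
    rw [AlgEquiv.symm_apply_eq]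
    exact (AlgEquiv.commutes e x).symm
  have h2 := hf (algebraMap (algebraicClosure ℚ ℂ) R x)
  change f x = j _ at h2
  rw [h2]
  change ev (MvPolynomial.map σ (e.symm (algebraMap (algebraicClosure ℚ ℂ) R x))) = _
  rw [h1, MvPolynomial.map_C]
  simp [ev]

/-- For `k` prime to `N`, some ring endomorphism of `ℂ` raises the `N`-th roots of unity to the
`k`-th power. -/
theorem exists_ringHom_pow {N k : ℕ} (hN : N ≠ 0) (hk : k.Coprime N) :
    ∃ f : ℂ →+* ℂ, ∀ z : ℂ, z ^ N = 1 → f z = z ^ k := by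
  have : NeZero N := ⟨hN⟩
  obtain ⟨ζ, hζ⟩ : ∃ ζ : ℂ, IsPrimitiveRoot ζ N := ⟨_, Complex.isPrimitiveRoot_exp N hN⟩
  have hζA : ζ ∈ algebraicClosure ℚ ℂ :=
    mem_algebraicClosure_iff.2 (hζ.isIntegral (NeZero.pos N)).tower_top.isAlgebraic
  let g : algebraicClosure ℚ ℂ := ⟨ζ, hζA⟩
  have hg : IsPrimitiveRoot g N :=
    IsPrimitiveRoot.of_map_of_injective (f := (algebraicClosure ℚ ℂ).val) hζ
      (algebraicClosure ℚ ℂ).val.injective
  have : IsAlgClosed (algebraicClosure ℚ ℂ) :=
    (algebraicClosure.isAlgClosure ℚ ℂ).1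
  have hall : ∀ s : algebraicClosure ℚ ℂ, IsAlgebraic ℚ s := fun s =>
    (isAlgebraic_algHom_iff (algebraicClosure ℚ ℂ).val Subtype.val_injective).1
      (mem_algebraicClosure_iff.1 s.2)
  have hgint : IsIntegral ℚ g := (hg.isIntegral (NeZero.pos N)).tower_top
  let pb := IntermediateField.adjoin.powerBasis hgint
  have hroot : Polynomial.aeval (g ^ k) (minpoly ℚ pb.gen) = 0 := by
    have hgen : minpoly ℚ pb.gen = minpoly ℚ g :=
      by
      rw [← minpoly.algebraMap_eq (A := ℚ) (B' := algebraicClosure ℚ ℂ) Subtype.val_injective pb.gen,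
        IntermediateField.adjoin.powerBasis_gen]
      rfl
    rw [hgen, ← Polynomial.cyclotomic_eq_minpoly_rat hg (NeZero.pos N),
      Polynomial.cyclotomic_eq_minpoly_rat (hg.pow_of_coprime k hk) (NeZero.pos N)]
    exact minpoly.aeval ℚ _
  let σ₀ : IntermediateField.adjoin ℚ {g} →ₐ[ℚ] algebraicClosure ℚ ℂ := pb.lift (g ^ k) hroot
  obtain ⟨σ, hσ⟩ := exists_ringHom_extend (S := algebraicClosure ℚ ℂ) (M := algebraicClosure ℚ ℂ)
    (IntermediateField.adjoin ℚ {g}).val.toRingHom Subtype.val_injective σ₀.toRingHom σ₀.injective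
    (fun s => by
      have h : IsAlgebraic ℚ s := hall s
      obtain ⟨p, hp, hps⟩ := h.tower_top (IntermediateField.adjoin ℚ {g})
      exact ⟨p, hp, by rw [← hps]; rfl⟩)
  obtain ⟨f, hf⟩ := exists_ringHom_complex_extend σ
  have hfζ : f ζ = ζ ^ k := by
    have h1 : σ g = g ^ k := by
      have h2 := hσ pb.gen
      have h3 : σ₀ pb.gen = g ^ k := pb.lift_gen _ _
      rw [IntermediateField.adjoin.powerBasis_gen] at h2 h3
      rw [← h3]
      exact h2
    have h4 := hf g
    rw [h1] at h4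
    exact h4
  refine ⟨f, fun z hz => ?_⟩
  obtain ⟨a, -, rfl⟩ := hζ.eq_pow_of_pow_eq_one hz
  rw [map_pow, hfζ, ← pow_mul, ← pow_mul, mul_comm]

universe u

variable {G : Type u} [Group G] [Finite G] {χ : G → ℂ}

/-- An endomorphism of `ℂ` raising the roots of unity to the power `k` maps `χ g` to `χ (g ^ k)`. -/
theorem map_char_eq_pow (h : Cfsg.IsCharacter G χ) {k : ℕ} {f : ℂ →+* ℂ}
    (hf : ∀ z : ℂ, z ^ Nat.card G = 1 → f z = z ^ k) (g : G) : f (χ g) = χ (g ^ k) := by
  obtain ⟨n, μ, -, hμ, hval⟩ := exists_roots h g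
  have h1 := hval 1
  simp only [pow_one] at h1
  rw [h1, hval k, map_sum]
  refine Finset.sum_congr rfl fun i _ => hf _ ?_
  obtain ⟨d, hd⟩ := orderOf_dvd_natCard g
  rw [hd, pow_mul, hμ i, one_pow]

/-- Applying a ring endomorphism of `ℂ` to the values of a character gives a character. -/
theorem isCharacter_map (h : Cfsg.IsCharacter G χ) (f : ℂ →+* ℂ) :
    Cfsg.IsCharacter G (fun g => f (χ g)) := by
  obtain ⟨n, ρ, rfl⟩ := h
  let A : G →* Matrix (Fin n) (Fin n) ℂ :=
    (f.mapMatrix.toMonoidHom).comp ((LinearMap.toMatrixAlgEquiv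
      (Pi.basisFun ℂ (Fin n))).toAlgHom.toMonoidHom.comp ρ)
  refine ⟨n, (Matrix.toLinAlgEquiv (Pi.basisFun ℂ (Fin n))).toAlgHom.toMonoidHom.comp A, ?_⟩
  funext g
  simp only [Representation.character, LinearMap.trace_eq_matrix_trace ℂ (Pi.basisFun ℂ (Fin n))]
  change Matrix.trace (LinearMap.toMatrixAlgEquiv (Pi.basisFun ℂ (Fin n))
    (Matrix.toLinAlgEquiv (Pi.basisFun ℂ (Fin n)) (A g))) = _
  rw [LinearMap.toMatrixAlgEquiv_toLinAlgEquiv]
  exact (AddMonoidHom.map_trace f.toAddMonoidHom _).symm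

theorem isIrrCharacter_map (h : Cfsg.IsIrrCharacter G χ) (f : ℂ →+* ℂ) :
    Cfsg.IsIrrCharacter G (fun g => f (χ g)) := by
  have : Fintype G := Fintype.ofFinite G
  have hc := isCharacter_of_isIrr h
  refine Char.isIrrCharacter_iff.2 ⟨isCharacter_map hc f, ?_⟩
  have h1 := (Char.isIrrCharacter_iff.1 h).2
  have e : ∀ g, conj (f (χ g)) = f (conj (χ g)) := fun g => by
    rw [← char_inv (isCharacter_map hc f) g, ← char_inv hc g]
  simp only [Cfsg.classInner, e, ← map_mul, ← map_sum] at h1 ⊢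
  rw [← map_natCast f, ← map_inv₀, ← map_mul, h1, map_one]

theorem isCharacter_pow (h : Cfsg.IsCharacter G χ) {k : ℕ} (hk : k.Coprime (Nat.card G)) :
    Cfsg.IsCharacter G (fun g => χ (g ^ k)) := by
  obtain ⟨f, hf⟩ := exists_ringHom_pow Nat.card_pos.ne' hk
  simpa only [map_char_eq_pow h hf] using isCharacter_map h f

theorem isIrrCharacter_pow (h : Cfsg.IsIrrCharacter G χ) {k : ℕ}
    (hk : k.Coprime (Nat.card G)) : Cfsg.IsIrrCharacter G (fun g => χ (g ^ k)) := by
  obtain ⟨f, hf⟩ := exists_ringHom_pow Nat.card_pos.ne' hk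
  simpa only [map_char_eq_pow (isCharacter_of_isIrr h) hf] using isIrrCharacter_map h f

/-- A character value fixed by all the Galois twists is rational. -/
theorem exists_rat_of_forall_pow (h : Cfsg.IsCharacter G χ) (g : G)
    (hfix : ∀ k : ℕ, k.Coprime (orderOf g) → χ (g ^ k) = χ g) : ∃ q : ℚ, χ g = q := by
  classical
  obtain ⟨n, μ, -, hμ, hval⟩ := exists_roots h g
  have h1 := hval 1
  simp only [pow_one] at h1
  have hpos : 0 < orderOf g := orderOf_pos g
  have : NeZero (orderOf g) := ⟨hpos.ne'⟩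
  obtain ⟨ζ, hζ⟩ : ∃ ζ : ℂ, IsPrimitiveRoot ζ (orderOf g) :=
    ⟨_, Complex.isPrimitiveRoot_exp _ hpos.ne'⟩
  choose a ha ha' using fun i => hζ.eq_pow_of_pow_eq_one (hμ i)
  let K : IntermediateField ℚ ℂ := IntermediateField.adjoin ℚ {ζ}
  have : FiniteDimensional ℚ K :=
    IntermediateField.adjoin.finiteDimensional (hζ.isIntegral hpos).tower_top
  let z : K := ⟨ζ, IntermediateField.subset_adjoin ℚ _ rfl⟩
  let x : K := ∑ i, z ^ a i
  have hx : (x : ℂ) = χ g := by
    change K.val x = χ g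
    simp [x, z, h1, ha']
  have hz : IsPrimitiveRoot z (orderOf g) :=
    IsPrimitiveRoot.of_map_of_injective (f := K.val) hζ K.val.injective
  have hall : ∀ ψ : K →ₐ[ℚ] ℂ, ψ x = χ g := by
    intro ψ
    obtain ⟨k, -, hk, hk'⟩ := hζ.isPrimitiveRoot_iff.1 (hz.map_of_injective ψ.injective)
    have hk2 : ψ z = ζ ^ k := hk'.symm
    rw [← hfix k hk, hval k]
    simp [x, map_sum, map_pow, hk2, ← ha', ← pow_mul, mul_comm k]
  have hint : IsIntegral ℚ x := Algebra.IsIntegral.isIntegral x
  have hsub : (minpoly ℚ x).rootSet ℂ ⊆ {χ g} := by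
    rw [← Algebra.IsAlgebraic.range_eval_eq_rootSet_minpoly (A := ℂ) x]
    rintro _ ⟨ψ, rfl⟩
    exact hall ψ
  have hcard : Fintype.card ((minpoly ℚ x).rootSet ℂ) = (minpoly ℚ x).natDegree :=
    Polynomial.card_rootSet_eq_natDegree (minpoly.irreducible hint).separable
      (IsAlgClosed.splits _)
  have hle : (minpoly ℚ x).natDegree ≤ 1 := by
    rw [← hcard]
    exact le_trans (Set.card_le_card hsub) (by simp)
  have hdeg : (minpoly ℚ x).degree = 1 := by
    rw [Polynomial.degree_eq_natDegree (minpoly.monic hint).ne_zero]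
    have := minpoly.natDegree_pos hint
    exact_mod_cast le_antisymm hle this
  obtain ⟨q, hq⟩ := minpoly.mem_range_of_degree_eq_one ℚ x hdeg
  refine ⟨q, ?_⟩
  rw [← hx, ← hq]
  exact eq_ratCast (K.val.toRingHom.comp (algebraMap ℚ K)) q

/-- An exponent prime to the order of an element can be replaced by one prime to the group order. -/
theorem exists_coprime_pow_eq (g : G) {k : ℕ} (hk : k.Coprime (orderOf g)) :
    ∃ m : ℕ, m.Coprime (Nat.card G) ∧ g ^ m = g ^ k := by
  have : NeZero (Nat.card G) := ⟨Nat.card_pos.ne'⟩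
  obtain ⟨u, hu⟩ := ZMod.unitsMap_surjective (orderOf_dvd_natCard g) (ZMod.unitOfCoprime k hk)
  refine ⟨(u : ZMod (Nat.card G)).val, ZMod.val_coe_unit_coprime u, ?_⟩
  rw [pow_eq_pow_iff_modEq, ← ZMod.natCast_eq_natCast_iff]
  have h2 := congrArg Units.val hu
  rw [ZMod.unitsMap_def, Units.coe_map, MonoidHom.coe_coe, ZMod.coe_unitOfCoprime] at h2
  rw [← h2, ZMod.castHom_apply, ZMod.cast_eq_val]

end Cfsg.Agent.CharInt
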