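import Mathlib
import Cfsg.Prelude.Def_Transfer
import Cfsg.Agent.Lib.CharInt.Central
import Cfsg.Agent.Lib.CharInt.Basic
import Cfsg.Agent.Lib.Char.Linear
import Cfsg.Agent.Lib.PGroup.Extraspecial

/-!
# Characters of extraspecial groups
-/

set_option linter.unusedSectionVars false

namespace Cfsg.Agent.CharInt

open scoped ComplexConjugate commutatorElement

universe u

variable {P : Type u} [Group P] [Finite P] {p n : ℕ}

/-- An irreducible character of an extraspecial group is linear and trivial on the centre, or has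
degree `p ^ n` and vanishes off the centre. -/
theorem extraspecial_irr_dichotomy [Fact p.Prime] (hP : Cfsg.IsExtraspecial p P)
    (hcard : Nat.card P = p ^ (2 * n + 1)) (χ : Cfsg.IrrCharacter P) :
    (χ.1 1 = 1 ∧ ∀ z ∈ Subgroup.center P, χ.1 z = χ.1 1) ∨
      (χ.1 1 = (p : ℂ) ^ n ∧ (∀ x : P, x ∉ Subgroup.center P → χ.1 x = 0) ∧
        ∀ z ∈ Subgroup.center P, χ.1 z = χ.1 1 → z = 1) := by
  classical
  have : Fintype P := Fintype.ofFinite P
  have hp : p.Prime := Fact.out
  have hchar := Char.irr_isCharacter χ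
  obtain ⟨d, ρ, hρ, hρχ⟩ := χ.2
  have := hρ
  have hχ1 : χ.1 1 = (d : ℂ) := by rw [← hρχ, ρ.char_one, Module.finrank_fin_fun]
  set Z := Subgroup.center P with hZ
  rcases Subgroup.eq_bot_or_eq_top_of_prime_card (hp := ⟨hP.2.symm ▸ hp⟩)
    ((charKernel hchar).subgroupOf Z) with h | h
  · right
    have hfaith : ∀ z ∈ Z, χ.1 z = χ.1 1 → z = 1 := fun z hz he => by
      have : (⟨z, hz⟩ : Z) ∈ (charKernel hchar).subgroupOf Z :=
        Subgroup.mem_subgroupOf.2 ((mem_charKernel hchar).2 he)
      rw [h, Subgroup.mem_bot] at this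
      exact congrArg Subtype.val this
    have hvan : ∀ x : P, x ∉ Z → χ.1 x = 0 := by
      intro x hx
      have hne : (⊤ : Subgroup Z) ≠ ⊥ := fun e => hp.one_lt.ne (by
        have := congrArg (fun S : Subgroup Z => Nat.card S) e
        rw [Subgroup.card_top, Subgroup.card_bot, hP.2] at this
        exact this.symm)
      obtain ⟨⟨z, hz⟩, -, hz1⟩ := SetLike.exists_of_lt (bot_lt_iff_ne_bot.2 hne)
      obtain ⟨y, hy⟩ := PGroup.exists_commutator_eq hP hx hz
      obtain ⟨c, hc⟩ := exists_smul_one_of_mem_center ρ hz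
      by_contra h0
      have he : y * x * y⁻¹ = z * x := by rw [← hy, commutatorElement_def]; group
      have h1 : χ.1 (z * x) = c * χ.1 x := by
        rw [← hρχ]; simp [Representation.character, map_mul, hc]
      rw [← he, char_conj_apply hchar] at h1
      have hc1 : c = 1 := (mul_eq_right₀ h0).1 h1.symm
      refine hz1 (Subgroup.mem_bot.2 (Subtype.ext (hfaith z hz ?_)))
      rw [← hρχ, Representation.character, Representation.character, hc, hc1, one_smul, map_one ρ]
    refine ⟨?_, hvan, hfaith⟩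
    have hsum := sum_character_mul_inv ρ
    rw [← Finset.sum_filter_add_sum_filter_not Finset.univ (fun x : P => x ∈ Z)] at hsum
    have h2 : ∑ x ∈ Finset.univ.filter (fun x : P => x ∉ Z), ρ.character x * ρ.character x⁻¹ = 0 :=
      Finset.sum_eq_zero fun x hx => by
        rw [hρχ, hvan x (Finset.mem_filter.1 hx).2, zero_mul]
    have h3 : ∀ x ∈ Finset.univ.filter (fun x : P => x ∈ Z),
        ρ.character x * ρ.character x⁻¹ = (d : ℂ) * d := by
      intro x hx
      obtain ⟨c, hc⟩ := exists_smul_one_of_mem_center ρ (Finset.mem_filter.1 hx).2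
      rw [character_inv, Complex.mul_conj',
        (norm_character_eq_finrank_iff ρ x).2 ⟨c, hc⟩, Module.finrank_fin_fun]
      push_cast; ring
    rw [h2, add_zero, Finset.sum_congr rfl h3, Finset.sum_const, nsmul_eq_mul,
      ← Fintype.card_subtype, ← Nat.card_eq_fintype_card] at hsum
    have hZp : Nat.card {x // x ∈ Z} = p := hP.2
    rw [hZp, hcard] at hsum
    have h4 : p * (d * d) = p ^ (2 * n + 1) := by exact_mod_cast hsum
    have h5 : d * d = p ^ n * p ^ n := by
      apply Nat.eq_of_mul_eq_mul_left hp.pos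
      rw [h4, pow_succ, two_mul, pow_add]
      ring
    rw [hχ1, Nat.mul_self_inj.1 h5]
    push_cast
    rfl
  · left
    have hZK : ∀ z ∈ Z, χ.1 z = χ.1 1 := fun z hz =>
      (mem_charKernel hchar).1 (Subgroup.mem_subgroupOf.1 (h ▸ Subgroup.mem_top (⟨z, hz⟩ : Z)))
    refine ⟨?_, hZK⟩
    have hcomm : ∀ a b, ρ a * ρ b = ρ b * ρ a := by
      intro a b
      have hab : ρ ⁅a, b⁆ = 1 := by
        rw [← character_eq_finrank_iff, hρχ, hZK _ (PGroup.special_commutator_mem_center hP.1 a b),
          hχ1, Module.finrank_fin_fun]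
      calc ρ a * ρ b = ρ (⁅a, b⁆ * (b * a)) := by rw [← map_mul]; congr 1; rw [commutatorElement_def]; group
        _ = ρ b * ρ a := by rw [map_mul, hab, one_mul, map_mul]
    have hsc : ∀ a, ∃ c : ℂ, ρ a = c • 1 := fun a =>
      exists_eq_smul_one_of_commute ρ _ fun g => hcomm a g
    have hsum := sum_character_mul_inv ρ
    rw [Finset.sum_congr rfl (g := fun _ => (d : ℂ) * d) fun x _ => by
      obtain ⟨c, hc⟩ := hsc x
      rw [character_inv, Complex.mul_conj',
        (norm_character_eq_finrank_iff ρ x).2 ⟨c, hc⟩, Module.finrank_fin_fun]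
      push_cast; ring, Finset.sum_const, Finset.card_univ, nsmul_eq_mul,
      ← Nat.card_eq_fintype_card] at hsum
    have h4 : (d : ℂ) * d = 1 :=
      mul_left_cancel₀ (Nat.cast_ne_zero.2 (Nat.card_pos (α := P)).ne') (hsum.trans (mul_one _).symm)
    rw [hχ1, Nat.eq_one_of_mul_eq_one_right (by exact_mod_cast h4 : d * d = 1), Nat.cast_one]

end Cfsg.Agent.CharInt
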