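import Cfsg.Agent.Lib.CharInt.Galois

/-!
# Automorphisms of `ℂ` acting as power maps on roots of unity
-/

set_option linter.style.haveILetI false

namespace Cfsg.Agent.CharInt

/-- An automorphism of the algebraic numbers extends to an automorphism of `ℂ`. -/
theorem exists_ringEquiv_complex_extend
    (σ : algebraicClosure ℚ ℂ ≃+* algebraicClosure ℚ ℂ) :
    ∃ f : ℂ ≃+* ℂ, ∀ x : algebraicClosure ℚ ℂ, f x = σ x := by
  obtain ⟨s, hs⟩ := exists_isTranscendenceBasis (algebraicClosure ℚ ℂ) ℂ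
  haveI := IsAlgClosed.isAlgClosure_of_transcendence_basis ((↑) : s → ℂ) hs
  let e := hs.1.aevalEquiv
  let j := (e.symm.toRingEquiv.trans (MvPolynomial.mapEquiv s σ)).trans e.toRingEquiv
  refine ⟨IsAlgClosure.equivOfEquiv ℂ ℂ j, fun x => ?_⟩
  have h1 := IsAlgClosure.equivOfEquiv_algebraMap ℂ ℂ j
    (algebraMap (algebraicClosure ℚ ℂ) _ x)
  refine Eq.trans h1 ?_
  have h2 : j (algebraMap (algebraicClosure ℚ ℂ) _ x) = algebraMap (algebraicClosure ℚ ℂ) _ (σ x) := by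
    show e (MvPolynomial.mapEquiv s σ (e.symm (algebraMap _ _ x))) = _
    rw [AlgEquiv.commutes, MvPolynomial.algebraMap_eq, MvPolynomial.mapEquiv_apply,
      MvPolynomial.map_C, ← MvPolynomial.algebraMap_eq, AlgEquiv.commutes]
    rfl
  rw [h2]
  rfl

/-- For `k` prime to `N`, some automorphism of `ℂ` raises the `N`-th roots of unity to the `k`-th
power. -/
theorem exists_ringEquiv_pow {N k : ℕ} (hN : N ≠ 0) (hk : k.Coprime N) :
    ∃ f : ℂ ≃+* ℂ, ∀ z : ℂ, z ^ N = 1 → f z = z ^ k := by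
  obtain ⟨f₀, hf₀⟩ := exists_ringHom_pow hN hk
  haveI : IsAlgClosure ℚ (algebraicClosure ℚ ℂ) := algebraicClosure.isAlgClosure ℚ ℂ
  let σ := AlgHom.restrictNormal' f₀.toRatAlgHom (algebraicClosure ℚ ℂ)
  obtain ⟨f, hf⟩ := exists_ringEquiv_complex_extend σ.toRingEquiv
  refine ⟨f, fun z hz => ?_⟩
  have hzA : z ∈ algebraicClosure ℚ ℂ :=
    mem_algebraicClosure_iff.2 ⟨Polynomial.X ^ N - 1, Polynomial.X_pow_sub_C_ne_zero
      (Nat.pos_of_ne_zero hN) (1 : ℚ) |> (by simpa using ·), by simp [hz]⟩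
  have h1 : ((σ ⟨z, hzA⟩ : algebraicClosure ℚ ℂ) : ℂ) = f₀ z :=
    AlgHom.restrictNormal_commutes f₀.toRatAlgHom (algebraicClosure ℚ ℂ) ⟨z, hzA⟩
  rw [hf ⟨z, hzA⟩, ← hf₀ z hz]
  exact h1

end Cfsg.Agent.CharInt
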