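import Cfsg.Agent.Lib.Char.Brauer
import Cfsg.Agent.Lib.Char.Generalized
import Cfsg.Agent.Lib.CharInt.Basic
import Cfsg.Agent.Lib.Involution.BrauerFowler
import Cfsg.Agent.S4212

/-!
# The Brauer–Suzuki transfer theorem for Hall subgroups
-/

set_option linter.unusedSectionVars false
set_option linter.style.haveILetI false

namespace Cfsg.Agent.CharInt.HallTransfer

open Cfsg
open scoped ComplexConjugate

universe u

variable {G : Type u} [Group G] [Finite G] (H : Subgroup G)

/-- The exponent projecting to the part of order dividing `|H|`. -/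
theorem exists_exponent (hHall : Nat.Coprime (Nat.card H) H.index) :
    ∃ s : ℕ, (∀ g : G, (g ^ s) ^ Nat.card H = 1) ∧ (∀ g : G, g ^ Nat.card H = 1 → g ^ s = g) ∧
      (∀ g : G, g ^ s = 1 → g ^ H.index = 1) ∧ (∀ g : G, g ^ H.index = 1 → g ^ s = 1) ∧
      ∀ g x : G, g ^ s = x → g ^ H.index = x ^ H.index := by
  set a := Nat.card H with ha
  set b := H.index with hb
  have hab : a * b = Nat.card G := Subgroup.card_mul_index H
  obtain ⟨u, hu⟩ : ∃ u, b * u ≡ 1 [MOD a] :=
    let ⟨u, hu⟩ := Nat.exists_mul_mod_eq_of_coprime 1 hHall.symm (Nat.card_pos.ne'); ⟨u, hu.2⟩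
  have hG : ∀ g : G, g ^ (a * b) = 1 := fun g => by rw [hab]; exact pow_card_eq_one'
  have hcong : ∀ g x : G, g ^ (b * u) = x → g ^ b = x ^ b := by
    intro g x hx
    rw [← hx, ← pow_mul, pow_eq_pow_iff_modEq]
    have h1 : b * 1 ≡ b * (b * u) [MOD b * a] := Nat.ModEq.mul_left' b hu.symm
    rw [mul_one, mul_comm b (b * u)] at h1
    exact h1.of_dvd (by rw [mul_comm]; exact orderOf_dvd_of_pow_eq_one (hG g))
  refine ⟨b * u, fun g => ?_, fun g hg => ?_, fun g hg => ?_, fun g hg => ?_, hcong⟩
  · rw [← pow_mul, show b * u * a = a * b * u by ring, pow_mul, hG, one_pow]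
  · calc g ^ (b * u) = g ^ 1 :=
        pow_eq_pow_iff_modEq.2 (hu.of_dvd (orderOf_dvd_of_pow_eq_one hg))
      _ = g := pow_one g
  · rw [hcong g 1 hg, one_pow]
  · rw [pow_mul, hg, one_pow]

section

variable (hHall : Nat.Coprime (Nat.card H) H.index)
  (hfus : ∀ x ∈ H, ∀ y ∈ H, IsConj x y → ∃ h ∈ H, h * x * h⁻¹ = y)
  (helem : ∀ (E : Subgroup G) (p : ℕ), p.Prime → Cfsg.IsElementary p E →
    Nat.card E ∣ Nat.card H → ∃ g : G, E.map (MulAut.conj g).toMonoidHom ≤ H)

include hHall in
theorem card_dvd_of_forall_pow (L : Subgroup G) (hL : ∀ x ∈ L, x ^ Nat.card H = 1) :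
    Nat.card L ∣ Nat.card H := by
  have hcop : Nat.Coprime (Nat.card L) H.index := by
    refine Nat.coprime_of_dvd fun q hq hqL hqb => ?_
    haveI := Fact.mk hq
    obtain ⟨x, hx⟩ := exists_prime_orderOf_dvd_card' (G := L) q hqL
    have hq' : q ∣ Nat.card H := by
      rw [← hx, ← Subgroup.orderOf_coe]
      exact orderOf_dvd_of_pow_eq_one (hL x x.2)
    exact Nat.not_coprime_of_dvd_of_dvd hq.one_lt hq' hqb hHall
  refine hcop.dvd_of_dvd_mul_right ?_
  rw [Subgroup.card_mul_index]
  exact L.card_subgroup_dvd_card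

include helem in
theorem exists_conj_mem {x : G} (hx : x ^ Nat.card H = 1) : ∃ g : G, g * x * g⁻¹ ∈ H := by
  obtain ⟨p, hp, hpprime⟩ := Nat.exists_infinite_primes (Nat.card G + 1)
  have hdvd : Nat.card (Subgroup.zpowers x) ∣ Nat.card H := by
    rw [Nat.card_zpowers]; exact orderOf_dvd_of_pow_eq_one hx
  have hel : Cfsg.IsElementary p (Subgroup.zpowers x) := by
    refine ⟨⟨x, Subgroup.mem_zpowers x⟩, Subgroup.mem_center_iff.2 fun y => ?_, ?_, 0, ?_⟩
    · obtain ⟨_, k, rfl⟩ := y
      exact Subtype.ext (Commute.self_zpow x k).symm.eq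
    · rw [Subgroup.orderOf_mk]
      refine ((Nat.Prime.coprime_iff_not_dvd hpprime).2 fun h => ?_).symm
      have := Nat.le_of_dvd Nat.card_pos (h.trans (orderOf_dvd_natCard x))
      omega
    · rw [pow_zero, Subgroup.index_eq_one, eq_top_iff]
      rintro ⟨_, k, rfl⟩ -
      exact ⟨k, Subtype.ext (by simp)⟩
  obtain ⟨g, hg⟩ := helem _ p hpprime hel hdvd
  exact ⟨g, by simpa using hg (Subgroup.mem_map_of_mem _ (Subgroup.mem_zpowers x))⟩

include hHall hfus helem in
/-- The centralizer in `H` of an element of `H` is a Hall subgroup of its centralizer in `G`. -/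
theorem card_centralizer_dvd (h : H) :
    Nat.card (Subgroup.centralizer ({(h : G)} : Set G)) ∣
      Nat.card (Subgroup.centralizer ({h} : Set H)) * H.index := by
  set C := Subgroup.centralizer ({(h : G)} : Set G) with hC
  rw [Nat.dvd_iff_prime_pow_dvd_dvd]
  intro q j hq hqj
  have hqG : q ^ j ∣ Nat.card H * H.index := by
    rw [Subgroup.card_mul_index]; exact hqj.trans C.card_subgroup_dvd_card
  by_cases hqa : q ∣ Nat.card H
  swap
  · exact dvd_mul_of_dvd_right
      (((Nat.Prime.coprime_iff_not_dvd hq).2 hqa).pow_left j |>.dvd_of_dvd_mul_left hqG) _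
  refine dvd_mul_of_dvd_left ?_ _
  haveI := Fact.mk hq
  obtain ⟨P, hPcard⟩ := Sylow.exists_subgroup_card_pow_prime q hqj
  set R : Subgroup G := P.map C.subtype with hR
  have hRC : R ≤ C := Subgroup.map_subtype_le P
  have hRcard : Nat.card R = q ^ j := by
    rw [hR, Subgroup.card_map_of_injective C.subtype_injective, hPcard]
  -- split `h` into its `q'`-part `x` and its `q`-part `w`
  obtain ⟨e, r, hr, hord⟩ :=
    Nat.exists_eq_pow_mul_and_not_dvd (orderOf_pos (h : G)).ne' q hq.ne_one
  set x := (h : G) ^ (q ^ e) with hx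
  set w := (h : G) ^ r with hw
  have hxo : orderOf x = r := by
    rw [hx, orderOf_pow, hord, Nat.gcd_mul_right_left,
      Nat.mul_div_cancel_left _ (pow_pos hq.pos e)]
  have hwo : orderOf w = q ^ e := by
    have hrpos : 0 < r := Nat.pos_of_ne_zero fun h0 => hr (h0 ▸ dvd_zero q)
    rw [hw, orderOf_pow, hord, Nat.gcd_mul_left_left, Nat.mul_div_cancel _ hrpos]
  have hwC : Subgroup.zpowers w ≤ C := by
    rw [Subgroup.zpowers_le, hC, Subgroup.mem_centralizer_singleton_iff]
    exact (Commute.self_pow (h : G) r).symm.eq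
  have hxC : Subgroup.zpowers x ≤ C := by
    rw [Subgroup.zpowers_le, hC, Subgroup.mem_centralizer_singleton_iff]
    exact (Commute.self_pow (h : G) (q ^ e)).symm.eq
  have hcentral : ∀ k : ℕ, ∀ c ∈ C, Commute ((h : G) ^ k) c := fun k c hc =>
    (show Commute (h : G) c from (Subgroup.mem_centralizer_singleton_iff.1 hc).symm).pow_left k
  have hRw : IsPGroup q (R ⊔ Subgroup.zpowers w : Subgroup G) := by
    refine IsPGroup.to_sup_of_normal_right' (IsPGroup.of_card (n := j) hRcard)
      (IsPGroup.of_card (n := e) (by rw [Nat.card_zpowers, hwo])) (hRC.trans ?_)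
    intro c hc
    refine Subgroup.centralizer_le_normalizer _ (Subgroup.mem_centralizer_iff.2 ?_)
    rintro _ ⟨k, rfl⟩
    exact ((hcentral r c hc).zpow_left k).eq
  set E := Subgroup.zpowers x ⊔ (R ⊔ Subgroup.zpowers w) with hE
  have hEC : E ≤ C := sup_le hxC (sup_le hRC hwC)
  have hxE : x ∈ E := Subgroup.mem_sup_left (Subgroup.mem_zpowers x)
  have hxcent : (⟨x, hxE⟩ : E) ∈ Subgroup.center E :=
    Subgroup.mem_center_iff.2 fun y => Subtype.ext ((hcentral _ _ (hEC y.2)).symm.eq)
  set K := Subgroup.zpowers (⟨x, hxE⟩ : E) with hK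
  haveI : K.Normal := ⟨fun a ha g => by
    have hac := Subgroup.zpowers_le.2 hxcent ha
    rwa [Subgroup.mem_center_iff.1 hac g, mul_inv_cancel_right]⟩
  obtain ⟨i, hi⟩ : ∃ i, K.index = q ^ i := by
    have hsurj : Function.Surjective ((QuotientGroup.mk' K).comp
        (Subgroup.inclusion (le_sup_right : R ⊔ Subgroup.zpowers w ≤ E))) := by
      rw [← MonoidHom.range_eq_top, eq_top_iff]
      rintro z -
      obtain ⟨⟨y, hy⟩, rfl⟩ := QuotientGroup.mk'_surjective K z
      have hle : E ≤ ((((QuotientGroup.mk' K).comp (Subgroup.inclusion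
          (le_sup_right : R ⊔ Subgroup.zpowers w ≤ E))).range.comap
            (QuotientGroup.mk' K))).map E.subtype := by
        refine sup_le (Subgroup.zpowers_le.2 ⟨⟨x, hxE⟩, ?_, rfl⟩) fun t ht => ?_
        · refine ⟨1, ?_⟩
          rw [map_one, eq_comm, QuotientGroup.mk'_apply, QuotientGroup.eq_one_iff]
          exact Subgroup.mem_zpowers _
        · exact ⟨⟨t, Subgroup.mem_sup_right ht⟩, ⟨⟨t, ht⟩, rfl⟩, rfl⟩
      obtain ⟨⟨y', hy'⟩, hmem, rfl⟩ := hle hy
      exact hmem
    exact (hRw.of_surjective _ hsurj).exists_card_eq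
  have hel : Cfsg.IsElementary q E :=
    ⟨⟨x, hxE⟩, hxcent, by
      rw [Subgroup.orderOf_mk, hxo]
      exact ((Nat.Prime.coprime_iff_not_dvd hq).2 hr).symm, i, hi⟩
  have hEa : Nat.card E ∣ Nat.card H := by
    have hcardE : Nat.card E = q ^ i * r := by
      rw [← hi, ← hxo, ← Subgroup.orderOf_mk x hxE, ← Nat.card_zpowers, mul_comm]
      exact (Subgroup.card_mul_index K).symm
    have hra : r ∣ Nat.card H := by
      have h1 : orderOf (h : G) ∣ Nat.card H := by
        rw [Subgroup.orderOf_coe]; exact orderOf_dvd_natCard h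
      exact (Dvd.intro_left _ hord.symm).trans h1
    have hcop : Nat.Coprime (Nat.card E) H.index := by
      rw [hcardE]
      exact ((Nat.Coprime.coprime_dvd_left hqa hHall).pow_left i).mul_left
        (Nat.Coprime.coprime_dvd_left hra hHall)
    refine hcop.dvd_of_dvd_mul_right ?_
    rw [Subgroup.card_mul_index]
    exact E.card_subgroup_dvd_card
  obtain ⟨g, hg⟩ := helem E q hq hel hEa
  have hhE : (h : G) ∈ E := by
    have hcop : Nat.Coprime (q ^ e) r := ((Nat.Prime.coprime_iff_not_dvd hq).2 hr).pow_left e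
    have h1 : Int.gcd ((q ^ e : ℕ) : ℤ) (r : ℤ) = 1 := hcop
    have h2 := Int.gcd_eq_gcd_ab ((q ^ e : ℕ) : ℤ) (r : ℤ)
    rw [h1] at h2
    have h3 : (h : G) = x ^ Int.gcdA ((q ^ e : ℕ) : ℤ) (r : ℤ) *
        w ^ Int.gcdB ((q ^ e : ℕ) : ℤ) (r : ℤ) := by
      rw [hx, hw, ← zpow_natCast, ← zpow_natCast, ← zpow_mul, ← zpow_mul, ← zpow_add]
      exact (zpow_one _).symm.trans (congrArg _ h2)
    rw [h3]
    exact mul_mem (zpow_mem hxE _)
      (zpow_mem (Subgroup.mem_sup_right (Subgroup.mem_sup_right (Subgroup.mem_zpowers w))) _)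
  have hconjH : ∀ y ∈ E, g * y * g⁻¹ ∈ H := fun y hy => by
    simpa using hg (Subgroup.mem_map_of_mem _ hy)
  obtain ⟨k, hk, hkh⟩ :=
    hfus _ (hconjH _ hhE) _ h.2 (isConj_iff.2 ⟨g⁻¹, by group⟩)
  have hmem : ∀ y : R, k * g * (y : G) * (k * g)⁻¹ ∈ H := fun y => by
    have := mul_mem (mul_mem hk (hconjH _ (Subgroup.mem_sup_right (Subgroup.mem_sup_left y.2))))
      (inv_mem hk)
    simpa [mul_assoc] using this
  have hmemC : ∀ y : R, (⟨_, hmem y⟩ : H) ∈ Subgroup.centralizer ({h} : Set H) := by
    intro y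
    refine Subgroup.mem_centralizer_singleton_iff.2 (Subtype.ext ?_)
    have hh : k * g * (h : G) * (k * g)⁻¹ = h := by rw [← mul_assoc] at *; simpa [mul_assoc] using hkh
    have hy : (y : G) * h = h * y := Subgroup.mem_centralizer_singleton_iff.1 (hRC y.2)
    show k * g * (y : G) * (k * g)⁻¹ * h = h * (k * g * (y : G) * (k * g)⁻¹)
    calc k * g * (y : G) * (k * g)⁻¹ * h
        = k * g * (y : G) * (k * g)⁻¹ * (k * g * (h : G) * (k * g)⁻¹) := by rw [hh]
      _ = k * g * ((y : G) * h) * (k * g)⁻¹ := by group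
      _ = k * g * ((h : G) * y) * (k * g)⁻¹ := by rw [hy]
      _ = (k * g * (h : G) * (k * g)⁻¹) * (k * g * (y : G) * (k * g)⁻¹) := by group
      _ = _ := by rw [hh]
  rw [← hRcard]
  refine Subgroup.card_dvd_of_injective (MonoidHom.mk'
    (fun y => (⟨_, hmemC y⟩ : Subgroup.centralizer ({h} : Set H)))
    fun a b => Subtype.ext (Subtype.ext (by simp [mul_assoc]))) fun a b hab => ?_
  have := congrArg (fun z : Subgroup.centralizer ({h} : Set H) => ((z : H) : G)) hab
  exact Subtype.ext (mul_left_cancel (mul_right_cancel this))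

include hfus in
/-- The number of elements conjugating `h` into `H`. -/
theorem card_conj_mem (h : H) :
    Nat.card {t : G // t * h * t⁻¹ ∈ H} * Nat.card (Subgroup.centralizer ({h} : Set H)) =
      Nat.card H * Nat.card (Subgroup.centralizer ({(h : G)} : Set G)) := by
  classical
  set C := Subgroup.centralizer ({(h : G)} : Set G) with hC
  have hex : ∀ y : {y : H // IsConj h y}, ∃ s : H, s * h * s⁻¹ = y.1 := fun y => isConj_iff.1 y.2
  choose s hs using hex
  have hs' : ∀ y, (s y : G) * h * (s y : G)⁻¹ = (y.1 : G) := fun y => by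
    simpa using congrArg Subtype.val (hs y)
  have hcls : ∀ t : {t : G // t * h * t⁻¹ ∈ H}, IsConj h (⟨_, t.2⟩ : H) := fun t => by
    obtain ⟨k, hk, hkh⟩ := hfus _ h.2 _ t.2 (isConj_iff.2 ⟨t, rfl⟩)
    exact isConj_iff.2 ⟨⟨k, hk⟩, Subtype.ext hkh⟩
  let e : {t : G // t * h * t⁻¹ ∈ H} ≃ {y : H // IsConj h y} × C :=
    { toFun := fun t => ⟨⟨_, hcls t⟩, ⟨(s ⟨_, hcls t⟩ : G)⁻¹ * t,
        Subgroup.mem_centralizer_singleton_iff.2 (by
          have := hs' ⟨_, hcls t⟩
          simp only at this
          calc (s ⟨_, hcls t⟩ : G)⁻¹ * t * h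
              = (s ⟨_, hcls t⟩ : G)⁻¹ * ((t : G) * h * (t : G)⁻¹) * t := by group
            _ = (s ⟨_, hcls t⟩ : G)⁻¹ *
                ((s ⟨_, hcls t⟩ : G) * h * (s ⟨_, hcls t⟩ : G)⁻¹) * t := by rw [this]
            _ = _ := by group)⟩⟩
      invFun := fun p => ⟨(s p.1 : G) * p.2, by
        have hc : (p.2 : G) * h * (p.2 : G)⁻¹ = h :=
          mul_inv_eq_iff_eq_mul.2 (Subgroup.mem_centralizer_singleton_iff.1 p.2.2)
        rw [show (s p.1 : G) * p.2 * h * ((s p.1 : G) * p.2)⁻¹ =
          (s p.1 : G) * ((p.2 : G) * h * (p.2 : G)⁻¹) * (s p.1 : G)⁻¹ by group, hc, hs']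
        exact p.1.1.2⟩
      left_inv := fun t => Subtype.ext (by simp)
      right_inv := fun p => by
        have hc : (p.2 : G) * h * (p.2 : G)⁻¹ = h :=
          mul_inv_eq_iff_eq_mul.2 (Subgroup.mem_centralizer_singleton_iff.1 p.2.2)
        have hy : ∀ h1, (⟨(⟨(s p.1 : G) * p.2 * h * ((s p.1 : G) * p.2)⁻¹, h1⟩ : H),
            hcls ⟨_, h1⟩⟩ : {y : H // IsConj h y}) = p.1 := fun h1 => by
          refine Subtype.ext (Subtype.ext ?_)
          show (s p.1 : G) * p.2 * h * ((s p.1 : G) * p.2)⁻¹ = _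
          rw [show (s p.1 : G) * p.2 * h * ((s p.1 : G) * p.2)⁻¹ =
            (s p.1 : G) * ((p.2 : G) * h * (p.2 : G)⁻¹) * (s p.1 : G)⁻¹ by group, hc, hs']
        refine Prod.ext (hy _) (Subtype.ext ?_)
        simp only
        rw [hy, inv_mul_cancel_left] }
  rw [Nat.card_congr e, Nat.card_prod, Involution.card_conjugates, mul_right_comm,
    Subgroup.index_mul_card]

end

/-- The Brauer–Suzuki transfer theorem. -/
theorem exists_normal_complement (hHall : Nat.Coprime (Nat.card H) H.index)
    (hfus : ∀ x ∈ H, ∀ y ∈ H, IsConj x y → ∃ h ∈ H, h * x * h⁻¹ = y)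
    (helem : ∀ (E : Subgroup G) (p : ℕ), p.Prime → Cfsg.IsElementary p E →
      Nat.card E ∣ Nat.card H → ∃ g : G, E.map (MulAut.conj g).toMonoidHom ≤ H) :
    ∃ K : Subgroup G, K.Normal ∧ K ⊔ H = ⊤ ∧ K ⊓ H = ⊥ := by
  classical
  haveI := Fintype.ofFinite G
  haveI : Fintype H := Fintype.ofFinite H
  obtain ⟨s, hsa, hsfix, hsb1, hsb2, hscong⟩ := exists_exponent H hHall
  choose c hc using fun g : G => exists_conj_mem H helem (hsa g)
  let π : G → H := fun g => ⟨_, hc g⟩
  let ext : (H → ℂ) → (G → ℂ) := fun θ g => θ (π g)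
  have hext : ∀ {θ : H → ℂ}, IsClassFunction H θ → ∀ (g t : G) (ht : t * g ^ s * t⁻¹ ∈ H),
      ext θ g = θ ⟨_, ht⟩ := by
    intro θ hθ g t ht
    obtain ⟨k, hk, hk'⟩ := hfus _ (hc g) _ ht (isConj_iff.2 ⟨t * (c g)⁻¹, by group⟩)
    have := hθ (π g) ⟨k, hk⟩
    rw [show (⟨t * g ^ s * t⁻¹, ht⟩ : H) = ⟨k, hk⟩ * π g * ⟨k, hk⟩⁻¹ from Subtype.ext hk'.symm]
    exact this.symm
  -- the number of `|H|'`-parts over a given element
  let N : G → ℕ := fun x => (Finset.univ.filter fun g : G => g ^ s = x).card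
  have hNconj : ∀ x t : G, N (t * x * t⁻¹) = N x := by
    intro x t
    refine (Finset.card_equiv (MulAut.conj t).toEquiv fun g => ?_).symm
    simp [conj_pow]
  let w : H → ℕ := fun h => Nat.card {t : G // t * h * t⁻¹ ∈ H}
  have hwpos : ∀ h, 0 < w h := fun h => by
    haveI : Nonempty {t : G // t * h * t⁻¹ ∈ H} := ⟨⟨1, by simpa using h.2⟩⟩
    exact Nat.card_pos
  have hwconj : ∀ (h : G) (hh : h ∈ H) (t : G) (ht : t * h * t⁻¹ ∈ H),
      w ⟨_, ht⟩ = w ⟨h, hh⟩ := fun h hh t ht => by
    refine Nat.card_congr ((Equiv.mulRight t).subtypeEquiv fun x => ?_)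
    simp [mul_assoc]
  -- the main counting identity
  have hsum : ∀ ψ : H → ℂ, IsClassFunction H ψ →
      ∑ g, ext ψ g = (Nat.card G : ℂ) * ∑ h : H, (N h : ℂ) * ψ h / (w h : ℂ) := by
    intro ψ hψ
    have h1 : ∀ g : G, ext ψ g = ∑ t : G, if ht : t * g ^ s * t⁻¹ ∈ H then
        ψ ⟨_, ht⟩ / (w ⟨_, ht⟩ : ℂ) else 0 := by
      intro g
      have h2 : ∀ t, (if ht : t * g ^ s * t⁻¹ ∈ H then ψ ⟨_, ht⟩ / (w ⟨_, ht⟩ : ℂ) else 0) =
          if t * g ^ s * t⁻¹ ∈ H then ext ψ g / (w (π g) : ℂ) else 0 := by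
        intro t
        split_ifs with ht
        · rw [hext hψ g t ht]
          have h3 := hwconj _ (hc g) (t * (c g)⁻¹) (by simpa [mul_assoc] using ht)
          simp only [show t * (c g)⁻¹ * (c g * g ^ s * (c g)⁻¹) * (t * (c g)⁻¹)⁻¹ =
            t * g ^ s * t⁻¹ by group] at h3
          rw [h3]
        · rfl
      rw [Finset.sum_congr rfl fun t _ => h2 t, ← Finset.sum_filter, Finset.sum_const,
        nsmul_eq_mul]
      have h4 : (Finset.univ.filter fun t : G => t * g ^ s * t⁻¹ ∈ H).card = w (π g) := by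
        show _ = Nat.card {t : G // t * (c g * g ^ s * (c g)⁻¹) * t⁻¹ ∈ H}
        rw [Nat.card_eq_fintype_card, Fintype.card_subtype]
        refine Finset.card_equiv (Equiv.mulRight (c g)⁻¹) fun t => ?_
        simp [mul_assoc]
      rw [h4]
      field_simp [Nat.cast_ne_zero.2 (hwpos (π g)).ne']
    have h5 : ∀ t : G, (∑ g : G, if ht : t * g ^ s * t⁻¹ ∈ H then
        ψ ⟨_, ht⟩ / (w ⟨_, ht⟩ : ℂ) else 0) = ∑ h : H, (N h : ℂ) * ψ h / (w h : ℂ) := by
      intro t
      have h6 : ∀ g : G, (if ht : t * g ^ s * t⁻¹ ∈ H then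
          ψ ⟨_, ht⟩ / (w ⟨_, ht⟩ : ℂ) else 0) =
          ∑ h : H, if t * g ^ s * t⁻¹ = h then ψ h / (w h : ℂ) else 0 := by
        intro g
        split_ifs with ht
        · rw [Finset.sum_eq_single (⟨_, ht⟩ : H)]
          · simp
          · intro b _ hb
            rw [if_neg]
            exact fun he => hb (Subtype.ext he.symm)
          · simp
        · rw [Finset.sum_eq_zero]
          intro b _
          rw [if_neg]
          exact fun he => ht (he ▸ b.2)
      rw [Finset.sum_congr rfl fun g _ => h6 g, Finset.sum_comm]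
      refine Finset.sum_congr rfl fun h _ => ?_
      rw [← Finset.sum_filter, Finset.sum_const, nsmul_eq_mul, ← mul_div_assoc]
      congr 3
      rw [← hNconj (h : G) t⁻¹]
      refine congrArg Finset.card (Finset.filter_congr fun g _ => ?_)
      constructor
      · intro he; rw [← he]; group
      · intro he; rw [he]; group
    rw [Finset.sum_congr rfl fun g _ => h1 g, Finset.sum_comm,
      Finset.sum_congr rfl fun t _ => h5 t, Finset.sum_const, Finset.card_univ, nsmul_eq_mul,
      Nat.card_eq_fintype_card]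
  -- `|H| N h` is at least `w h`
  have hlow : ∀ h : H, w h ≤ Nat.card H * N h := by
    intro h
    set C := Subgroup.centralizer ({(h : G)} : Set G) with hC
    set cH := Nat.card (Subgroup.centralizer ({h} : Set H)) with hcH
    have hw := card_conj_mem H hfus h
    have hd := card_centralizer_dvd H hHall hfus helem h
    have hN : N h = Nat.card {y : C // IsConj 1 (y ^ H.index)} := by
      have h7 : N h = Nat.card {g : G // g ^ s = h} := by
        rw [Nat.card_eq_fintype_card, Fintype.card_subtype]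
      rw [h7]
      have hha : (h : G) ^ Nat.card H = 1 := by
        exact_mod_cast congrArg Subtype.val (pow_card_eq_one' (x := h))
      have hcomm : ∀ g : G, g ^ s = h → Commute g (h : G) := fun g hg => hg ▸ Commute.self_pow g s
      refine Nat.card_congr
        { toFun := fun g => ⟨⟨g.1 * (h : G)⁻¹, Subgroup.mem_centralizer_singleton_iff.2
            (((hcomm _ g.2).mul_left ((Commute.refl _).inv_left)).eq)⟩, ?_⟩
          invFun := fun y => ⟨(y.1 : G) * h, ?_⟩
          left_inv := fun g => Subtype.ext (by simp)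
          right_inv := fun y => Subtype.ext (Subtype.ext (by simp)) }
      · rw [isConj_one_right]
        refine Subtype.ext ?_
        show (g.1 * (h : G)⁻¹) ^ H.index = 1
        rw [(hcomm _ g.2).inv_right.mul_pow, hscong _ _ g.2, inv_pow, mul_inv_cancel]
      · have hy := congrArg (fun z : C => (z : G)) (isConj_one_right.1 y.2)
        simp only [SubgroupClass.coe_pow, OneMemClass.coe_one] at hy
        have hyc : Commute (y.1 : G) h := Subgroup.mem_centralizer_singleton_iff.1 y.1.2
        rw [hyc.mul_pow, hsb2 _ hy, hsfix _ hha, one_mul]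
    have hfr := S4212.frobenius_class (1 : C) H.index
    have hone : Nat.card {y : C // IsConj (1 : C) y} = 1 := by
      rw [Nat.card_eq_one_iff_unique]
      exact ⟨⟨fun a b => Subtype.ext ((isConj_one_right.1 a.2).trans (isConj_one_right.1 b.2).symm)⟩,
        ⟨⟨1, IsConj.refl 1⟩⟩⟩
    rw [hone, one_mul] at hfr
    rw [← hN] at hfr
    -- `k = |C| / |C_H h|` divides `N h`
    obtain ⟨k, hk⟩ : cH ∣ Nat.card C := by
      refine Subgroup.card_dvd_of_injective (MonoidHom.mk'
        (fun y : Subgroup.centralizer ({h} : Set H) => (⟨((y : H) : G),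
          Subgroup.mem_centralizer_singleton_iff.2
            (congrArg Subtype.val (Subgroup.mem_centralizer_singleton_iff.1 y.2))⟩ : C))
        fun a b => rfl) fun a b hab => Subtype.ext (Subtype.ext (congrArg (fun z : C => (z : G)) hab))
    have hkb : k ∣ H.index := by
      rw [hk] at hd
      exact Nat.dvd_of_mul_dvd_mul_left Nat.card_pos hd
    have hkN : k ∣ N h := (Nat.dvd_gcd hkb ⟨cH, by rw [hk, mul_comm]⟩).trans hfr
    have hwk : w h = Nat.card H * k := by
      refine Nat.eq_of_mul_eq_mul_right (Nat.card_pos : 0 < cH) ?_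
      rw [hw, hk]; ring
    have hNpos : 0 < N h := by
      refine Finset.card_pos.2 ⟨(h : G), Finset.mem_filter.2 ⟨Finset.mem_univ _, hsfix _ ?_⟩⟩
      exact_mod_cast congrArg Subtype.val (pow_card_eq_one' (x := h))
    rw [hwk]
    exact Nat.mul_le_mul_left _ (Nat.le_of_dvd hNpos hkN)
  have hmone : ∀ h : H, (N h : ℂ) / (w h : ℂ) = (Nat.card H : ℂ)⁻¹ := by
    have h1 := hsum (fun _ => 1) (fun _ _ => rfl)
    simp only [ext, Finset.sum_const, Finset.card_univ, nsmul_eq_mul, mul_one,
      ← Nat.card_eq_fintype_card] at h1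
    have hG0 : (Nat.card G : ℂ) ≠ 0 := Nat.cast_ne_zero.2 Nat.card_pos.ne'
    have h2 : ∑ h : H, (N h : ℂ) / (w h : ℂ) = 1 :=
      mul_left_cancel₀ hG0 (by rw [← h1, mul_one])
    have hH0 : (0 : ℝ) < Nat.card H := Nat.cast_pos.2 Nat.card_pos
    have hge : ∀ h : H, (Nat.card H : ℝ)⁻¹ ≤ (N h : ℝ) / (w h : ℝ) := fun h => by
      rw [le_div_iff₀ (Nat.cast_pos.2 (hwpos h)), inv_mul_le_iff₀ hH0]
      exact_mod_cast hlow h
    have h2' : ∑ h : H, (N h : ℝ) / (w h : ℝ) = ∑ _h : H, (Nat.card H : ℝ)⁻¹ := by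
      rw [Finset.sum_const, Finset.card_univ, nsmul_eq_mul, ← Nat.card_eq_fintype_card,
        mul_inv_cancel₀ hH0.ne']
      have := congrArg Complex.re h2
      simpa [Complex.re_sum, ← Complex.ofReal_natCast, ← Complex.ofReal_div] using this
    intro h
    have := (Finset.sum_eq_sum_iff_of_le fun h _ => hge h).1 h2'.symm h (Finset.mem_univ h)
    have h3 := congrArg (fun r : ℝ => (r : ℂ)) this
    push_cast at h3
    exact h3.symm
  -- extensions of irreducible characters are irreducible
  have hirr : ∀ θ : IrrCharacter H, ∃ χ : IrrCharacter G, χ.1 = ext θ.1 := by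
    intro θ
    have hθc := CharInt.isClassFunction_of_isCharacter (isCharacter_of_isIrr θ.2)
    have hgen : IsGeneralizedCharacter G (ext θ.1) := by
      refine Char.isGeneralizedCharacter_of_elementary ?_ ?_
      · intro g t
        have h : (c g * t⁻¹) * (t * g * t⁻¹) ^ s * (c g * t⁻¹)⁻¹ = c g * g ^ s * (c g)⁻¹ := by
          rw [conj_pow]; group
        rw [hext hθc (t * g * t⁻¹) (c g * t⁻¹) (h ▸ hc g)]
        exact congrArg θ.1 (Subtype.ext h)
      · intro E p hp hE
        haveI := Fact.mk hp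
        obtain ⟨x, hx, hxp, i, hi⟩ := hE
        have hmul : ∀ e f : E, ((e * f : E) : G) ^ s = (e : G) ^ s * (f : G) ^ s := by
          set Z := Subgroup.zpowers x with hZ
          obtain ⟨P⟩ : Nonempty (Sylow p E) := inferInstance
          have hcop : Nat.Coprime (Nat.card Z) p := by rwa [Nat.card_zpowers]
          have hPcard : Nat.card P = p ^ i := by
            rw [P.card_eq_multiplicity]
            congr 1
            rw [← Subgroup.card_mul_index Z, hi, Nat.factorization_mul Nat.card_pos.ne'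
              (pow_ne_zero _ hp.ne_zero), Finsupp.add_apply,
              Nat.factorization_eq_zero_of_not_dvd ((Nat.Prime.coprime_iff_not_dvd hp).1 hcop.symm),
              hp.factorization_pow, Finsupp.single_eq_same, zero_add]
          have hcompl : Subgroup.IsComplement' Z (P : Subgroup E) :=
            Subgroup.isComplement'_of_coprime
              (by rw [hPcard, ← hi, Subgroup.card_mul_index])
              (by rw [hPcard]; exact hcop.pow_right i)
          have hcomm : ∀ z ∈ Z, ∀ y : E, Commute z y := fun z hz y =>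
            (Subgroup.mem_center_iff.1 (Subgroup.zpowers_le.2 hx hz) y).symm
          have hPs : ∀ u ∈ (P : Subgroup E), ∀ v ∈ (P : Subgroup E),
              (u * v) ^ s = u ^ s * v ^ s := by
            intro u hu v hv
            have hpow : ∀ u ∈ (P : Subgroup E), (u : G) ^ (p ^ i) = 1 := fun u hu => by
              have := congrArg (fun z : (P : Subgroup E) => ((z : E) : G))
                (pow_card_eq_one' (x := (⟨u, hu⟩ : (P : Subgroup E))))
              simp only [SubgroupClass.coe_pow, OneMemClass.coe_one] at this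
              rwa [hPcard] at this
            by_cases hpa : p ∣ H.index
            · have hzero : ∀ u ∈ (P : Subgroup E), (u : G) ^ s = 1 := fun u hu => by
                refine hsb2 _ (orderOf_dvd_iff_pow_eq_one.1 ?_)
                have h1 : orderOf (u : G) ∣ Nat.card H * H.index := by
                  rw [Subgroup.card_mul_index]; exact orderOf_dvd_natCard _
                refine (Nat.Coprime.coprime_dvd_left (orderOf_dvd_of_pow_eq_one (hpow u hu))
                  ?_).dvd_of_dvd_mul_left h1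
                exact (Nat.Coprime.coprime_dvd_right hpa hHall).symm.pow_left i
              refine Subtype.ext ?_
              push_cast
              rw [hzero u hu, hzero v hv, one_mul]
              exact_mod_cast hzero (u * v) (mul_mem hu hv)
            · have hfix : ∀ u ∈ (P : Subgroup E), u ^ s = u := fun u hu => by
                refine Subtype.ext ?_
                push_cast
                refine hsfix _ (orderOf_dvd_iff_pow_eq_one.1 ?_)
                have h1 : orderOf (u : G) ∣ Nat.card H * H.index := by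
                  rw [Subgroup.card_mul_index]; exact orderOf_dvd_natCard _
                refine (Nat.Coprime.coprime_dvd_left (orderOf_dvd_of_pow_eq_one (hpow u hu))
                  ?_).dvd_of_dvd_mul_right h1
                exact ((Nat.Prime.coprime_iff_not_dvd hp).2 hpa).pow_left i
              rw [hfix u hu, hfix v hv, hfix _ (mul_mem hu hv)]
          intro e f
          obtain ⟨⟨⟨a, ha⟩, ⟨u, hu⟩⟩, rfl⟩ := hcompl.2 e
          obtain ⟨⟨⟨b, hb⟩, ⟨v, hv⟩⟩, rfl⟩ := hcompl.2 f
          have key : (a * u * (b * v)) ^ s = (a * u) ^ s * (b * v) ^ s := by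
            rw [show a * u * (b * v) = a * b * (u * v) by
                rw [mul_assoc a u, ← mul_assoc u b v, ← (hcomm b hb u).eq]; group,
              (hcomm _ (mul_mem ha hb) _).mul_pow, (hcomm a ha b).mul_pow, hPs u hu v hv,
              (hcomm a ha u).mul_pow, (hcomm b hb v).mul_pow, mul_assoc (a ^ s),
              ← mul_assoc (b ^ s), ((hcomm b hb u).pow_pow s s).eq]
            group
          exact_mod_cast congrArg Subtype.val key
        let f : E →* G := MonoidHom.mk' (fun e : E => (e : G) ^ s) fun a b => hmul a b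
        have hel := Char.IsElementary.of_surjective hp (⟨x, hx, hxp, i, hi⟩ :
          Cfsg.IsElementary p E) f.rangeRestrict f.rangeRestrict_surjective
        obtain ⟨g, hg⟩ := helem f.range p hp hel (card_dvd_of_forall_pow H hHall _ (by
          rintro _ ⟨e, rfl⟩; exact hsa _))
        have hmem : ∀ e : E, g * (e : G) ^ s * g⁻¹ ∈ H := fun e => by
          have := hg (Subgroup.mem_map_of_mem _ (⟨e, rfl⟩ : f e ∈ f.range))
          simpa [f] using this
        let φ : E →* H := MonoidHom.mk' (fun e => ⟨_, hmem e⟩) fun a b => Subtype.ext (by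
          show g * ((a * b : E) : G) ^ s * g⁻¹ = g * (a : G) ^ s * g⁻¹ * (g * (b : G) ^ s * g⁻¹)
          rw [hmul]; group)
        have heq : (fun e : E => ext θ.1 e) = fun e => θ.1 (φ e) :=
          funext fun e => hext hθc (e : G) g (hmem e)
        rw [heq]
        exact Char.IsCharacter.isGeneralized
          (Char.IsCharacter.comp (isCharacter_of_isIrr θ.2) φ)
    have hnorm : classInner (ext θ.1) (ext θ.1) = 1 := by
      unfold classInner
      have h1 := hsum (fun h => θ.1 h * conj (θ.1 h))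
        (fun g x => by simp only [hθc g x])
      have h2 : ∀ g, ext θ.1 g * conj (ext θ.1 g) = ext (fun h => θ.1 h * conj (θ.1 h)) g :=
        fun g => rfl
      rw [Finset.sum_congr rfl fun g _ => h2 g, h1, ← mul_assoc,
        inv_mul_cancel₀ (Nat.cast_ne_zero.2 Nat.card_pos.ne'), one_mul]
      have h3 := Char.classInner_irr_self θ.2
      unfold classInner at h3
      rw [Finset.mul_sum] at h3
      refine Eq.trans (Finset.sum_congr rfl fun h _ => ?_) h3
      rw [mul_div_right_comm, hmone]
    obtain ⟨χ, hχ | hχ⟩ := Char.IsGeneralizedCharacter.irr_or_neg_of_norm_one hgen hnorm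
    · exact ⟨χ, hχ.symm⟩
    · exfalso
      obtain ⟨d, hd, hd'⟩ := irr_degree_pos θ.2
      obtain ⟨m, hm, hm'⟩ := irr_degree_pos χ.2
      have h1 := congrFun hχ 1
      have hone : ext θ.1 1 = θ.1 1 := by
        rw [hext hθc 1 1 (by simp)]
        exact congrArg θ.1 (Subtype.ext (by simp))
      rw [hone, Pi.neg_apply, hd', hm'] at h1
      have : ((d + m : ℕ) : ℂ) = ((0 : ℕ) : ℂ) := by push_cast; linear_combination h1
      have := Nat.cast_injective this
      omega
  choose χ hχ using hirr
  have hextone : ∀ θ : IrrCharacter H, ext θ.1 1 = θ.1 1 := fun θ => by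
    rw [hext (isClassFunction_of_isCharacter (isCharacter_of_isIrr θ.2)) 1 1 (by simp)]
    exact congrArg θ.1 (Subtype.ext (by simp))
  let K : Subgroup G :=
    ⨅ θ : IrrCharacter H, charKernel (isCharacter_of_isIrr (χ θ).2)
  have hKmem : ∀ g, g ∈ K ↔ g ^ s = 1 := by
    intro g
    simp only [K, Subgroup.mem_iInf, mem_charKernel, hχ, hextone]
    constructor
    · intro h
      have h1 : IsConj (π g) 1 := (Char.isConj_iff_forall_irr _ _).2 h
      have h2 : c g * g ^ s * (c g)⁻¹ = 1 := congrArg Subtype.val (isConj_one_left.1 h1)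
      exact conj_eq_one_iff.1 h2
    · intro hg θ
      rw [hext (isClassFunction_of_isCharacter (isCharacter_of_isIrr θ.2)) g 1 (by simp [hg])]
      exact congrArg θ.1 (Subtype.ext (by simp [hg]))
  have hKn : K.Normal := ⟨fun g hg t => (hKmem _).2 (by
    rw [conj_pow, (hKmem g).1 hg, mul_one, mul_inv_cancel])⟩
  have hdisj : K ⊓ H = ⊥ := by
    rw [eq_bot_iff]
    intro g hg
    have h1 : g ^ Nat.card H = 1 :=
      congrArg Subtype.val (pow_card_eq_one' (x := (⟨g, hg.2⟩ : H)))
    exact (hsfix g h1).symm.trans ((hKmem g).1 hg.1)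
  refine ⟨K, hKn, ?_, hdisj⟩
  have hcardK : Nat.card K = H.index := by
    have hNK : Nat.card K = N ((1 : H) : G) := by
      rw [Nat.card_congr (Equiv.subtypeEquivRight hKmem), Nat.card_eq_fintype_card,
        Fintype.card_subtype]
      rfl
    have hw1 : w 1 = Nat.card G := Nat.card_congr (Equiv.subtypeUnivEquiv fun t => by simp)
    have h := hmone 1
    rw [← hNK, hw1, div_eq_iff (Nat.cast_ne_zero.2 Nat.card_pos.ne'), ← Subgroup.card_mul_index H,
      Nat.cast_mul, ← mul_assoc, inv_mul_cancel₀ (Nat.cast_ne_zero.2 Nat.card_pos.ne'),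
      one_mul] at h
    exact_mod_cast h
  exact (Subgroup.isComplement'_of_coprime (by rw [hcardK, mul_comm, Subgroup.card_mul_index])
    (by rw [hcardK]; exact hHall.symm)).sup_eq_top

end Cfsg.Agent.CharInt.HallTransfer
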