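import Cfsg.Agent.Lib.CharInt.Eigen
import Cfsg.Agent.Lib.CharInt.Basic
import Cfsg.Agent.Lib.Char.PermChar
import Cfsg.Agent.Lib.Char.RealChar
import Cfsg.Agent.Lib.Char.PRegular

/-!
# Orbitals of a transitive group and the constituents of its permutation character
-/

set_option linter.unusedSectionVars false
set_option linter.style.haveILetI false

namespace Cfsg.Agent.CharInt.PermHecke

open Cfsg
open scoped ComplexConjugate
open Module

universe u v

theorem isProj_range {V : Type*} [AddCommGroup V] [Module ℂ V] {P : Module.End ℂ V}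
    (hP : P * P = P) : LinearMap.IsProj (LinearMap.range P) P := by
  refine ⟨fun x => LinearMap.mem_range_self P x, ?_⟩
  rintro x ⟨y, rfl⟩
  exact congrArg (fun φ => φ y) hP

theorem eq_zero_of_trace_zero {V : Type*} [AddCommGroup V] [Module ℂ V] [FiniteDimensional ℂ V]
    {P : Module.End ℂ V} (hP : P * P = P) (h : LinearMap.trace ℂ V P = 0) : P = 0 := by
  have h1 := (isProj_range hP).trace
  rw [h] at h1
  exact LinearMap.range_eq_bot.1 (Submodule.finrank_eq_zero.1 (by exact_mod_cast h1.symm))

theorem exists_smul_of_trace_one {V : Type*} [AddCommGroup V] [Module ℂ V] [FiniteDimensional ℂ V]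
    {P : Module.End ℂ V} (hP : P * P = P) (h : LinearMap.trace ℂ V P = 1) (X : Module.End ℂ V) :
    ∃ c : ℂ, P * X * P = c • P := by
  have h1 := (isProj_range hP).trace
  rw [h] at h1
  have h2 : Module.finrank ℂ (LinearMap.range P) = 1 := by exact_mod_cast h1.symm
  obtain ⟨v, hv, hspan⟩ := finrank_eq_one_iff'.1 h2
  obtain ⟨c, hc⟩ := hspan ⟨P (X v.1), LinearMap.mem_range_self _ _⟩
  refine ⟨c, LinearMap.ext fun x => ?_⟩
  obtain ⟨d, hd⟩ := hspan ⟨P x, LinearMap.mem_range_self _ _⟩
  have hc' : c • v.1 = P (X v.1) := congrArg Subtype.val hc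
  have hd' : d • v.1 = P x := congrArg Subtype.val hd
  show P (X (P x)) = c • P x
  rw [← hd', map_smul, map_smul, ← hc', smul_comm]

/-- The trace of an integral endomorphism is an algebraic integer. -/
theorem isIntegral_trace {V : Type*} [AddCommGroup V] [Module ℂ V] [FiniteDimensional ℂ V]
    {f : Module.End ℂ V} {p : Polynomial ℤ} (hp : p.Monic) (hf : Polynomial.aeval f p = 0) :
    IsIntegral ℤ (LinearMap.trace ℂ V f) := by
  rw [Module.End.trace_eq_sum_roots_charpoly_of_splits (IsAlgClosed.splits _)]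
  refine IsIntegral.multiset_sum fun μ hμ => ⟨p, hp, ?_⟩
  have hev : f.HasEigenvalue μ :=
    (Module.End.hasEigenvalue_iff_isRoot_charpoly f μ).2 (Polynomial.isRoot_of_mem_roots hμ)
  obtain ⟨x, hx⟩ := hev.exists_hasEigenvector
  have h1 := Module.End.aeval_apply_of_hasEigenvector (p := p.map (algebraMap ℤ ℂ)) hx
  rw [Polynomial.aeval_map_algebraMap, hf, LinearMap.zero_apply, eq_comm, smul_eq_zero,
    Polynomial.eval_map] at h1
  exact h1.resolve_right hx.2

variable {G : Type u} [Group G] [Fintype G]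

section Proj

variable {V : Type*} [AddCommGroup V] [Module ℂ V] (ρ : Representation ℂ G V) (H : Subgroup G)
  [Fintype H]

/-- The projection onto the fixed points of `H`. -/
noncomputable def proj : Module.End ℂ V := (Nat.card H : ℂ)⁻¹ • ∑ h : H, ρ h

theorem mul_proj {k : G} (hk : k ∈ H) : ρ k * proj ρ H = proj ρ H := by
  rw [proj, mul_smul_comm, Finset.mul_sum]
  congr 1
  exact Fintype.sum_equiv (Equiv.mulLeft (⟨k, hk⟩ : H)) _ _ fun h => by simp

theorem proj_mul_proj : proj ρ H * proj ρ H = proj ρ H := by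
  conv_lhs => arg 1; rw [proj]
  rw [smul_mul_assoc, Finset.sum_mul, Finset.sum_congr rfl fun (h : H) _ => mul_proj ρ H h.2,
    Finset.sum_const, Finset.card_univ, ← Nat.cast_smul_eq_nsmul ℂ, smul_smul,
    ← Nat.card_eq_fintype_card, inv_mul_cancel₀ (Nat.cast_ne_zero.2 Nat.card_pos.ne'), one_smul]

theorem trace_mul_proj (A : Module.End ℂ V) :
    LinearMap.trace ℂ V (A * proj ρ H) =
      (Nat.card H : ℂ)⁻¹ * ∑ h : H, LinearMap.trace ℂ V (A * ρ h) := by
  rw [proj, mul_smul_comm, Finset.mul_sum, map_smul, map_sum, smul_eq_mul]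

theorem trace_proj : LinearMap.trace ℂ V (proj ρ H) =
    (Nat.card H : ℂ)⁻¹ * ∑ h : H, ρ.character h := by
  rw [proj, map_smul, map_sum, smul_eq_mul]
  rfl

theorem isIntegral_trace_sum_mul_proj [FiniteDimensional ℂ V] {ι : Type*} [Fintype ι] (u : ι → G)
    (hinv : ∀ k ∈ H, ρ k * ((∑ i, ρ (u i)) * proj ρ H) = (∑ i, ρ (u i)) * proj ρ H) :
    IsIntegral ℤ (LinearMap.trace ℂ V ((∑ i, ρ (u i)) * proj ρ H)) := by
  classical
  set A := ∑ i, ρ (u i) with hA
  set P := proj ρ H with hP
  have hint : IsIntegral ℤ A := by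
    let φ : MonoidAlgebra ℤ G →ₐ[ℤ] Module.End ℂ V := MonoidAlgebra.lift ℤ (Module.End ℂ V) G ρ
    have hφ : φ (∑ i, MonoidAlgebra.of ℤ G (u i)) = A := by simp [φ, hA, map_sum]
    rw [← hφ]
    exact (IsIntegral.of_finite ℤ _).map φ
  obtain ⟨p, hp, hpA⟩ := hint
  change Polynomial.aeval A p = 0 at hpA
  have hPB : P * (A * P) = A * P := by
    conv_lhs => arg 1; rw [hP, proj]
    rw [smul_mul_assoc, Finset.sum_mul, Finset.sum_congr rfl fun (h : H) _ => hinv h h.2,
      Finset.sum_const, Finset.card_univ, ← Nat.cast_smul_eq_nsmul ℂ, smul_smul,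
      ← Nat.card_eq_fintype_card, inv_mul_cancel₀ (Nat.cast_ne_zero.2 Nat.card_pos.ne'), one_smul]
  have hpow : ∀ k : ℕ, (A * P) ^ (k + 1) = A ^ (k + 1) * P := by
    intro k
    induction k with
    | zero => simp
    | succ k ih => rw [pow_succ, ih, mul_assoc (A ^ (k + 1)), hPB, ← mul_assoc, ← pow_succ]
  have hq : ∀ q : Polynomial ℤ, Polynomial.aeval (A * P) (Polynomial.X * q) =
      A * Polynomial.aeval A q * P := by
    intro q
    induction q using Polynomial.induction_on' with
    | add a b ha hb => simp only [mul_add, map_add, ha, hb, add_mul]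
    | monomial k z =>
      rw [Polynomial.X_mul_monomial, Polynomial.aeval_monomial, Polynomial.aeval_monomial, hpow,
        eq_intCast, ← zsmul_eq_mul, ← zsmul_eq_mul, mul_smul_comm, smul_mul_assoc, ← pow_succ']
  exact isIntegral_trace (Polynomial.monic_X.mul hp) (by rw [hq, hpA, mul_zero, zero_mul])

end Proj

section Orbital

variable {Ω : Type v} [Fintype Ω] [MulAction G Ω] [MulAction.IsPretransitive G Ω]

open MulAction

/-- Summing over pairs in an orbital and group elements. -/
theorem sum_orbital_mul (a b : Ω) [DecidablePred (· ∈ orbit G (a, b))]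
    [DecidablePred (fun g : G => g • a ∈ orbit (stabilizer G a) b)] {F : G → ℂ}
    (hF : IsClassFunction G F) :
    ∑ g : G, ((Finset.univ.filter fun x : Ω => (x, g • x) ∈ orbit G (a, b)).card : ℂ) * F g =
      (Nat.card Ω : ℂ) *
        ∑ g ∈ Finset.univ.filter (fun g : G => g • a ∈ orbit (stabilizer G a) b), F g := by
  classical
  have h1 : ∀ g : G,
      ((Finset.univ.filter fun x : Ω => (x, g • x) ∈ orbit G (a, b)).card : ℂ) * F g =
      ∑ x : Ω, if (x, g • x) ∈ orbit G (a, b) then F g else 0 := fun g => by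
    rw [← Finset.sum_filter, Finset.sum_const, nsmul_eq_mul]
  rw [Finset.sum_congr rfl fun g _ => h1 g, Finset.sum_comm, Nat.card_eq_fintype_card,
    ← Finset.card_univ, ← nsmul_eq_mul, ← Finset.sum_const]
  refine Finset.sum_congr rfl fun x _ => ?_
  obtain ⟨t, rfl⟩ := exists_smul_eq G a x
  rw [← Finset.sum_filter]
  refine Finset.sum_equiv (MulAut.conj t⁻¹).toEquiv (fun g => ?_) fun g _ => ?_
  · simp only [Finset.mem_filter, Finset.mem_univ, true_and, MulEquiv.toEquiv_eq_coe,
      MulEquiv.coe_toEquiv, MulAut.conj_apply, inv_inv]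
    constructor
    · rintro ⟨r, hr⟩
      simp only [Prod.smul_mk, Prod.mk.injEq] at hr
      refine ⟨⟨t⁻¹ * r, mem_stabilizer_iff.2 (by rw [mul_smul, hr.1, inv_smul_smul])⟩, ?_⟩
      show (t⁻¹ * r) • b = (t⁻¹ * g * t) • a
      rw [mul_smul, hr.2, mul_smul, mul_smul]
    · rintro ⟨⟨k, hk⟩, hkb⟩
      have hkb' : k • b = (t⁻¹ * g * t) • a := hkb
      refine ⟨t * k, ?_⟩
      simp only [Prod.smul_mk, Prod.mk.injEq, mul_smul]
      exact ⟨by rw [mem_stabilizer_iff.1 hk], by rw [hkb', mul_smul, mul_smul, smul_inv_smul]⟩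
  · exact (hF g t⁻¹).symm

variable (a : Ω) {ι : Type*} [Fintype ι] (u : ι → G)

/-- Summing over a union of left cosets of a point stabilizer. -/
theorem sum_union_cosets [Fintype (stabilizer G a)] (hu : Function.Injective fun i => u i • a)
    (s : Finset G) (hs : ∀ g, g ∈ s ↔ ∃ i, g • a = u i • a) (F : G → ℂ) :
    ∑ g ∈ s, F g = ∑ i, ∑ h : stabilizer G a, F (u i * h) := by
  classical
  rw [← Fintype.sum_prod_type']
  refine (Finset.sum_bij (fun p _ => u p.1 * (p.2 : G)) (fun p _ => (hs _).2 ⟨p.1, ?_⟩) ?_ ?_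
    fun p _ => rfl).symm
  · rw [mul_smul, mem_stabilizer_iff.1 p.2.2]
  · rintro ⟨i, h⟩ - ⟨j, k⟩ - he
    have he' : u i * (h : G) = u j * (k : G) := he
    have hij : i = j := hu (by
      have := congrArg (· • a) he'
      simpa [mul_smul, mem_stabilizer_iff.1 h.2, mem_stabilizer_iff.1 k.2] using this)
    subst hij
    exact Prod.ext rfl (Subtype.ext (mul_left_cancel he'))
  · intro g hg
    obtain ⟨i, hi⟩ := (hs g).1 hg
    exact ⟨⟨i, ⟨(u i)⁻¹ * g, mem_stabilizer_iff.2 (by rw [mul_smul, hi, inv_smul_smul])⟩⟩,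
      Finset.mem_univ _, mul_inv_cancel_left _ _⟩

theorem classInner_perm_eq_conj_trace [Fintype (stabilizer G a)] {n : ℕ}
    (ρ : Representation ℂ G (Fin n → ℂ)) :
    classInner (fun g : G => (Nat.card (fixedBy Ω g) : ℂ)) ρ.character =
      conj (LinearMap.trace ℂ _ (proj ρ (stabilizer G a))) := by
  classical
  have h1 : ∀ g : G, (Nat.card (fixedBy Ω g) : ℂ) =
      ((Finset.univ.filter fun x : Ω => (x, g • x) ∈ orbit G (a, a)).card : ℂ) := fun g => by
    rw [Nat.card_eq_fintype_card, Fintype.card_subtype]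
    refine congrArg (fun s : Finset Ω => (s.card : ℂ)) (Finset.filter_congr fun x _ => ?_)
    rw [mem_fixedBy]
    constructor
    · intro hx
      obtain ⟨t, rfl⟩ := exists_smul_eq G a x
      exact ⟨t, by simp [Prod.smul_mk, hx]⟩
    · rintro ⟨r, hr⟩
      simp only [Prod.smul_mk, Prod.mk.injEq] at hr
      rw [← hr.2, hr.1]
  have hcard : (Nat.card Ω : ℂ) * (Nat.card (stabilizer G a) : ℂ) = Nat.card G := by
    rw [← index_stabilizer_of_transitive G a, ← Nat.cast_mul, Subgroup.index_mul_card]
  simp only [classInner, h1]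
  rw [sum_orbital_mul a a (fun g x => by rw [ρ.char_conj]),
    sum_union_cosets a (fun _ : Unit => (1 : G)) (fun _ _ _ => rfl) _ (fun g => ?_)]
  · simp only [Finset.univ_unique, Finset.sum_singleton, one_mul, trace_proj, map_mul, map_inv₀,
      map_natCast, map_sum]
    have hH0 : (Nat.card (stabilizer G a) : ℂ) ≠ 0 := Nat.cast_ne_zero.2 Nat.card_pos.ne'
    have hG0 : (Nat.card G : ℂ) ≠ 0 := Nat.cast_ne_zero.2 Nat.card_pos.ne'
    field_simp
    rw [← hcard]
    ring
  · simp only [Finset.mem_filter, Finset.mem_univ, true_and, one_smul, exists_const]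
    constructor
    · rintro ⟨k, hk⟩
      exact hk.symm.trans (mem_stabilizer_iff.1 k.2)
    · intro hg
      exact ⟨1, by simp [hg]⟩

end Orbital

/-- A common divisor of the degrees of the non-principal constituents divides the subdegrees. -/
theorem dvd_subdegree {Ω : Type v} [Fintype Ω] [MulAction G Ω] [MulAction.IsPretransitive G Ω]
    (f : ℕ) (hf : ∀ χ : G → ℂ, IsIrrCharacter G χ → χ ≠ (fun _ => 1) →
      classInner (fun g : G => (Nat.card (MulAction.fixedBy Ω g) : ℂ)) χ ≠ 0 →
      ∃ m : ℕ, χ 1 = (f : ℂ) * m) (a b : Ω) (hab : b ≠ a) :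
    f ∣ Nat.card (MulAction.orbit (MulAction.stabilizer G a) b) := by
  classical
  set H := MulAction.stabilizer G a with hH
  haveI : Fintype H := Fintype.ofFinite H
  set O := MulAction.orbit H b with hO
  haveI : Fintype O := Fintype.ofFinite O
  choose u hu using fun y : O => MulAction.exists_smul_eq G a (y : Ω)
  have huinj : Function.Injective fun y => u y • a := fun y z h => by
    simp only [hu] at h
    exact Subtype.ext h
  have hs : ∀ g, g ∈ Finset.univ.filter (fun g : G => g • a ∈ O) ↔ ∃ y, g • a = u y • a := by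
    intro g
    simp only [Finset.mem_filter, Finset.mem_univ, true_and, hu]
    exact ⟨fun h => ⟨⟨_, h⟩, rfl⟩, fun ⟨y, hy⟩ => hy ▸ y.2⟩
  have hcard : (Nat.card Ω : ℂ) * (Nat.card H : ℂ) = Nat.card G := by
    rw [← MulAction.index_stabilizer_of_transitive G a, ← Nat.cast_mul, Subgroup.index_mul_card]
  have hH0 : (Nat.card H : ℂ) ≠ 0 := Nat.cast_ne_zero.2 Nat.card_pos.ne'
  have hG0 : (Nat.card G : ℂ) ≠ 0 := Nat.cast_ne_zero.2 Nat.card_pos.ne'
  let c : G → ℂ := fun g =>
    ((Finset.univ.filter fun x : Ω => (x, g • x) ∈ MulAction.orbit G (a, b)).card : ℂ)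
  have hc1 : c 1 = 0 := by
    simp only [c, Nat.cast_eq_zero, Finset.card_eq_zero, Finset.filter_eq_empty_iff]
    intro x _ hx
    obtain ⟨r, hr⟩ := hx
    simp only [Prod.smul_mk, Prod.mk.injEq, one_smul] at hr
    exact hab (smul_left_cancel r (hr.2.trans hr.1.symm))
  have hcclass : IsClassFunction G c := by
    intro g t
    simp only [c, Nat.cast_inj]
    refine (Finset.card_equiv (MulAction.toPerm t) fun x => ?_).symm
    simp only [Finset.mem_filter, Finset.mem_univ, true_and, MulAction.toPerm_apply, mul_smul,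
      inv_smul_smul]
    have h2 : (t • x, t • g • x) = t • (x, g • x) := rfl
    rw [h2]
    constructor
    · rintro ⟨r, hr⟩
      exact ⟨t * r, by simp only [mul_smul]; exact congrArg (t • ·) hr⟩
    · rintro ⟨r, hr⟩
      exact ⟨t⁻¹ * r, by
        show (t⁻¹ * r) • (a, b) = _
        rw [mul_smul, show r • (a, b) = t • (x, g • x) from hr, inv_smul_smul]⟩
  have hinner : ∀ χ : IrrCharacter G, ∀ (n : ℕ) (ρ : Representation ℂ G (Fin n → ℂ)),
      ρ.character = χ.1 → classInner c χ.1 =
        conj (LinearMap.trace ℂ _ ((∑ y : O, ρ (u y)) * proj ρ H)) := by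
    intro χ n ρ hρ
    simp only [classInner, c]
    rw [sum_orbital_mul a b (fun g x => by rw [← hρ, ρ.char_conj]),
      sum_union_cosets a u huinj _ hs]
    have htr : LinearMap.trace ℂ _ ((∑ y : O, ρ (u y)) * proj ρ H) =
        (Nat.card H : ℂ)⁻¹ * ∑ h : H, ∑ y : O, ρ.character (u y * h) := by
      rw [trace_mul_proj]
      congr 1
      refine Finset.sum_congr rfl fun h _ => ?_
      rw [Finset.sum_mul, map_sum]
      refine Finset.sum_congr rfl fun y _ => ?_
      rw [← map_mul]; rfl
    rw [htr, ← hρ]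
    simp only [map_mul, map_inv₀, map_natCast, map_sum]
    rw [Finset.sum_comm]
    field_simp
    rw [← hcard]
    ring
  have hkey : ∀ χ : IrrCharacter G, χ ≠ Char.trivialChar G →
      ∃ z : ℂ, IsIntegral ℤ z ∧ classInner c χ.1 * χ.1 1 = (f : ℂ) * z := by
    intro χ hne
    obtain ⟨n, ρ, -, hρ⟩ := χ.2
    have hi := hinner χ n ρ hρ
    by_cases hπ : classInner (fun g : G => (Nat.card (MulAction.fixedBy Ω g) : ℂ)) χ.1 = 0
    · refine ⟨0, isIntegral_zero, ?_⟩
      rw [← hρ, classInner_perm_eq_conj_trace a ρ, map_eq_zero] at hπ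
      rw [hi, eq_zero_of_trace_zero (proj_mul_proj ρ H) hπ, mul_zero, map_zero, map_zero,
        zero_mul, mul_zero]
    · obtain ⟨m, hm⟩ := hf χ.1 χ.2 (fun h => hne (Subtype.ext h)) hπ
      have hint : IsIntegral ℤ (LinearMap.trace ℂ _ ((∑ y : O, ρ (u y)) * proj ρ H)) := by
        refine isIntegral_trace_sum_mul_proj ρ H u fun k hk => ?_
        rw [← mul_assoc, Finset.mul_sum, Finset.sum_mul, Finset.sum_mul]
        have hmem : ∀ y : O, k • (y : Ω) ∈ O := fun y => by
          obtain ⟨r, hr⟩ := y.2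
          exact ⟨⟨k, hk⟩ * r, by
            show ((⟨k, hk⟩ : H) * r) • b = _
            rw [mul_smul]; exact congrArg (k • ·) hr⟩
        refine Fintype.sum_bijective (fun y : O => (⟨_, hmem y⟩ : O))
          (Finite.injective_iff_bijective.1 fun y z h =>
            Subtype.ext (smul_left_cancel k (congrArg Subtype.val h))) _ _ fun y => ?_
        set z : O := ⟨_, hmem y⟩ with hz
        have hzH : (u z)⁻¹ * (k * u y) ∈ H := by
          rw [hH, MulAction.mem_stabilizer_iff, mul_smul, mul_smul, hu, inv_smul_eq_iff, hu, hz]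
        conv_rhs => rw [← mul_proj ρ H hzH]
        rw [← mul_assoc, ← map_mul, ← map_mul, mul_inv_cancel_left]
      refine ⟨conj (LinearMap.trace ℂ _ ((∑ y : O, ρ (u y)) * proj ρ H)) * m,
        (hint.map (starRingEnd ℂ).toIntAlgHom).mul (isIntegral_algebraMap (R := ℤ) (x := (m : ℤ))
          |> fun h => by simpa using h), ?_⟩
      rw [hi, hm]; ring
  have htriv : classInner c (Char.trivialChar G).1 = (Nat.card O : ℂ) := by
    simp only [classInner, c]
    rw [sum_orbital_mul a b (fun g x => rfl), sum_union_cosets a u huinj _ hs]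
    simp only [Char.trivialChar_apply, map_one, Finset.sum_const, Finset.card_univ, nsmul_eq_mul,
      mul_one, ← Nat.card_eq_fintype_card]
    field_simp
    rw [← hcard]
    ring
  choose z hzint hz using hkey
  have h0 := congrFun (Char.eq_sum_classInner_smul hcclass) 1
  rw [hc1, Finset.sum_apply, ← Finset.add_sum_erase _ _ (Finset.mem_univ (Char.trivialChar G)),
    ← Finset.sum_attach] at h0
  simp only [Pi.smul_apply, smul_eq_mul, htriv, Char.trivialChar_apply, mul_one] at h0
  rw [Finset.sum_congr rfl (fun (χ : {x // x ∈ Finset.univ.erase (Char.trivialChar G)}) _ =>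
      hz χ.1 (Finset.mem_erase.1 χ.2).1), ← Finset.mul_sum] at h0
  set S := ∑ χ ∈ (Finset.univ.erase (Char.trivialChar G)).attach,
    z χ.1 (Finset.mem_erase.1 χ.2).1 with hS
  have hSint : IsIntegral ℤ S := IsIntegral.sum _ fun χ _ => hzint _ _
  by_cases hf0 : f = 0
  · rw [hf0, Nat.cast_zero, zero_mul, add_zero] at h0
    rw [hf0, show Nat.card O = 0 by exact_mod_cast h0.symm]
  · obtain ⟨w, hw⟩ := Char.exists_int_of_isIntegral_mul (c := (f : ℤ)) (N := -(Nat.card O : ℤ))
      hSint (by exact_mod_cast hf0) (by push_cast; linear_combination -h0)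
    rw [hw] at h0
    refine Int.natCast_dvd_natCast.1 ⟨-w, ?_⟩
    have : ((Nat.card O : ℤ) : ℂ) = (((f : ℤ) * -w : ℤ) : ℂ) := by
      push_cast; linear_combination -h0
    exact_mod_cast this

/-- All suborbits are self-paired iff the permutation character is multiplicity free with real
constituents. -/
theorem selfPaired_iff {Ω : Type v} [Fintype Ω] [MulAction G Ω] [MulAction.IsPretransitive G Ω] :
    (∀ a b : Ω, ∃ g : G, g • a = b ∧ g • b = a) ↔
      ∀ χ : G → ℂ, IsIrrCharacter G χ →
        classInner (fun g : G => (Nat.card (MulAction.fixedBy Ω g) : ℂ)) χ ≠ 0 →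
        classInner (fun g : G => (Nat.card (MulAction.fixedBy Ω g) : ℂ)) χ = 1 ∧
          ∀ g : G, conj (χ g) = χ g := by
  classical
  set π : G → ℂ := fun g => (Nat.card (MulAction.fixedBy Ω g) : ℂ) with hπ
  constructor
  · intro hsw χ hχ hne
    have hchar : IsCharacter G π := Char.isCharacter_fixedBy Ω
    obtain ⟨m, hm, hm'⟩ := Char.IsCharacter.exists_decomp hchar
    have hG0 : (Nat.card G : ℂ) ≠ 0 := Nat.cast_ne_zero.2 Nat.card_pos.ne'
    -- `∑ π (g²) = ∑ π(g)²`
    have hsq : ∑ g : G, π (g * g) = ∑ g : G, π g * π g := by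
      choose t ht1 ht2 using hsw
      have hnat : ∑ g : G, Fintype.card (MulAction.fixedBy Ω (g * g)) =
          ∑ g : G, Fintype.card (MulAction.fixedBy Ω g) * Fintype.card (MulAction.fixedBy Ω g) := by
        simp only [← Nat.card_eq_fintype_card]
        rw [← Nat.card_sigma]
        simp only [← Nat.card_prod]
        rw [← Nat.card_sigma]
        refine Nat.card_congr ?_
        let A := {p : Ω × Ω × G // p.2.2 • p.1 = p.2.1 ∧ p.2.2 • p.2.1 = p.1}
        let B := {p : Ω × Ω × G // p.2.2 • p.1 = p.1 ∧ p.2.2 • p.2.1 = p.2.1}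
        refine (Equiv.trans ?_ ((?_ : A ≃ B).trans ?_))
        · exact
            { toFun := fun p => ⟨(p.2.1, p.1 • p.2.1, p.1), rfl, by
                have : (p.1 * p.1) • (p.2.1 : Ω) = p.2.1 := p.2.2
                rwa [mul_smul] at this⟩
              invFun := fun p => ⟨p.1.2.2, p.1.1, by
                show (p.1.2.2 * p.1.2.2) • p.1.1 = p.1.1
                rw [mul_smul, p.2.1, p.2.2]⟩
              left_inv := fun p => rfl
              right_inv := fun p => by
                obtain ⟨⟨x, y, g⟩, h1, h2⟩ := p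
                simp only at h1
                subst h1
                rfl }
        · exact
            { toFun := fun p => ⟨(p.1.1, p.1.2.1, (t p.1.1 p.1.2.1)⁻¹ * p.1.2.2),
                by rw [mul_smul, p.2.1, inv_smul_eq_iff, ht1],
                by rw [mul_smul, p.2.2, inv_smul_eq_iff, ht2]⟩
              invFun := fun p => ⟨(p.1.1, p.1.2.1, t p.1.1 p.1.2.1 * p.1.2.2),
                by rw [mul_smul, p.2.1, ht1], by rw [mul_smul, p.2.2, ht2]⟩
              left_inv := fun p => Subtype.ext (by simp)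
              right_inv := fun p => Subtype.ext (by simp) }
        · exact
            { toFun := fun p => ⟨p.1.2.2, ⟨p.1.1, p.2.1⟩, ⟨p.1.2.1, p.2.2⟩⟩
              invFun := fun p => ⟨(p.2.1.1, p.2.2.1, p.1), p.2.1.2, p.2.2.2⟩
              left_inv := fun p => rfl
              right_inv := fun p => rfl }
      simp only [hπ, Nat.card_eq_fintype_card]
      exact_mod_cast hnat
    have hν : ∑ ψ : IrrCharacter G, (m ψ : ℂ) * Char.fsIndicator ψ.1 =
        ∑ ψ : IrrCharacter G, ((m ψ : ℂ) * m ψ) := by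
      have h1 : classInner π π = (Nat.card G : ℂ)⁻¹ * ∑ g : G, π g * π g := by
        simp [classInner, hπ]
      rw [Char.classInner_eq_sum (Char.IsCharacter.isClassFunction hchar)] at h1
      have h2 : ∀ ψ : IrrCharacter G, classInner ψ.1 π = (m ψ : ℂ) := fun ψ => by
        rw [← Char.conj_classInner, hm', map_natCast]
      simp only [hm', h2] at h1
      rw [h1, ← hsq]
      simp only [Char.fsIndicator_eq_sum]
      conv_rhs => rw [hm]
      simp only [Finset.sum_apply, Pi.smul_apply, smul_eq_mul]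
      rw [Finset.sum_comm, Finset.mul_sum]
      refine Finset.sum_congr rfl fun ψ _ => ?_
      rw [← Finset.mul_sum]; ring
    have hre : ∀ ψ : IrrCharacter G, ((m ψ : ℝ) * (Char.fsIndicator ψ.1).re) ≤ (m ψ : ℝ) * m ψ := by
      intro ψ
      rcases Nat.eq_zero_or_pos (m ψ) with h0 | h0
      · simp [h0]
      refine mul_le_mul_of_nonneg_left ?_ (by positivity)
      have h1 : (1 : ℝ) ≤ m ψ := by exact_mod_cast h0
      by_cases hr : ∀ g, (ψ.1 g).im = 0
      · rcases Char.fsIndicator_of_real ψ hr with e | e <;> simp [e] <;> linarith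
      · simp [Char.fsIndicator_of_not_real ψ hr]
    have hall := (Finset.sum_eq_sum_iff_of_le fun ψ _ => hre ψ).1 (by
      have := congrArg Complex.re hν
      simpa [Complex.re_sum] using this) ⟨χ, hχ⟩ (Finset.mem_univ _)
    have hmne : m ⟨χ, hχ⟩ ≠ 0 := fun h => hne (by
      have := hm' ⟨χ, hχ⟩; rw [h] at this; simpa using this)
    have hfs : (Char.fsIndicator χ).re = (m ⟨χ, hχ⟩ : ℝ) :=
      mul_left_cancel₀ (Nat.cast_ne_zero.2 hmne) hall
    have hm1 : (1 : ℝ) ≤ m ⟨χ, hχ⟩ := by exact_mod_cast Nat.one_le_iff_ne_zero.2 hmne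
    by_cases hr : ∀ g, (χ g).im = 0
    · refine ⟨?_, fun g => Complex.conj_eq_iff_im.2 (hr g)⟩
      rcases Char.fsIndicator_of_real ⟨χ, hχ⟩ hr with e | e
      · rw [show χ = (⟨χ, hχ⟩ : IrrCharacter G).1 from rfl, hm']
        rw [e] at hfs
        simp only [Complex.one_re] at hfs
        rw [show m ⟨χ, hχ⟩ = 1 by exact_mod_cast hfs.symm, Nat.cast_one]
      · exfalso
        rw [e] at hfs
        simp at hfs
        linarith
    · exfalso
      rw [Char.fsIndicator_of_not_real ⟨χ, hχ⟩ hr] at hfs
      simp at hfs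
      exact hmne (by exact_mod_cast hfs.symm)
  · intro hall a b
    obtain ⟨s, rfl⟩ := MulAction.exists_smul_eq G a b
    set H := MulAction.stabilizer G a with hH
    haveI : Fintype H := Fintype.ofFinite H
    set D : G → Prop := fun g => g • a ∈ MulAction.orbit H (s • a) with hD
    suffices hsinv : D s⁻¹ by
      obtain ⟨⟨h, hh⟩, hhs⟩ := hsinv
      have hhs' : h • s • a = s⁻¹ • a := hhs
      refine ⟨s * h, by rw [mul_smul, MulAction.mem_stabilizer_iff.1 hh], ?_⟩
      rw [mul_smul, hhs', smul_inv_smul]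
    by_contra hnot
    have hmemH : ∀ k ∈ H, k • a = a := fun k hk => MulAction.mem_stabilizer_iff.1 hk
    have hDleft : ∀ k ∈ H, ∀ g, D (k * g) ↔ D g := by
      have h : ∀ k ∈ H, ∀ g, D g → D (k * g) := by
        rintro k hk g ⟨r, hr⟩
        exact ⟨⟨k, hk⟩ * r, by
          show ((⟨k, hk⟩ : H) * r) • (s • a) = (k * g) • a
          rw [mul_smul, mul_smul]; exact congrArg (k • ·) hr⟩
      exact fun k hk g => ⟨fun hg => by simpa using h k⁻¹ (inv_mem hk) _ hg, h k hk g⟩
    have hDright : ∀ k ∈ H, ∀ g, D (g * k) ↔ D g := by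
      intro k hk g
      simp only [hD, mul_smul, hmemH k hk]
    let F : G → ℂ := fun g => (if D g then 1 else 0) - (if D g⁻¹ then 1 else 0)
    have hFs : F s = 1 := by
      have hs : D s := MulAction.mem_orbit_self _
      simp [F, hs, hnot]
    have hFl : ∀ k ∈ H, ∀ g, F (k * g) = F g := fun k hk g => by
      simp only [F, hDleft k hk, mul_inv_rev, hDright _ (inv_mem hk)]
    have hFr : ∀ k ∈ H, ∀ g, F (g * k) = F g := fun k hk g => by
      simp only [F, hDright k hk, mul_inv_rev, hDleft _ (inv_mem hk)]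
    -- every irreducible representation annihilates `F`
    have hzero : ∀ χ : IrrCharacter G, ∀ y : G, ∑ g : G, F g * χ.1 (g * y) = 0 := by
      intro χ
      obtain ⟨n, ρ, -, hρ⟩ := χ.2
      set X : Module.End ℂ (Fin n → ℂ) := ∑ g : G, F g • ρ g with hX
      set P := proj ρ H with hP
      suffices hX0 : X = 0 by
        intro y
        have : LinearMap.trace ℂ _ (X * ρ y) = 0 := by simp [hX0]
        simpa [hX, Finset.sum_mul, ← map_mul, ← hρ, Representation.character] using this
      have hH0 : (Nat.card H : ℂ) ≠ 0 := Nat.cast_ne_zero.2 Nat.card_pos.ne'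
      have hl : ∀ k : H, ρ k * X = X := fun k => by
        rw [hX, Finset.mul_sum]
        refine Fintype.sum_equiv (Equiv.mulLeft (k : G)) _ _ fun g => ?_
        simp [hFl _ k.2]
      have hr : ∀ k : H, X * ρ k = X := fun k => by
        rw [hX, Finset.sum_mul]
        refine Fintype.sum_equiv (Equiv.mulRight (k : G)) _ _ fun g => ?_
        simp [hFr _ k.2]
      have hPXP : P * X * P = X := by
        have h1 : P * X = X := by
          rw [hP, proj, smul_mul_assoc, Finset.sum_mul, Finset.sum_congr rfl fun k _ => hl k,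
            Finset.sum_const, Finset.card_univ, ← Nat.cast_smul_eq_nsmul ℂ, smul_smul,
            ← Nat.card_eq_fintype_card, inv_mul_cancel₀ hH0, one_smul]
        rw [h1, hP, proj, mul_smul_comm, Finset.mul_sum, Finset.sum_congr rfl fun k _ => hr k,
          Finset.sum_const, Finset.card_univ, ← Nat.cast_smul_eq_nsmul ℂ, smul_smul,
          ← Nat.card_eq_fintype_card, inv_mul_cancel₀ hH0, one_smul]
      have htr := classInner_perm_eq_conj_trace a ρ
      by_cases h0 : classInner π ρ.character = 0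
      · have hP0 : P = 0 := eq_zero_of_trace_zero (proj_mul_proj ρ H)
          (by rw [h0] at htr; exact (map_eq_zero _).1 htr.symm)
        rw [← hPXP, hP0, mul_zero]
      · obtain ⟨h1, hreal⟩ := hall _ (hρ ▸ χ.2) h0
        have htP : LinearMap.trace ℂ _ P = 1 := by
          rw [h1] at htr
          have := congrArg conj htr
          simpa using this.symm
        obtain ⟨c, hc⟩ := exists_smul_of_trace_one (proj_mul_proj ρ H) htP X
        rw [hPXP] at hc
        have htX : LinearMap.trace ℂ _ X = 0 := by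
          have h2 : ∀ g, ρ.character g⁻¹ = ρ.character g := fun g => by
            rw [CharInt.char_inv ⟨n, ρ, rfl⟩ g, hreal g]
          have h3 : LinearMap.trace ℂ _ X = ∑ g : G, F g * ρ.character g := by
            simp [hX, Representation.character]
          rw [h3]
          simp only [F, sub_mul, Finset.sum_sub_distrib, sub_eq_zero]
          refine Fintype.sum_equiv (Equiv.inv G) _ _ fun g => ?_
          simp [h2]
        rw [hc, map_smul, htP, smul_eq_mul, mul_one] at htX
        rw [hc, htX, zero_smul]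
    have hsum : ∑ χ : IrrCharacter G, χ.1 1 * ∑ g : G, F g * χ.1 (g * s⁻¹) =
        (Nat.card G : ℂ) * F s := by
      simp only [Finset.mul_sum]
      rw [Finset.sum_comm, Finset.sum_congr rfl fun g _ => Finset.sum_congr rfl fun (χ : IrrCharacter G) _ =>
        mul_left_comm (χ.1 1) (F g) (χ.1 (g * s⁻¹))]
      simp only [← Finset.mul_sum, Char.sum_irr_degree_mul, mul_inv_eq_one]
      rw [Finset.sum_eq_single s]
      · simp [mul_comm]
      · intro g _ hg; simp [hg]
      · simp
    rw [Finset.sum_eq_zero fun χ _ => by rw [hzero χ s⁻¹, mul_zero], hFs, mul_one] at hsum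
    exact Nat.cast_ne_zero.2 Nat.card_pos.ne' hsum.symm

end Cfsg.Agent.CharInt.PermHecke
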