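import Mathlib
import Cfsg.Agent.Lib.CharInt.Constituents
import Cfsg.Agent.Lib.CharInt.Central
import Cfsg.Agent.Lib.Char.Linear
import Cfsg.Agent.Lib.Char.KernelSum
import Cfsg.Agent.Lib.Char.Descend
import Cfsg.Agent.Lib.Frobenius.Basic

/-!
# Faithful irreducible characters of prime codegree

If `χ` is faithful irreducible with `|G| = p χ(1)` then `G` has a normal subgroup of order `p`
which is its own centralizer, so `G` is cyclic of order `p` or a Frobenius group.
-/

set_option linter.unusedSectionVars false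

namespace Cfsg.Agent.CharInt

open scoped ComplexConjugate commutatorElement

universe u

variable {G : Type u} [Group G] [Finite G]

theorem irr_ext_of_subsingleton [Subsingleton G] (χ : Cfsg.IrrCharacter G) : χ.1 = fun _ => 1 := by
  funext g
  rw [Subsingleton.elim g 1]
  exact Char.apply_one_of_comm (fun a b => Subsingleton.elim _ _) χ

/-- The structure of a group with a faithful irreducible character of prime codegree. -/
theorem exists_normal_selfCentralizing (χ : Cfsg.IrrCharacter G)
    (hfaith : ∀ g : G, χ.1 g = χ.1 1 → g = 1) {p : ℕ} (hp : p.Prime)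
    (hcod : Nat.card G = p * Char.degree χ) :
    ∃ P : Subgroup G, P.Normal ∧ Nat.card P = p ∧ P.index = Char.degree χ ∧
      Subgroup.centralizer (P : Set G) = P := by
  classical
  have : Fintype G := Fintype.ofFinite G
  have hpf := Fact.mk hp
  set n := Char.degree χ with hn
  have hn0 : 0 < n := Char.degree_pos χ
  have hχ1 : χ.1 1 = (n : ℂ) := Char.apply_one_eq_degree χ
  have hsq : ∑ ψ : Cfsg.IrrCharacter G, Char.degree ψ ^ 2 = Nat.card G := by
    have h := Char.sum_irr_mul_conj (1 : G) 1
    rw [if_pos (IsConj.refl 1)] at h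
    simp only [Char.apply_one_eq_degree, Complex.conj_natCast] at h
    have hc : Subgroup.centralizer ({1} : Set G) = ⊤ :=
      (Subgroup.eq_top_iff' _).2 fun x => Subgroup.mem_centralizer_singleton_iff.2 (by simp)
    rw [hc, Subgroup.card_top] at h
    have h2 : ((∑ ψ : Cfsg.IrrCharacter G, Char.degree ψ * Char.degree ψ : ℕ) : ℂ) = Nat.card G := by
      push_cast; exact h
    simpa [sq] using Nat.cast_injective h2
  have hlt : n < p := by
    by_cases hne : χ = Char.trivialChar G
    · have h1 : (n : ℂ) = 1 := by rw [← hχ1, hne]; rfl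
      have : n = 1 := by exact_mod_cast h1
      rw [this]; exact hp.one_lt
    · have hle : n ^ 2 + Char.degree (Char.trivialChar G) ^ 2 ≤ Nat.card G := by
        rw [← hsq, ← Finset.sum_pair (f := fun ψ => Char.degree ψ ^ 2) hne]
        exact Finset.sum_le_sum_of_subset (by simp)
      have hpos := Char.degree_pos (Char.trivialChar G)
      have : n ^ 2 < Nat.card G := by nlinarith
      rw [hcod] at this
      nlinarith
  obtain ⟨P⟩ := (inferInstance : Nonempty (Sylow p G))
  have hfac : (Nat.card G).factorization p = 1 := by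
    rw [hcod, Nat.factorization_mul hp.ne_zero hn0.ne', Finsupp.add_apply, hp.factorization_self,
      Nat.factorization_eq_zero_of_lt hlt]
  have hcardP : Nat.card (P : Subgroup G) = p := by rw [P.card_eq_multiplicity, hfac, pow_one]
  have hidx : (P : Subgroup G).index = n := by
    have := Subgroup.card_mul_index (P : Subgroup G)
    rw [hcardP, hcod] at this
    exact Nat.eq_of_mul_eq_mul_left hp.pos this
  have hnorm : (P : Subgroup G).Normal := by
    have h1 := card_sylow_modEq_one p G
    have h2 : Nat.card (Sylow p G) ∣ (P : Subgroup G).index := P.card_dvd_index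
    rw [hidx] at h2
    have h3 : Nat.card (Sylow p G) < p := lt_of_le_of_lt (Nat.le_of_dvd hn0 h2) hlt
    have h4 : Nat.card (Sylow p G) = 1 := by
      rw [Nat.ModEq, Nat.mod_eq_of_lt h3, Nat.mod_eq_of_lt hp.one_lt] at h1
      exact h1
    have : Subsingleton (Sylow p G) := (Nat.card_eq_one_iff_unique.1 h4).1
    exact P.normal_of_subsingleton
  refine ⟨P, hnorm, hcardP, hidx, ?_⟩
  set Q : Subgroup G := (P : Subgroup G) with hQ
  have hcyc : IsCyclic Q := isCyclic_of_prime_card hcardP
  have hcomm : ∀ a b : Q, a * b = b * a := fun a b => by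
    letI := hcyc.commGroup; exact mul_comm a b
  obtain ⟨θ, hθ⟩ := exists_constituent_res Q χ
  have hθ1 : θ.1 1 = 1 := Char.apply_one_of_comm hcomm θ
  have hind : χ.1 = Cfsg.indFun Q θ.1 :=
    eq_indFun_of_degree_eq (Char.irr_isCharacter θ) hθ (by rw [hidx, hθ1, hχ1, mul_one])
  obtain ⟨lam, hlam⟩ := Char.IsCharacter.exists_monoidHom (Char.irr_isCharacter θ) hθ1
  have hinj : ∀ x : Q, lam x = 1 → x = 1 := by
    intro x hx
    rcases Subgroup.eq_bot_or_eq_top_of_prime_card (hp := ⟨hcardP ▸ hp⟩) (MonoidHom.ker lam) with h | h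
    · exact Subgroup.mem_bot.1 (h ▸ (MonoidHom.mem_ker.2 hx))
    · -- then `Q` is in the kernel of `χ`
      refine Subtype.ext (hfaith (x : G) ?_)
      rw [hind]
      simp only [Cfsg.indFun]
      congr 1
      refine Finset.sum_congr rfl fun g _ => ?_
      have hmem : g⁻¹ * (x : G) * g ∈ Q := by simpa using hnorm.conj_mem (x : G) x.2 g⁻¹
      rw [Char.extendByZero_of_mem _ _ hmem, Char.extendByZero_of_mem _ _ (by simpa using Q.one_mem),
        ← hlam]
      have hall : ∀ q : Q, lam q = 1 := fun q => MonoidHom.mem_ker.1 (h ▸ Subgroup.mem_top q)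
      rw [hall, hall]
  -- the stabiliser of `lam` has order at most `|Q|`
  let St := Finset.univ.filter fun g : G =>
    ∀ x : Q, lam ⟨g⁻¹ * x * g, by simpa using hnorm.conj_mem (x : G) x.2 g⁻¹⟩ = lam x
  have hres : ∀ x : Q, χ.1 x = (Nat.card Q : ℂ)⁻¹ *
      ∑ g : G, lam ⟨g⁻¹ * x * g, by simpa using hnorm.conj_mem (x : G) x.2 g⁻¹⟩ := fun x => by
    rw [hind]
    simp only [Cfsg.indFun]
    congr 1
    exact Finset.sum_congr rfl fun g _ => by rw [Char.extendByZero_of_mem, ← hlam]
  have hone : Cfsg.classInner (fun x : Q => χ.1 x) θ.1 = 1 := by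
    have h := Char.classInner_indFun_right Q θ.1
      (Char.IsCharacter.isClassFunction (Char.irr_isCharacter χ))
    rw [← hind, Char.classInner_irr_self χ.2] at h
    exact h.symm
  let cj : G → Q →* ℂ := fun g =>
    { toFun := fun x => lam ⟨g⁻¹ * x * g, by simpa using hnorm.conj_mem (x : G) x.2 g⁻¹⟩
      map_one' := by
        have : (⟨g⁻¹ * ((1 : Q) : G) * g, by simpa using hnorm.conj_mem _ (1 : Q).2 g⁻¹⟩ : Q) = 1 :=
          Subtype.ext (by simp)
        rw [this, map_one]
      map_mul' := fun a b => by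
        rw [← map_mul]; congr 1; exact Subtype.ext (by simp [mul_assoc]) }
  have hSt : (St.card : ℂ) = (Nat.card Q : ℂ) := by
    have hQ0 : (Nat.card Q : ℂ) ≠ 0 := Nat.cast_ne_zero.2 Nat.card_pos.ne'
    have hsum : Cfsg.classInner (fun x : Q => χ.1 x) θ.1 =
        (Nat.card Q : ℂ)⁻¹ * ∑ g : G, Cfsg.classInner (cj g : Q → ℂ) (lam : Q → ℂ) := by
      simp only [Cfsg.classInner, hres, ← hlam, cj, MonoidHom.coe_mk, OneHom.coe_mk,
        Finset.mul_sum, Finset.sum_mul]
      rw [Finset.sum_comm]
      exact Finset.sum_congr rfl fun g _ => Finset.sum_congr rfl fun x _ => by ring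
    have hval : ∀ g : G, Cfsg.classInner (cj g : Q → ℂ) (lam : Q → ℂ) =
        if g ∈ St then 1 else 0 := by
      intro g
      split_ifs with hg
      · have : cj g = lam := MonoidHom.ext fun x => (Finset.mem_filter.1 hg).2 x
        rw [this]
        exact Char.classInner_irr_self (Char.isIrrCharacter_of_monoidHom lam)
      · refine Char.classInner_irr_of_ne (Char.isIrrCharacter_of_monoidHom _)
          (Char.isIrrCharacter_of_monoidHom lam) fun he => hg ?_
        exact Finset.mem_filter.2 ⟨Finset.mem_univ g, fun x => congrFun he x⟩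
    rw [hone, Finset.sum_congr rfl fun g _ => hval g, Finset.sum_boole,
      Finset.filter_univ_mem] at hsum
    field_simp at hsum
    exact hsum.symm
  have hle : Q ≤ Subgroup.centralizer (Q : Set G) := fun x hx => by
    rw [Subgroup.mem_centralizer_iff]
    exact fun y hy => congrArg Subtype.val (hcomm ⟨y, hy⟩ ⟨x, hx⟩)
  refine (Subgroup.eq_of_le_of_card_ge hle ?_).symm
  rw [show Nat.card Q = St.card by exact_mod_cast hSt.symm, Nat.card_eq_fintype_card,
    Fintype.card_subtype]
  refine Finset.card_le_card fun c hc => Finset.mem_filter.2 ⟨Finset.mem_univ c, fun x => ?_⟩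
  congr 1
  refine Subtype.ext ?_
  simp only
  rw [mul_assoc, Subgroup.mem_centralizer_iff.1 (Finset.mem_filter.1 hc).2 (x : G) x.2,
    inv_mul_cancel_left]

/-- Conjugations on a self-centralizing normal subgroup of prime order commute. -/
theorem commutator_le_of_selfCentralizing (P : Subgroup G) [P.Normal] {p : ℕ} (hp : p.Prime)
    (hcard : Nat.card P = p) (hC : Subgroup.centralizer (P : Set G) = P) : commutator G ≤ P := by
  have := Fact.mk hp
  have hcyc : IsCyclic P := isCyclic_of_prime_card hcard
  have hab : ∀ f f' : MulAut P, f * f' = f' * f := by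
    intro f f'
    obtain ⟨g, hg⟩ := hcyc.exists_generator
    obtain ⟨i, hi⟩ := Subgroup.mem_zpowers_iff.1 (hg (f g))
    obtain ⟨j, hj⟩ := Subgroup.mem_zpowers_iff.1 (hg (f' g))
    refine MulEquiv.ext fun x => ?_
    obtain ⟨l, rfl⟩ := Subgroup.mem_zpowers_iff.1 (hg x)
    simp only [MulAut.mul_apply, map_zpow, ← hi, ← hj, ← zpow_mul]
    congr 1; ring
  rw [commutator_def, Subgroup.commutator_le]
  intro a _ b _
  rw [← hC, Subgroup.mem_centralizer_iff]
  intro x hx
  let φ : G →* MulAut P := MulAut.conjNormal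
  have hc : φ ⁅a, b⁆ = 1 := by
    rw [commutatorElement_def, map_mul, map_mul, map_mul, map_inv, map_inv, hab (φ a) (φ b),
      mul_inv_cancel_right, mul_inv_cancel]
  have h2 := congrArg Subtype.val (DFunLike.congr_fun hc ⟨x, hx⟩)
  simp only [φ, MulAut.conjNormal_apply, MulAut.one_apply] at h2
  exact (mul_inv_eq_iff_eq_mul.1 h2).symm

/-- A self-centralizing normal subgroup of prime order and proper is a Frobenius kernel. -/
theorem exists_frobenius_of_selfCentralizing (P : Subgroup G) [P.Normal] {p : ℕ} (hp : p.Prime)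
    (hcard : Nat.card P = p) (hC : Subgroup.centralizer (P : Set G) = P) (hne : P ≠ ⊤)
    (hcop : Nat.Coprime p P.index) :
    ∃ H : Subgroup G, Cfsg.IsFrobeniusComplement H ∧ Nat.card (Cfsg.frobeniusKernel H) = p := by
  obtain ⟨H, hH⟩ := Subgroup.exists_right_complement'_of_coprime (N := P) (by rwa [hcard])
  have hidx : Nat.card H = P.index := hH.symm.index_eq_card.symm
  have hP : P ≠ ⊥ := fun h => hp.one_lt.ne' (by rw [← hcard, h, Subgroup.card_bot])
  have hHne : H ≠ ⊥ := fun h => hne (Subgroup.index_eq_one.1 (by rw [← hidx, h, Subgroup.card_bot]))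
  have hF : Cfsg.IsFrobeniusComplement H :=
    (Frobenius.isFrobeniusComplement_iff hH hP hHne).2 fun h hh h1 => by
      refine (Subgroup.eq_bot_iff_forall _).2 fun k hk => ?_
      by_contra hk1
      obtain ⟨hkP, hkc⟩ := Subgroup.mem_inf.1 hk
      apply h1
      have hmem : h ∈ Subgroup.centralizer (P : Set G) := by
        rw [Subgroup.mem_centralizer_iff]
        intro x hx
        have := Fact.mk hp
        have hgen : (⟨x, hx⟩ : P) ∈ Subgroup.zpowers (⟨k, hkP⟩ : P) :=
          mem_zpowers_of_prime_card hcard (fun e => hk1 (congrArg Subtype.val e))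
        obtain ⟨i, hi⟩ := Subgroup.mem_zpowers_iff.1 hgen
        have hi' : k ^ i = x := by simpa using congrArg Subtype.val hi
        rw [← hi']
        exact (Commute.zpow_left (Subgroup.mem_centralizer_singleton_iff.1 hkc : Commute k h) i).eq
      rw [hC] at hmem
      exact Subgroup.mem_bot.1 (hH.disjoint.eq_bot ▸ Subgroup.mem_inf.2 ⟨hmem, hh⟩)
  refine ⟨H, hF, ?_⟩
  rw [Frobenius.card_kernel hF, hH.index_eq_card, hcard]

end Cfsg.Agent.CharInt
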